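import Mathlib
import Cfsg.Prelude.Def_Sporadic_a
import Cfsg.Agent.Leech.AbstractCode

/-! Uniqueness of the self-dual doubly even code of length 24 and minimum weight eight. -/

set_option autoImplicit false

namespace Cfsg.Agent.Leech.Unique
open Cfsg

variable {α : Type*} [Fintype α] [DecidableEq α]

/-- the hypotheses on a code -/
structure GoodCode (C : Submodule (ZMod 2) (α → ZMod 2)) : Prop where
  card : Fintype.card α = 24
  dim : Module.finrank (ZMod 2) C = 12
  orth : ∀ v ∈ C, ∀ w ∈ C, ∑ i, v i * w i = 0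
  four : ∀ w ∈ C, 4 ∣ hammingNorm w
  min : ∀ w ∈ C, w ≠ 0 → 8 ≤ hammingNorm w

theorem linear_eq_dot (f : (α → ZMod 2) →ₗ[ZMod 2] ZMod 2) (v : α → ZMod 2) :
    f v = ∑ i, f (Pi.single i 1) * v i := by
  conv_lhs => rw [pi_eq_sum_univ' v]
  simp only [map_sum, map_smul, smul_eq_mul]
  exact Finset.sum_congr rfl fun p _ => mul_comm _ _

theorem dot_indic (v : α → ZMod 2) (S : Finset α) : ∑ i, v i * indic S i = ∑ i ∈ S, v i := by
  simp only [indic, mul_ite, mul_one, mul_zero, ← Finset.sum_filter]
  exact Finset.sum_congr (Finset.filter_univ_mem S) fun _ _ => rfl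

theorem support₂_eq_zero {v : α → ZMod 2} {i : α} : i ∉ support₂ v ↔ v i = 0 := by
  rw [mem_support₂]
  rcases zmod2_cases (v i) with e | e <;> simp [e]

theorem sum_eq_card (v : α → ZMod 2) : ∑ i, v i = (hammingNorm v : ZMod 2) := by
  rw [hammingNorm, Finset.natCast_card_filter]
  refine Finset.sum_congr rfl fun i _ => ?_
  rcases zmod2_cases (v i) with e | e <;> simp [e]

theorem GoodCode.self_dual {C : Submodule (ZMod 2) (α → ZMod 2)} (hC : GoodCode C) {w : α → ZMod 2}
    (h : ∀ c ∈ C, ∑ i, c i * w i = 0) : w ∈ C := by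
  set φ := (dotProductEquiv (ZMod 2) α)
  set P : Submodule (ZMod 2) (α → ZMod 2) := C.dualAnnihilator.comap φ.toLinearMap with hP
  have hmem : ∀ v, v ∈ P ↔ ∀ c ∈ C, ∑ i, v i * c i = 0 := fun v => by
    rw [hP, Submodule.mem_comap, Submodule.mem_dualAnnihilator]
    simp [φ, dotProduct]
  have hle : C ≤ P := fun v hv => (hmem v).2 fun c hc => hC.orth v hv c hc
  have hdim : Module.finrank (ZMod 2) P = 12 := by
    have h1 := Subspace.finrank_add_finrank_dualAnnihilator_eq (K := ZMod 2) C
    rw [hC.dim, Module.finrank_pi, hC.card] at h1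
    have h2 : P = C.dualAnnihilator.map φ.symm.toLinearMap := by
      rw [hP, Submodule.comap_equiv_eq_map_symm]
    rw [h2, LinearEquiv.finrank_map_eq]
    omega
  rw [Submodule.eq_of_le_of_finrank_eq hle (hC.dim.trans hdim.symm), hmem]
  exact fun c hc => by rw [← h c hc]; exact Finset.sum_congr rfl fun i _ => mul_comm _ _

theorem GoodCode.one_mem {C : Submodule (ZMod 2) (α → ZMod 2)} (hC : GoodCode C) : (1 : α → ZMod 2) ∈ C :=
  hC.self_dual fun c hc => by
    simp only [Pi.one_apply, mul_one, sum_eq_card, ZMod.natCast_eq_zero_iff]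
    exact (by norm_num : 2 ∣ 4).trans (hC.four c hc)

/-- prescribing the values on a set of positions -/
theorem GoodCode.exists_restrict {C : Submodule (ZMod 2) (α → ZMod 2)} (hC : GoodCode C)
    (S : Finset α) (x : α → ZMod 2)
    (h : ∀ s ∈ C, (∀ i, i ∉ S → s i = 0) → ∑ i, s i * x i = 0) :
    ∃ c ∈ C, ∀ i ∈ S, c i = x i := by
  let r : (α → ZMod 2) →ₗ[ZMod 2] (α → ZMod 2) :=
    { toFun := fun v i => if i ∈ S then v i else 0
      map_add' := fun v w => by funext i; by_cases hi : i ∈ S <;> simp [hi]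
      map_smul' := fun a v => by funext i; by_cases hi : i ∈ S <;> simp [hi] }
  by_cases hx : r x ∈ C.map r
  · obtain ⟨c, hc, e⟩ := hx
    exact ⟨c, hc, fun i hi => by simpa [r, hi] using congrFun e i⟩
  exfalso
  obtain ⟨f, hf, hfR⟩ := Submodule.exists_dual_map_eq_bot_of_notMem hx inferInstance
  set s := r fun i => f (Pi.single i 1) with hs
  have key : ∀ v, ∑ i, s i * v i = f (r v) := fun v => by
    rw [linear_eq_dot f (r v)]
    refine Finset.sum_congr rfl fun i _ => ?_
    by_cases hi : i ∈ S <;> simp [hs, r, hi]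
  have hsC : s ∈ C := hC.self_dual fun c hc => by
    have : f (r c) ∈ (C.map r).map f := Submodule.mem_map_of_mem (Submodule.mem_map_of_mem hc)
    rw [hfR, Submodule.mem_bot] at this
    rw [← this, ← key]
    exact Finset.sum_congr rfl fun i _ => mul_comm _ _
  exact hf ((key x).symm.trans (h s hsC fun i hi => by simp [hs, r, hi]))

/-- a word in the code supported inside an octad -/
theorem GoodCode.inside_octad {C : Submodule (ZMod 2) (α → ZMod 2)} (hC : GoodCode C)
    {O : Finset α} (hO : indic O ∈ C) (h8 : O.card = 8) {s : α → ZMod 2} (hs : s ∈ C)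
    (hin : ∀ i, i ∉ O → s i = 0) : s = 0 ∨ s = indic O := by
  by_cases h0 : s = 0
  · exact Or.inl h0
  right
  have hsub : support₂ s ⊆ O := fun i hi => by
    by_contra hn
    rw [mem_support₂, hin i hn] at hi
    exact zero_ne_one hi
  have h8' := hC.min s hs h0
  rw [hammingNorm_eq_card] at h8'
  refine eq_of_support₂_eq ?_
  rw [support₂_indic]
  exact Finset.eq_of_subset_of_card_le hsub (by omega)

theorem GoodCode.octad_surj {C : Submodule (ZMod 2) (α → ZMod 2)} (hC : GoodCode C)
    {O : Finset α} (hO : indic O ∈ C) (h8 : O.card = 8) (x : α → ZMod 2) (hx : ∑ i ∈ O, x i = 0) :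
    ∃ c ∈ C, ∀ i ∈ O, c i = x i := by
  refine hC.exists_restrict O x fun s hs hin => ?_
  rcases hC.inside_octad hO h8 hs hin with rfl | rfl
  · simp
  · rw [← hx, ← dot_indic x O]
    exact Finset.sum_congr rfl fun i _ => mul_comm _ _

theorem GoodCode.sum_octad {C : Submodule (ZMod 2) (α → ZMod 2)} (hC : GoodCode C)
    {O : Finset α} (hO : indic O ∈ C) {c : α → ZMod 2} (hc : c ∈ C) : ∑ i ∈ O, c i = 0 :=
  (dot_indic c O).symm.trans (hC.orth c hc _ hO)

/-- words vanishing on a set -/
def vanish (C : Submodule (ZMod 2) (α → ZMod 2)) (O : Finset α) : Submodule (ZMod 2) (α → ZMod 2) where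
  carrier := {v | v ∈ C ∧ ∀ i ∈ O, v i = 0}
  add_mem' := fun {a b} ha hb => ⟨add_mem ha.1 hb.1, fun i hi => by simp [ha.2 i hi, hb.2 i hi]⟩
  zero_mem' := ⟨zero_mem _, fun _ _ => rfl⟩
  smul_mem' := fun r {a} ha => ⟨C.smul_mem r ha.1, fun i hi => by simp [ha.2 i hi]⟩

/-- coordinates for the words vanishing on an octad -/
theorem GoodCode.coords {C : Submodule (ZMod 2) (α → ZMod 2)} (hC : GoodCode C)
    {O : Finset α} (hO : indic O ∈ C) (h8 : O.card = 8) :
    ∃ w : Fin 4 → α → ZMod 2, (∀ j, w j ∈ vanish C O) ∧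
      (∀ k ∈ vanish C O, ∃ (a : ZMod 2) (b : Fin 4 → ZMod 2),
        k = a • (1 + indic O) + ∑ j, b j • w j) ∧
      Function.Bijective (fun (i : {i : α // i ∉ O}) (j : Fin 4) => w j i) := by
  classical
  obtain ⟨a0, ha0⟩ : O.Nonempty := Finset.card_pos.1 (by omega)
  set T := O.erase a0
  let φ : C →ₗ[ZMod 2] (T → ZMod 2) :=
    { toFun := fun c t => (c : α → ZMod 2) t
      map_add' := fun _ _ => rfl
      map_smul' := fun _ _ => rfl }
  have hsurj : Function.Surjective φ := fun x => by
    let x' : α → ZMod 2 := fun i => if h : i ∈ T then x ⟨i, h⟩ else 0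
    obtain ⟨c, hc, hcx⟩ := hC.octad_surj hO h8 (Function.update x' a0 (∑ i ∈ T, x' i)) (by
      rw [← Finset.add_sum_erase _ _ ha0, Function.update_self,
        Finset.sum_congr rfl fun i hi => Function.update_of_ne (Finset.ne_of_mem_erase hi) _ _]
      exact CharTwo.add_self_eq_zero _)
    refine ⟨⟨c, hc⟩, funext fun t => ?_⟩
    show c t = x t
    rw [hcx t (Finset.mem_of_mem_erase t.2), Function.update_of_ne (Finset.ne_of_mem_erase t.2)]
    exact dif_pos t.2
  have hker : (LinearMap.ker φ).map C.subtype = vanish C O := by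
    ext v
    constructor
    · rintro ⟨c, hc, rfl⟩
      refine ⟨c.2, fun i hi => ?_⟩
      have hT : ∀ t ∈ T, (c : α → ZMod 2) t = 0 := fun t ht => congrFun (LinearMap.mem_ker.1 hc) ⟨t, ht⟩
      by_cases h : i = a0
      · have := hC.sum_octad hO c.2
        rw [← Finset.add_sum_erase _ _ ha0, Finset.sum_eq_zero hT, add_zero] at this
        rw [h]; exact this
      · exact hT i (Finset.mem_erase.2 ⟨h, hi⟩)
    · rintro ⟨hv, h0⟩
      exact ⟨⟨v, hv⟩, LinearMap.mem_ker.2 (funext fun t => h0 t (Finset.mem_of_mem_erase t.2)), rfl⟩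
  have hdimK : Module.finrank (ZMod 2) (vanish C O) = 5 := by
    have h1 := LinearMap.finrank_range_add_finrank_ker φ
    rw [LinearMap.range_eq_top.2 hsurj, finrank_top, Module.finrank_pi, hC.dim,
      Fintype.card_coe, Finset.card_erase_of_mem ha0, h8] at h1
    rw [← hker, Submodule.finrank_map_subtype_eq]
    omega
  have hu : (1 + indic O : α → ZMod 2) ∈ vanish C O :=
    ⟨add_mem hC.one_mem hO, fun i hi => by simp [indic, hi, CharTwo.add_self_eq_zero]⟩
  obtain ⟨b, hb⟩ : ∃ b, b ∉ O := by
    by_contra hall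
    push Not at hall
    have := Finset.card_le_card (fun i _ => hall i : Finset.univ ⊆ O)
    rw [Finset.card_univ, hC.card] at this
    omega
  have hu0 : (⟨1 + indic O, hu⟩ : vanish C O) ≠ 0 := fun e => by
    have := congrFun (congrArg Subtype.val e) b
    simp [indic, hb] at this
  set L := Submodule.span (ZMod 2) {(⟨1 + indic O, hu⟩ : vanish C O)} with hL
  obtain ⟨W, hW⟩ := Submodule.exists_isCompl L
  have hW4 : Module.finrank (ZMod 2) W = 4 := by
    have := Submodule.finrank_add_eq_of_isCompl hW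
    rw [hL, finrank_span_singleton hu0, hdimK] at this
    omega
  let B := Module.finBasisOfFinrankEq (ZMod 2) W hW4
  let w : Fin 4 → α → ZMod 2 := fun j => (((B j : W) : vanish C O) : α → ZMod 2)
  have hspan : ∀ k ∈ vanish C O, ∃ (a : ZMod 2) (b : Fin 4 → ZMod 2),
      k = a • (1 + indic O) + ∑ j, b j • w j := by
    intro k hk
    have hmem : (⟨k, hk⟩ : vanish C O) ∈ L ⊔ W := by rw [hW.sup_eq_top]; trivial
    obtain ⟨x, hx, y, hy, e⟩ := Submodule.mem_sup.1 hmem
    obtain ⟨a, rfl⟩ := Submodule.mem_span_singleton.1 hx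
    refine ⟨a, fun j => B.repr ⟨y, hy⟩ j, ?_⟩
    have e2 : (y : α → ZMod 2) = ∑ j, B.repr ⟨y, hy⟩ j • w j := by
      have := congrArg (fun z : W => (((z : W) : vanish C O) : α → ZMod 2)) (B.sum_repr ⟨y, hy⟩)
      simp only [Submodule.coe_sum, Submodule.coe_smul] at this
      exact this.symm
    rw [← e2]
    exact (congrArg Subtype.val e).symm
  have hwm : ∀ j, w j ∈ vanish C O := fun j => ((B j : W) : vanish C O).2
  refine ⟨w, hwm, hspan, ?_⟩
  rw [Fintype.bijective_iff_injective_and_card]
  refine ⟨fun p q hpq => ?_, by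
    rw [Fintype.card_subtype_compl, Fintype.card_coe, hC.card, h8]; simp⟩
  by_contra hne
  have hagree : ∀ k ∈ vanish C O, k p.1 = k q.1 := fun k hk => by
    obtain ⟨a, b, rfl⟩ := hspan k hk
    simp only [Pi.add_apply, Pi.smul_apply, Finset.sum_apply, Pi.one_apply, indic, if_neg p.2,
      if_neg q.2, show ∀ j, w j p.1 = w j q.1 from fun j => congrFun hpq j]
  set x : α → ZMod 2 := indic {p.1, q.1} with hx
  have hpq' : p.1 ≠ q.1 := fun e => hne (Subtype.ext e)
  obtain ⟨c, hc, hcx⟩ := hC.exists_restrict (Finset.univ \ O) x (by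
    intro s hs hin
    rw [hx, dot_indic, Finset.sum_pair hpq', hagree s ⟨hs, fun i hi => hin i (by simp [hi])⟩]
    exact CharTwo.add_self_eq_zero _)
  have hsupp : support₂ c \ O = {p.1, q.1} := by
    ext i
    simp only [Finset.mem_sdiff, mem_support₂, Finset.mem_insert, Finset.mem_singleton]
    constructor
    · rintro ⟨h1, h2⟩
      rw [hcx i (by simp [h2]), hx] at h1
      simpa [indic, or_iff_not_imp_left] using h1
    · intro h
      have hi : i ∉ O := by rcases h with rfl | rfl; exacts [p.2, q.2]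
      exact ⟨by rw [hcx i (by simp [hi]), hx]; simp [indic, h], hi⟩
  have h2 : (support₂ c \ O).card = 2 := by rw [hsupp, Finset.card_pair hpq']
  have hle : (support₂ c ∩ O).card ≤ 8 := (Finset.card_le_card Finset.inter_subset_right).trans h8.le
  have hc0 : c ≠ 0 := fun e => by
    rw [e] at h2
    simp [support₂] at h2
  have hw1 := hC.min c hc hc0
  obtain ⟨m, hm⟩ := hC.four c hc
  have hsum := Finset.card_sdiff_add_card_inter (support₂ c) O
  rw [hammingNorm_eq_card] at hw1 hm
  have hwa := weight_add c (indic O)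
  rw [support₂_indic, hammingNorm_eq_card c, hammingNorm_eq_card (indic O), support₂_indic, h8] at hwa
  have hne' : c + indic O ≠ 0 := fun e => by
    have := congrFun e p.1
    rw [Pi.add_apply, hcx p.1 (by simp [p.2]), hx] at this
    simp [indic, p.2] at this
  have := hC.min _ (add_mem hc hO) hne'
  omega

variable {β : Type*} [Fintype β] [DecidableEq β]

/-- moving a code along a bijection -/
def moveCode (e : α ≃ β) (C : Submodule (ZMod 2) (α → ZMod 2)) : Submodule (ZMod 2) (β → ZMod 2) :=
  C.map (LinearEquiv.funCongrLeft (ZMod 2) (ZMod 2) e.symm).toLinearMap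

theorem mem_moveCode {e : α ≃ β} {C : Submodule (ZMod 2) (α → ZMod 2)} {v : β → ZMod 2} :
    v ∈ moveCode e C ↔ (fun i => v (e i)) ∈ C := by
  constructor
  · rintro ⟨c, hc, rfl⟩
    simpa [LinearEquiv.funCongrLeft_apply, LinearMap.funLeft] using hc
  · intro h
    exact ⟨_, h, funext fun j => by simp [LinearEquiv.funCongrLeft_apply, LinearMap.funLeft]⟩

theorem norm_comp (e : α ≃ β) (v : β → ZMod 2) : hammingNorm (fun i => v (e i)) = hammingNorm v :=
  Finset.card_equiv e fun i => by simp

theorem GoodCode.move {C : Submodule (ZMod 2) (α → ZMod 2)} (hC : GoodCode C) (e : α ≃ β) :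
    GoodCode (moveCode e C) where
  card := by rw [← Fintype.card_congr e, hC.card]
  dim := by rw [moveCode, LinearEquiv.finrank_map_eq, hC.dim]
  orth v hv w hw := by
    rw [← hC.orth _ (mem_moveCode.1 hv) _ (mem_moveCode.1 hw)]
    exact (Fintype.sum_equiv e _ _ fun i => rfl).symm
  four v hv := norm_comp e v ▸ hC.four _ (mem_moveCode.1 hv)
  min v hv h0 := norm_comp e v ▸ hC.min _ (mem_moveCode.1 hv) fun h => h0 (funext fun j => by
    simpa using congrFun h (e.symm j))

theorem GoodCode.exists_octad {C : Submodule (ZMod 2) (α → ZMod 2)} (hC : GoodCode C) :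
    ∃ O : Finset α, indic O ∈ C ∧ O.card = 8 := by
  obtain ⟨w, hw, h8⟩ := exists_weight_eight C hC.card hC.dim hC.orth hC.min
  refine ⟨support₂ w, ?_, by rw [← hammingNorm_eq_card]; exact h8⟩
  rwa [show indic (support₂ w) = w from eq_of_support₂_eq (support₂_indic _)]

theorem pairs_star (O : Finset α) (T : Finset α) (hT : T.card = 7) (s : α → Finset α)
    (h2 : ∀ k ∈ T, (s k).card = 2 ∧ s k ⊆ O)
    (hone : ∀ k ∈ T, ∀ l ∈ T, k ≠ l → (s k ∩ s l).card = 1) : ∃ a ∈ O, ∀ k ∈ T, a ∈ s k := by
  obtain ⟨k1, hk1, k2, hk2, h12⟩ := Finset.one_lt_card.1 (by omega : 1 < T.card)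
  obtain ⟨a, ha⟩ := Finset.card_eq_one.1 (hone k1 hk1 k2 hk2 h12)
  have ha' : a ∈ s k1 ∩ s k2 := by rw [ha]; exact Finset.mem_singleton_self a
  rw [Finset.mem_inter] at ha'
  refine ⟨a, (h2 k1 hk1).2 ha'.1, fun k hk => ?_⟩
  by_contra hak
  obtain ⟨b, hb⟩ := Finset.card_eq_one.1 (show (s k1 \ {a}).card = 1 by
    rw [Finset.card_sdiff_of_subset (by simpa using ha'.1), (h2 k1 hk1).1]; rfl)
  obtain ⟨c, hc⟩ := Finset.card_eq_one.1 (show (s k2 \ {a}).card = 1 by
    rw [Finset.card_sdiff_of_subset (by simpa using ha'.2), (h2 k2 hk2).1]; rfl)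
  have hs1 : s k1 = {a, b} := by
    rw [← Finset.sdiff_union_of_subset (show {a} ⊆ s k1 by simpa using ha'.1), hb]
    ext; simp [or_comm]
  have hs2 : s k2 = {a, c} := by
    rw [← Finset.sdiff_union_of_subset (show {a} ⊆ s k2 by simpa using ha'.2), hc]
    ext; simp [or_comm]
  have meet : ∀ l ∈ T, ∀ m ∈ T, l ≠ m → ∃ x, x ∈ s l ∧ x ∈ s m := fun l hl m hm hne => by
    obtain ⟨x, hx⟩ := Finset.card_eq_one.1 (hone l hl m hm hne)
    exact ⟨x, Finset.mem_inter.1 (hx ▸ Finset.mem_singleton_self x)⟩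
  have hbk : ∀ l ∈ T, a ∉ s l → b ∈ s l ∧ c ∈ s l := by
    intro l hl hal
    obtain ⟨x, x1, x2⟩ := meet l hl k1 hk1 fun e => hal (e ▸ ha'.1)
    obtain ⟨y, y1, y2⟩ := meet l hl k2 hk2 fun e => hal (e ▸ ha'.2)
    rw [hs1, Finset.mem_insert, Finset.mem_singleton] at x2
    rw [hs2, Finset.mem_insert, Finset.mem_singleton] at y2
    exact ⟨x2.resolve_left (fun e => hal (e ▸ x1)) ▸ x1, y2.resolve_left (fun e => hal (e ▸ y1)) ▸ y1⟩
  have hbc : b ≠ c := fun e => by
    have := hone k1 hk1 k2 hk2 h12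
    rw [hs1, hs2, e, Finset.inter_self, ← hs2, (h2 k2 hk2).1] at this
    omega
  have hseq : ∀ l ∈ T, a ∉ s l → s l = {b, c} := fun l hl hal =>
    (Finset.eq_of_subset_of_card_le (by
      intro x hx
      simp only [Finset.mem_insert, Finset.mem_singleton] at hx
      rcases hx with rfl | rfl
      exacts [(hbk l hl hal).1, (hbk l hl hal).2]) (by rw [(h2 l hl).1, Finset.card_pair hbc])).symm
  -- a fourth pair
  obtain ⟨m, hm, hm'⟩ := Finset.exists_mem_notMem_of_card_lt_card
    (show ({k1, k2, k} : Finset α).card < T.card from Nat.lt_of_le_of_lt Finset.card_le_three (by omega))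
  simp only [Finset.mem_insert, Finset.mem_singleton, not_or] at hm'
  have hk := hseq k hk hak
  by_cases ham : a ∈ s m
  · obtain ⟨x, x1, x2⟩ := meet m hm k ‹k ∈ T› hm'.2.2
    rw [hk, Finset.mem_insert, Finset.mem_singleton] at x2
    have hxa : x ≠ a := fun e => hak (by rw [hk]; subst e; simpa using x2)
    have hsm : s m = {a, x} := (Finset.eq_of_subset_of_card_le (by
      intro y hy
      simp only [Finset.mem_insert, Finset.mem_singleton] at hy
      rcases hy with rfl | rfl <;> assumption) (by rw [(h2 m hm).1, Finset.card_pair (Ne.symm hxa)])).symm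
    rcases x2 with rfl | rfl
    · have := hone m hm k1 hk1 hm'.1
      rw [hsm, ← hs1, Finset.inter_self, (h2 k1 hk1).1] at this
      omega
    · have := hone m hm k2 hk2 hm'.2.1
      rw [hsm, ← hs2, Finset.inter_self, (h2 k2 hk2).1] at this
      omega
  · have := hone m hm k ‹k ∈ T› hm'.2.2
    rw [hseq m hm ham, hk, Finset.inter_self, Finset.card_pair hbc] at this
    omega

/-- two codes with a common octad and common words vanishing on it -/
theorem same_frame {C D : Submodule (ZMod 2) (α → ZMod 2)} (hC : GoodCode C) (hD : GoodCode D)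
    {O : Finset α} (hOC : indic O ∈ C) (hOD : indic O ∈ D) (h8 : O.card = 8)
    (hK : vanish C O = vanish D O) : ∃ f : α ≃ α, moveCode f C = D := by
  classical
  set R : (α → ZMod 2) → (α → ZMod 2) → Prop := fun x y =>
    ∃ c ∈ C, ∃ d ∈ D, (∀ i ∈ O, c i = x i) ∧ (∀ i ∈ O, d i = y i) ∧ ∀ i, i ∉ O → c i = d i with hR
  have hRadd : ∀ {x y x' y'}, R x y → R x' y' → R (x + x') (y + y') := by
    rintro x y x' y' ⟨c, hc, d, hd, h1, h2, h3⟩ ⟨c', hc', d', hd', h1', h2', h3'⟩
    exact ⟨c + c', add_mem hc hc', d + d', add_mem hd hd', fun i hi => by simp [h1 i hi, h1' i hi],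
      fun i hi => by simp [h2 i hi, h2' i hi], fun i hi => by simp [h3 i hi, h3' i hi]⟩
  have hR0 : ∀ {y}, R 0 y → (∀ i, i ∉ O → y i = 0) → y = 0 ∨ y = indic O := by
    rintro y ⟨c, hc, d, hd, h1, h2, h3⟩ hy
    have hcK : c ∈ vanish D O := hK ▸ ⟨hc, fun i hi => h1 i hi⟩
    refine hD.inside_octad hOD h8 ?_ hy
    convert add_mem hd hcK.1 using 1
    funext i
    by_cases hi : i ∈ O
    · simp [h2 i hi, show c i = 0 from h1 i hi]
    · simp [hy i hi, h3 i hi, CharTwo.add_self_eq_zero]
  have hpar : ∀ {x y}, R x y → (4 : ℕ) ∣ ((support₂ x ∩ O).card + 3 * (support₂ y ∩ O).card) := by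
    rintro x y ⟨c, hc, d, hd, h1, h2, h3⟩
    have e1 : support₂ c ∩ O = support₂ x ∩ O := by
      ext i
      simp only [Finset.mem_inter, mem_support₂]
      exact and_congr_left fun hi => by rw [h1 i hi]
    have e2 : support₂ d ∩ O = support₂ y ∩ O := by
      ext i
      simp only [Finset.mem_inter, mem_support₂]
      exact and_congr_left fun hi => by rw [h2 i hi]
    have e3 : support₂ c \ O = support₂ d \ O := by
      ext i
      simp only [Finset.mem_sdiff, mem_support₂]
      exact and_congr_left fun hi => by rw [h3 i hi]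
    obtain ⟨m, hm⟩ := hC.four c hc
    obtain ⟨n, hn⟩ := hD.four d hd
    rw [hammingNorm_eq_card, ← Finset.card_sdiff_add_card_inter (support₂ c) O, e1] at hm
    rw [hammingNorm_eq_card, ← Finset.card_sdiff_add_card_inter (support₂ d) O, e2, ← e3] at hn
    omega
  -- total
  have htot : ∀ x : α → ZMod 2, ∑ i ∈ O, x i = 0 → ∃ y, (∀ i, i ∉ O → y i = 0) ∧ R x y := by
    intro x hx
    obtain ⟨c, hc, hcx⟩ := hC.octad_surj hOC h8 x hx
    obtain ⟨d, hd, hdc⟩ := hD.exists_restrict (Finset.univ \ O) c (by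
      intro s hs hin
      have : s ∈ vanish C O := hK ▸ ⟨hs, fun i hi => hin i (by simp [hi])⟩
      exact hC.orth s this.1 c hc)
    refine ⟨fun i => if i ∈ O then d i else 0, fun i hi => if_neg hi,
      c, hc, d, hd, hcx, fun i hi => (if_pos hi).symm, fun i hi => (hdc i (by simp [hi])).symm⟩
  obtain ⟨a0, ha0⟩ : O.Nonempty := Finset.card_pos.1 (by omega)
  set T := O.erase a0 with hTdef
  have hT7 : T.card = 7 := by rw [hTdef, Finset.card_erase_of_mem ha0, h8]
  have hpair : ∀ a ∈ O, ∀ b ∈ O, a ≠ b → ∃ s : Finset α, s.card = 2 ∧ s ⊆ O ∧ R (indic {a, b}) (indic s) := by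
    intro a ha b hb hab
    obtain ⟨y, hy, hxy⟩ := htot (indic {a, b}) (by
      rw [← dot_indic]
      simp only [indic, ite_mul, one_mul, zero_mul, ← Finset.sum_filter, Finset.filter_univ_mem,
        Finset.sum_pair hab, if_pos ha, if_pos hb]
      exact CharTwo.add_self_eq_zero _)
    have hsub : support₂ y ⊆ O := fun i hi => by
      by_contra hn
      rw [mem_support₂, hy i hn] at hi
      exact zero_ne_one hi
    have hp := hpar hxy
    rw [support₂_indic, Finset.inter_eq_left.2 (by simp [Finset.insert_subset_iff, ha, hb]),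
      Finset.card_pair hab, Finset.inter_eq_left.2 hsub] at hp
    have hle := Finset.card_le_card hsub
    by_cases h2 : (support₂ y).card = 2
    · exact ⟨_, h2, hsub, by
        rwa [show indic (support₂ y) = y from eq_of_support₂_eq (support₂_indic _)]⟩
    have h6 : (support₂ y).card = 6 := by omega
    refine ⟨O \ support₂ y, by rw [Finset.card_sdiff_of_subset hsub, h8, h6], Finset.sdiff_subset, ?_⟩
    have hz : R 0 (indic O) := ⟨0, zero_mem _, indic O, hOD, fun i _ => rfl, fun i _ => rfl,
      fun i hi => by simp [indic, hi]⟩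
    have e : y + indic O = indic (O \ support₂ y) := by
      funext i
      by_cases hi : i ∈ O
      · rcases zmod2_cases (y i) with h | h <;> simp [indic, hi, mem_support₂, h, CharTwo.add_self_eq_zero]
      · simp [indic, hi, hy i hi]
    have := hRadd hxy hz
    rwa [add_zero, e] at this
  choose! S hS2 hSO hSR using hpair
  have hdist : ∀ k ∈ T, ∀ l ∈ T, k ≠ l → (S a0 k ∩ S a0 l).card = 1 := by
    intro k hk l hl hkl
    obtain ⟨hk0, hkO⟩ := Finset.mem_erase.1 hk
    obtain ⟨hl0, hlO⟩ := Finset.mem_erase.1 hl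
    have hsum : indic ({a0, k} : Finset α) + indic {a0, l} = indic {k, l} := by
      funext i
      by_cases h1 : i = a0
      · subst h1
        simp [indic, Ne.symm hk0, Ne.symm hl0, CharTwo.add_self_eq_zero]
      by_cases h2 : i = k
      · subst h2; simp [indic, h1, hkl]
      by_cases h3 : i = l
      · subst h3; simp [indic, h1, Ne.symm hkl]
      simp [indic, h1, h2, h3]
    have h := hRadd (hRadd (hSR a0 ha0 k hkO (Ne.symm hk0)) (hSR a0 ha0 l hlO (Ne.symm hl0)))
      (hSR k hkO l hlO hkl)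
    rw [hsum, show indic ({k, l} : Finset α) + indic {k, l} = 0 from
      funext fun i => CharTwo.add_self_eq_zero _] at h
    set y := indic (S a0 k) + indic (S a0 l) with hy
    have hy0 := hR0 h (fun i hi => by
      simp [hy, indic, show i ∉ S a0 k from fun e => hi (hSO a0 ha0 k hkO (Ne.symm hk0) e),
        show i ∉ S a0 l from fun e => hi (hSO a0 ha0 l hlO (Ne.symm hl0) e),
        show i ∉ S k l from fun e => hi (hSO k hkO l hlO hkl e)])
    have w1 := weight_add (indic (S a0 k)) (indic (S a0 l))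
    rw [hammingNorm_eq_card (indic _), hammingNorm_eq_card (indic _), support₂_indic, support₂_indic,
      hS2 a0 ha0 k hkO (Ne.symm hk0), hS2 a0 ha0 l hlO (Ne.symm hl0), ← hy] at w1
    have w2 := weight_add y (indic (S k l))
    rw [hammingNorm_eq_card (indic _), support₂_indic, hS2 k hkO l hlO hkl] at w2
    have h3 : (support₂ y ∩ S k l).card ≤ 2 :=
      (Finset.card_le_card Finset.inter_subset_right).trans (hS2 k hkO l hlO hkl).le
    have h4 : (support₂ y ∩ S k l).card ≤ hammingNorm y := by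
      rw [hammingNorm_eq_card]; exact Finset.card_le_card Finset.inter_subset_left
    rcases hy0 with e | e
    · rw [e, hammingNorm_zero] at w2
      omega
    · rw [e, hammingNorm_eq_card (indic O), support₂_indic, h8] at w2
      omega
  obtain ⟨p, hpO, hp⟩ := pairs_star O T hT7 (S a0)
    (fun k hk => ⟨hS2 a0 ha0 k (Finset.mem_of_mem_erase hk) (Finset.ne_of_mem_erase hk).symm,
      hSO a0 ha0 k (Finset.mem_of_mem_erase hk) (Finset.ne_of_mem_erase hk).symm⟩) hdist
  have hq : ∀ k ∈ T, ∃ q ∈ O, q ≠ p ∧ S a0 k = {p, q} := by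
    intro k hk
    obtain ⟨hk0, hkO⟩ := Finset.mem_erase.1 hk
    obtain ⟨x, y, hxy, e⟩ := Finset.card_eq_two.1 (hS2 a0 ha0 k hkO (Ne.symm hk0))
    have hsub := hSO a0 ha0 k hkO (Ne.symm hk0)
    have hpm := hp k hk
    rw [e, Finset.mem_insert, Finset.mem_singleton] at hpm
    rcases hpm with rfl | rfl
    · exact ⟨y, hsub (by simp [e]), Ne.symm hxy, e⟩
    · exact ⟨x, hsub (by simp [e]), hxy, e.trans (Finset.pair_comm _ _)⟩
  choose! q hqO hqp hqS using hq
  let F : α → α := fun i => if i = a0 then p else if i ∈ O then q i else i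
  have hFO : ∀ i, i ∈ O → F i ∈ O := fun i hi => by
    by_cases h : i = a0
    · simp [F, h, hpO]
    · simp only [F, h, if_false, hi, if_true]; exact hqO i (Finset.mem_erase.2 ⟨h, hi⟩)
  have hFn : ∀ i, i ∉ O → F i = i := fun i hi => by
    simp [F, show i ≠ a0 from fun e => hi (e ▸ ha0), hi]
  have hqinj : ∀ k ∈ T, ∀ l ∈ T, q k = q l → k = l := fun k hk l hl e => by
    by_contra hne
    have := hdist k hk l hl hne
    rw [hqS k hk, hqS l hl, e, Finset.inter_self, Finset.card_pair (Ne.symm (hqp l hl))] at this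
    omega
  have hFinj : Function.Injective F := by
    intro i j e
    by_cases hi : i ∈ O <;> by_cases hj : j ∈ O
    · by_cases hia : i = a0 <;> by_cases hja : j = a0
      · rw [hia, hja]
      · simp only [F, hia, if_true, hja, if_false, hj] at e
        exact absurd e.symm (hqp j (Finset.mem_erase.2 ⟨hja, hj⟩))
      · simp only [F, hia, if_false, hi, hja, if_true] at e
        exact absurd e (hqp i (Finset.mem_erase.2 ⟨hia, hi⟩))
      · simp only [F, hia, if_false, hi, hja, hj, if_true] at e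
        exact hqinj i (Finset.mem_erase.2 ⟨hia, hi⟩) j (Finset.mem_erase.2 ⟨hja, hj⟩) e
    · exact absurd (hFO i hi) (by rw [e, hFn j hj]; exact hj)
    · exact absurd (hFO j hj) (by rw [← e, hFn i hi]; exact hi)
    · rwa [hFn i hi, hFn j hj] at e
  let f : α ≃ α := Equiv.ofBijective F (Finite.injective_iff_bijective.1 hFinj)
  have hf : ∀ i, f i = F i := fun i => rfl
  have hpairF : ∀ k ∈ T, (fun i => indic ({a0, k} : Finset α) (f.symm i)) = indic (S a0 k) := by
    intro k hk
    funext i
    rw [hqS k hk]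
    have h1 : f.symm i = a0 ↔ i = p := by rw [Equiv.symm_apply_eq, hf]; simp [F]
    have h2 : f.symm i = k ↔ i = q k := by
      rw [Equiv.symm_apply_eq, hf]
      simp [F, Finset.ne_of_mem_erase hk, Finset.mem_of_mem_erase hk]
    simp only [indic, Finset.mem_insert, Finset.mem_singleton, h1, h2]
  have hlin : ∀ U ⊆ T, R (∑ k ∈ U, indic ({a0, k} : Finset α))
      (fun i => (∑ k ∈ U, indic ({a0, k} : Finset α)) (f.symm i)) := by
    intro U
    induction U using Finset.induction with
    | empty =>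
      exact fun _ => ⟨0, zero_mem _, 0, zero_mem _, fun i _ => by simp, fun i _ => by simp, fun _ _ => rfl⟩
    | @insert k U hk ih =>
      intro hU
      rw [Finset.insert_subset_iff] at hU
      rw [Finset.sum_insert hk]
      have h1 := hSR a0 ha0 k (Finset.mem_of_mem_erase hU.1) (Finset.ne_of_mem_erase hU.1).symm
      rw [← hpairF k hU.1] at h1
      exact hRadd h1 (ih hU.2)
  refine ⟨f, ?_⟩
  have hle : moveCode f C ≤ D := by
    intro v hv
    set c := fun i => v (f i) with hc
    have hcC : c ∈ C := mem_moveCode.1 hv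
    set U := T.filter fun k => c k = 1
    set x : α → ZMod 2 := ∑ k ∈ U, indic ({a0, k} : Finset α) with hx
    obtain ⟨c', hc', d, hd, h1, h2, h3⟩ := hlin U (Finset.filter_subset _ _)
    have hxT : ∀ i ∈ T, x i = c i := fun i hi => by
      rw [hx, Finset.sum_apply]
      have hi0 := Finset.ne_of_mem_erase hi
      simp only [indic, Finset.mem_insert, Finset.mem_singleton, hi0, false_or, Finset.sum_ite_eq,
        U, Finset.mem_filter, hi, true_and]
      rcases zmod2_cases (c i) with e | e <;> simp [e]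
    have hxO : ∀ i ∈ O, c' i = c i := fun i hi => by
      by_cases h : i = a0
      · have e1 := hC.sum_octad hOC hc'
        have e2 := hC.sum_octad hOC hcC
        rw [← Finset.add_sum_erase _ _ ha0, Finset.sum_congr rfl fun t (ht : t ∈ T) =>
          (h1 t (Finset.mem_of_mem_erase ht)).trans (hxT t ht)] at e1
        rw [← Finset.add_sum_erase _ _ ha0] at e2
        rw [h]
        exact add_right_cancel (e1.trans e2.symm)
      · rw [h1 i hi]; exact hxT i (Finset.mem_erase.2 ⟨h, hi⟩)
    have hk : c - c' ∈ vanish D O :=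
      hK ▸ ⟨sub_mem hcC hc', fun i hi => by simp [hxO i hi]⟩
    convert add_mem hd hk.1 using 1
    funext i
    by_cases hi : i ∈ O
    · have hs : f.symm i ∈ O := by
        by_contra hn
        have := hf (f.symm i)
        rw [Equiv.apply_symm_apply, hFn _ hn] at this
        rw [← this] at hn
        exact hn hi
      rw [Pi.add_apply, show (c - c') i = 0 from hk.2 i hi, add_zero, h2 i hi]
      show v i = (∑ k ∈ U, indic ({a0, k} : Finset α)) (f.symm i)
      rw [← h1 _ hs, hxO _ hs, hc]
      simp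
    · rw [Pi.add_apply, Pi.sub_apply, ← h3 i hi, add_sub_cancel, hc]
      show v i = v (f i)
      rw [hf, hFn i hi]
  exact Submodule.eq_of_le_of_finrank_eq hle ((hC.move f).dim.trans hD.dim.symm)

/-- uniqueness -/
theorem code_unique {C : Submodule (ZMod 2) (α → ZMod 2)} (hC : GoodCode C)
    {D : Submodule (ZMod 2) (β → ZMod 2)} (hD : GoodCode D) :
    ∃ e : α ≃ β, moveCode e C = D := by
  classical
  obtain ⟨O, hO, h8⟩ := hC.exists_octad
  obtain ⟨P, hP, h8'⟩ := hD.exists_octad
  obtain ⟨w, hw, hspan, hbij⟩ := hC.coords hO h8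
  obtain ⟨w', hw', hspan', hbij'⟩ := hD.coords hP h8'
  let e2 : {i // i ∉ O} ≃ {j // j ∉ P} := (Equiv.ofBijective _ hbij).trans (Equiv.ofBijective _ hbij').symm
  let e1 : {i // i ∈ O} ≃ {j // j ∈ P} := Fintype.equivOfCardEq (by simp [h8, h8'])
  let e : α ≃ β := ((Equiv.sumCompl (· ∈ O)).symm.trans (e1.sumCongr e2)).trans (Equiv.sumCompl (· ∈ P))
  have heO : ∀ i, e i ∈ P ↔ i ∈ O := by
    intro i
    by_cases hi : i ∈ O
    · simp [e, Equiv.sumCompl_symm_apply_of_pos hi, hi, (e1 ⟨i, hi⟩).2]
    · simp [e, Equiv.sumCompl_symm_apply_of_neg hi, hi, (e2 ⟨i, hi⟩).2]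
  have hew : ∀ j i, i ∉ O → w' j (e i) = w j i := by
    intro j i hi
    have h1 : e i = (e2 ⟨i, hi⟩).1 := by simp [e, Equiv.sumCompl_symm_apply_of_neg hi]
    rw [h1]
    exact congrFun ((Equiv.ofBijective _ hbij').apply_symm_apply (Equiv.ofBijective _ hbij ⟨i, hi⟩)) j
  have hindic : (fun i => indic P (e i)) = indic O := funext fun i => by simp [indic, heO i]
  have hwe : ∀ j, (fun i => w' j (e i)) = w j := fun j => funext fun i => by
    by_cases hi : i ∈ O
    · rw [(hw' j).2 _ ((heO i).2 hi), (hw j).2 i hi]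
    · exact hew j i hi
  set C' := moveCode e C
  have hC' : GoodCode C' := hC.move e
  have hPC : indic P ∈ C' := mem_moveCode.2 (by rw [hindic]; exact hO)
  have hK : vanish C' P = vanish D P := by
    refine le_antisymm (fun v hv => ?_) fun v hv => ?_
    · have hk : (fun i => v (e i)) ∈ vanish C O :=
        ⟨mem_moveCode.1 hv.1, fun i hi => hv.2 _ ((heO i).2 hi)⟩
      obtain ⟨a, b, hab⟩ := hspan _ hk
      have e' : v = a • (1 + indic P) + ∑ j, b j • w' j := by
        funext x
        obtain ⟨i, rfl⟩ := e.surjective x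
        have := congrFun hab i
        rw [this]
        simp only [Pi.add_apply, Pi.smul_apply, Finset.sum_apply, Pi.one_apply,
          show indic P (e i) = indic O i from congrFun hindic i,
          show ∀ j, w' j (e i) = w j i from fun j => congrFun (hwe j) i]
      rw [e']
      exact add_mem (Submodule.smul_mem _ _ ⟨add_mem hD.one_mem hP,
        fun i hi => by simp [indic, hi, CharTwo.add_self_eq_zero]⟩)
        (Submodule.sum_mem _ fun j _ => Submodule.smul_mem _ _ (hw' j))
    · obtain ⟨a, b, hab⟩ := hspan' _ hv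
      refine ⟨mem_moveCode.2 ?_, hv.2⟩
      have e' : (fun i => v (e i)) = a • (1 + indic O) + ∑ j, b j • w j := by
        funext i
        rw [hab]
        simp only [Pi.add_apply, Pi.smul_apply, Finset.sum_apply, Pi.one_apply,
          show indic P (e i) = indic O i from congrFun hindic i,
          show ∀ j, w' j (e i) = w j i from fun j => congrFun (hwe j) i]
      rw [e']
      exact add_mem (C.smul_mem _ (add_mem hC.one_mem hO))
        (Submodule.sum_mem _ fun j _ => C.smul_mem _ (hw j).1)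
  obtain ⟨f, hf⟩ := same_frame hC' hD hPC hP h8' hK
  refine ⟨e.trans f, ?_⟩
  rw [← hf]
  ext v
  rw [mem_moveCode, mem_moveCode, mem_moveCode]
  exact Iff.rfl

end Cfsg.Agent.Leech.Unique
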