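import Mathlib
import Cfsg.Prelude.Def_Sporadic_a
import Cfsg.Agent.Leech.Steiner
import Cfsg.Agent.Leech.Unique.CodeUnique
import Cfsg.Agent.Leech.Orbits
import Cfsg.Agent.Leech.Punctured

/-! Large Steiner systems give the code of length 24. -/

set_option autoImplicit false

namespace Cfsg.Agent.Leech.Unique
open Cfsg Finset

variable {α : Type*} [Fintype α] [DecidableEq α] {B : Set (Finset α)} {t k r : ℕ}

open scoped Classical in
/-- number of blocks meeting a set in a given number of points -/
noncomputable def cnt (B : Set (Finset α)) (Y : Finset α) (m : ℕ) : ℕ :=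
  (((univ : Finset (Finset α)).filter (· ∈ B)).filter fun b => (b ∩ Y).card = m).card

theorem cnt_eq_zero (Y : Finset α) (m : ℕ) (h : ∀ b ∈ B, (b ∩ Y).card ≠ m) : cnt B Y m = 0 := by
  classical
  rw [cnt, Finset.card_eq_zero, Finset.filter_eq_empty_iff]
  intro b hb
  exact h b (Finset.mem_filter.1 hb).2

theorem block_unique (hB : IsSteinerSystem t k B) {b b' : Finset α} (hb : b ∈ B) (hb' : b' ∈ B)
    (h : t ≤ (b ∩ b').card) : b = b' := by
  obtain ⟨s, hs, hsc⟩ := Finset.exists_subset_card_eq h
  exact (hB.2 s hsc).unique ⟨hb, hs.trans Finset.inter_subset_left⟩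
    ⟨hb', hs.trans Finset.inter_subset_right⟩

theorem moment (hB : IsSteinerSystem t k B) (hk : k ≤ 8) (Y : Finset α) (j : ℕ) (hj : j ≤ t) :
    (∑ m ∈ range 9, cnt B Y m * m.choose j) * (k - j).choose (t - j) =
      Y.card.choose j * (Fintype.card α - j).choose (t - j) := by
  classical
  set Bf := (univ : Finset (Finset α)).filter (· ∈ B) with hBf
  have hmem : ∀ b, b ∈ Bf ↔ b ∈ B := fun b => by simp [hBf]
  have e : ∑ m ∈ range 9, cnt B Y m * m.choose j = ∑ b ∈ Bf, (b ∩ Y).card.choose j := by
    rw [← Finset.sum_fiberwise_of_maps_to (t := range 9) (g := fun b => (b ∩ Y).card)]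
    · refine Finset.sum_congr rfl fun m _ => ?_
      rw [Finset.sum_congr rfl (fun b hb => by rw [(Finset.mem_filter.1 hb).2]), Finset.sum_const,
        smul_eq_mul]
      rfl
    · intro b hb
      rw [Finset.mem_range]
      have := Finset.card_le_card (Finset.inter_subset_left (s₁ := b) (s₂ := Y))
      have := hB.1 b ((hmem b).1 hb)
      omega
  rw [e, sum_choose_inter, Finset.sum_mul, Finset.sum_congr rfl fun S hS => ?_, Finset.sum_const,
    Finset.card_powersetCard, smul_eq_mul]
  have hSc := (Finset.mem_powersetCard.1 hS).2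
  have := lam_mul hB Bf hmem S (hSc ▸ hj)
  rwa [hSc] at this

theorem cnt_self (hB : IsSteinerSystem t k B) {O : Finset α} (hO : O ∈ B) (htk : t ≤ k) (m : ℕ)
    (hm : t ≤ m) : cnt B O m = if m = k then 1 else 0 := by
  classical
  split_ifs with h
  · rw [cnt, Finset.card_eq_one]
    refine ⟨O, ?_⟩
    ext b
    simp only [Finset.mem_filter, Finset.mem_univ, true_and, Finset.mem_singleton]
    refine ⟨fun hb => block_unique hB hb.1 hO (by omega), ?_⟩
    rintro rfl
    exact ⟨hO, by rw [Finset.inter_self, hB.1 b hO, h]⟩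
  · refine cnt_eq_zero O m fun b hb e => h ?_
    rw [← e, block_unique hB hb hO (by omega), Finset.inter_self, hB.1 O hO]

/-- the three large systems, by the number of added points -/
structure Big (B : Set (Finset α)) (r : ℕ) : Prop where
  le : r ≤ 2
  card : Fintype.card α = 24 - r
  steiner : IsSteinerSystem (5 - r) (8 - r) B

set_option maxHeartbeats 800000 in
theorem Big.meet (h : Big B r) {b b' : Finset α} (hb : b ∈ B) (hb' : b' ∈ B) :
    ((b ∩ b').card + r) % 2 = 0 := by
  obtain ⟨hr, hcard, hB⟩ := h
  by_contra hodd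
  have hm : (b ∩ b').card ≤ 8 - r := hB.1 b hb ▸ Finset.card_le_card Finset.inter_subset_left
  have hne : cnt B b' (b ∩ b').card ≠ 0 := by
    classical
    rw [cnt, Finset.card_ne_zero]
    exact ⟨b, by simp [hb]⟩
  have hs := fun m => cnt_self hB hb' (by omega) m
  have e0 := moment hB (by omega) b' 0 (by omega)
  have e1 := moment hB (by omega) b' 1 (by omega)
  have e2 := moment hB (by omega) b' 2 (by omega)
  rw [hB.1 b' hb', hcard] at e0 e1 e2
  interval_cases r
  · have e3 := moment hB (by norm_num) b' 3 (by norm_num)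
    have e4 := moment hB (by norm_num) b' 4 (by norm_num)
    rw [hB.1 b' hb', hcard] at e3 e4
    have := hs 5 (by norm_num); have := hs 6 (by norm_num); have := hs 7 (by norm_num)
    have := hs 8 (by norm_num)
    simp only [Finset.sum_range_succ, Finset.sum_range_zero, Nat.choose, Nat.sub_zero, Nat.reduceSub,
      Nat.reduceEqDiff, if_true, if_false, reduceIte] at *
    interval_cases (b ∩ b').card <;> omega
  · have e3 := moment hB (by norm_num) b' 3 (by norm_num)
    rw [hB.1 b' hb', hcard] at e3
    have := hs 4 (by norm_num); have := hs 5 (by norm_num); have := hs 6 (by norm_num)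
    have := hs 7 (by norm_num)
    have h8 : cnt B b' 8 = 0 := by simpa using hs 8 (by norm_num)
    simp only [Finset.sum_range_succ, Finset.sum_range_zero, Nat.choose, Nat.sub_zero, Nat.reduceSub,
      Nat.reduceEqDiff, if_true, if_false, reduceIte] at *
    interval_cases (b ∩ b').card <;> omega
  · have := hs 3 (by norm_num); have := hs 4 (by norm_num); have := hs 5 (by norm_num)
    have := hs 6 (by norm_num)
    have h7 : cnt B b' 7 = 0 := by simpa using hs 7 (by norm_num)
    have h8 : cnt B b' 8 = 0 := by simpa using hs 8 (by norm_num)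
    simp only [Finset.sum_range_succ, Finset.sum_range_zero, Nat.choose, Nat.sub_zero, Nat.reduceSub,
      Nat.reduceEqDiff, if_true, if_false, reduceIte] at *
    interval_cases (b ∩ b').card <;> omega

set_option maxHeartbeats 1600000 in
/-- small sets are not met with constant parity, except the blocks -/
theorem Big.parity (h : Big B r) (Y : Finset α) (s : ℕ) (hs : s ≤ 1)
    (hpar : ∀ b ∈ B, (b ∩ Y).card % 2 = s) (hY : Y.card + (if r = 0 then 0 else s) ≤ 6) :
    s = 0 ∧ (Y = ∅ ∨ r = 2 ∧ Y ∈ B) := by
  obtain ⟨hr, hcard, hB⟩ := h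
  by_cases hY0 : Y.card = 0
  · rw [Finset.card_eq_zero] at hY0
    subst hY0
    obtain ⟨T, -, hT⟩ := Finset.exists_subset_card_eq (n := 5 - r) (s := (Finset.univ : Finset α))
      (by rw [Finset.card_univ, hcard]; omega)
    obtain ⟨b, hb, -⟩ := hB.2 T hT
    have := hpar b hb.1
    simp at this
    exact ⟨this.symm, Or.inl rfl⟩
  have hz : ∀ m, m % 2 ≠ s → cnt B Y m = 0 := fun m hm =>
    cnt_eq_zero Y m fun b hb e => hm (e ▸ hpar b hb)
  have hbig : ∀ m, Y.card < m → cnt B Y m = 0 := fun m hm => cnt_eq_zero Y m fun b _ e => by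
    have := Finset.card_le_card (Finset.inter_subset_right (s₁ := b) (s₂ := Y))
    omega
  have e0 := moment hB (by omega) Y 0 (by omega)
  have e1 := moment hB (by omega) Y 1 (by omega)
  have e2 := moment hB (by omega) Y 2 (by omega)
  have e3 := moment hB (by omega) Y 3 (by omega)
  rw [hcard] at e0 e1 e2 e3
  by_cases h26 : r = 2 ∧ s = 0 ∧ Y.card = 6
  · obtain ⟨rfl, rfl, h6⟩ := h26
    refine ⟨rfl, Or.inr ⟨rfl, ?_⟩⟩
    have h1 : cnt B Y 6 ≠ 0 := by
      have := hz 1 (by norm_num); have := hz 3 (by norm_num); have := hz 5 (by norm_num)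
      have := hz 7 (by norm_num); have := hbig 8 (by omega)
      rw [h6] at e0 e1 e2 e3
      simp only [Finset.sum_range_succ, Finset.sum_range_zero, Nat.choose, Nat.reduceSub,
        Nat.sub_zero] at e0 e1 e2 e3
      omega
    classical
    rw [cnt, Finset.card_ne_zero] at h1
    obtain ⟨b, hb⟩ := h1
    simp only [Finset.mem_filter, Finset.mem_univ, true_and] at hb
    have hsub : Y ⊆ b := by
      rw [← Finset.inter_eq_right]
      exact Finset.eq_of_subset_of_card_le Finset.inter_subset_right (by omega)
    rw [Finset.eq_of_subset_of_card_le hsub (by rw [hB.1 b hb.1]; omega)]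
    exact hb.1
  exfalso
  obtain ⟨y, hy⟩ : ∃ y, Y.card = y := ⟨_, rfl⟩
  have hy6 : y ≤ 6 := by omega
  have hy1 : 1 ≤ y := by omega
  rw [hy] at e0 e1 e2 e3 hY0 hY h26 hbig
  have z0 := hz 0; have z1 := hz 1; have z2 := hz 2; have z3 := hz 3; have z4 := hz 4
  have z5 := hz 5; have z6 := hz 6; have z7 := hz 7; have z8 := hz 8
  have b2 := hbig 2; have b3 := hbig 3; have b4 := hbig 4; have b5 := hbig 5; have b6 := hbig 6
  have b7 := hbig 7; have b8 := hbig 8
  clear hz hbig hpar
  interval_cases r
  · have e4 := moment hB (by norm_num) Y 4 (by norm_num)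
    have e5 := moment hB (by norm_num) Y 5 (by norm_num)
    rw [hy, hcard] at e4 e5
    interval_cases s <;> interval_cases y <;>
      simp only [Finset.sum_range_succ, Finset.sum_range_zero, Nat.choose, Nat.reduceSub,
        Nat.sub_zero, and_self, not_true_eq_false] at * <;> omega
  · have e4 := moment hB (by norm_num) Y 4 (by norm_num)
    rw [hy, hcard] at e4
    interval_cases s <;> interval_cases y <;>
      simp only [Finset.sum_range_succ, Finset.sum_range_zero, Nat.choose, Nat.reduceSub,
        Nat.sub_zero, and_self, not_true_eq_false] at * <;> omega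
  · interval_cases s <;> interval_cases y <;>
      simp only [Finset.sum_range_succ, Finset.sum_range_zero, Nat.choose, Nat.reduceSub,
        Nat.sub_zero, and_self, not_true_eq_false] at * <;> omega

theorem two_zero : (2 : ZMod 2) = 0 := by decide

/-- a block with the added points -/
def ext (r : ℕ) (b : Finset α) : α ⊕ Fin r → ZMod 2 := indic (b.disjSum Finset.univ)

theorem dot_ext (r : ℕ) (b : Finset α) (w : α ⊕ Fin r → ZMod 2) :
    ∑ i, w i * ext r b i = ((b ∩ support₂ (fun a => w (Sum.inl a))).card : ZMod 2) + ∑ x, w (Sum.inr x) := by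
  rw [Fintype.sum_sum_type]
  congr 1
  · have : ∀ a, ext r b (Sum.inl a) = indic b a := fun a => by simp [ext, indic]
    simp only [this, dot_indic]
    rw [← Finset.filter_mem_eq_inter, Finset.natCast_card_filter]
    refine Finset.sum_congr rfl fun a _ => ?_
    rcases zmod2_cases (w (Sum.inl a)) with e | e <;> simp [mem_support₂, e]
  · exact Finset.sum_congr rfl fun x _ => by simp [ext, indic]

theorem norm_ext (r : ℕ) (b : Finset α) : hammingNorm (ext r b) = b.card + r := by
  rw [hammingNorm_eq_card, ext, support₂_indic, Finset.card_disjSum, Finset.card_univ, Fintype.card_fin]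

/-- the span of the extended blocks -/
def blockSpan (r : ℕ) (B : Set (Finset α)) : Submodule (ZMod 2) (α ⊕ Fin r → ZMod 2) :=
  Submodule.span (ZMod 2) (ext r '' B)

theorem selforth_span {γ : Type*} [Fintype γ] [DecidableEq γ] (S : Set (γ → ZMod 2))
    (h : ∀ v ∈ S, ∀ w ∈ S, ∑ i, v i * w i = 0) :
    ∀ v ∈ Submodule.span (ZMod 2) S, ∀ w ∈ Submodule.span (ZMod 2) S, ∑ i, v i * w i = 0 := by
  intro v hv
  induction hv using Submodule.span_induction with
  | mem x hx =>
    intro w hw
    induction hw using Submodule.span_induction with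
    | mem y hy => exact h x hx y hy
    | zero => simp
    | add a b _ _ ha hb => simp only [Pi.add_apply, mul_add, Finset.sum_add_distrib, ha, hb, add_zero]
    | smul c a _ ha =>
      simp only [Pi.smul_apply, smul_eq_mul, mul_left_comm _ c, ← Finset.mul_sum, ha, mul_zero]
  | zero => intro w _; simp
  | add a b _ _ ha hb =>
    intro w hw
    simp only [Pi.add_apply, add_mul, Finset.sum_add_distrib, ha w hw, hb w hw, add_zero]
  | smul c a _ ha =>
    intro w hw
    simp only [Pi.smul_apply, smul_eq_mul, mul_assoc, ← Finset.mul_sum, ha w hw, mul_zero]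

theorem four_span {γ : Type*} [Fintype γ] [DecidableEq γ] (S : Set (γ → ZMod 2))
    (h : ∀ v ∈ S, ∀ w ∈ S, ∑ i, v i * w i = 0) (h4 : ∀ v ∈ S, 4 ∣ hammingNorm v) :
    ∀ v ∈ Submodule.span (ZMod 2) S, 4 ∣ hammingNorm v := by
  intro v hv
  induction hv using Submodule.span_induction with
  | mem x hx => exact h4 x hx
  | zero => simp
  | add a b ha hb ia ib =>
    have he := inter_even (Submodule.span (ZMod 2) S) (selforth_span S h) ha hb
    have := weight_add a b
    omega
  | smul c a _ ha =>
    rcases zmod2_cases c with rfl | rfl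
    · simp
    · rwa [one_smul]

theorem Big.span_facts (h : Big B r) :
    (∀ v ∈ blockSpan r B, ∀ w ∈ blockSpan r B, ∑ i, v i * w i = 0) ∧
      ∀ v ∈ blockSpan r B, 4 ∣ hammingNorm v := by
  have h1 : ∀ v ∈ ext r '' B, ∀ w ∈ ext r '' B, ∑ i, v i * w i = 0 := by
    rintro _ ⟨b, hb, rfl⟩ _ ⟨b', hb', rfl⟩
    rw [dot_ext, show support₂ (fun a => ext r b (Sum.inl a)) = b from Finset.ext fun a => by
      simp [ext, mem_support₂, indic]]
    have hm := h.meet hb hb'
    rw [Finset.inter_comm b' b]
    simp only [ext, indic, Finset.inr_mem_disjSum, Finset.mem_univ, if_true, Finset.sum_const,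
      Finset.card_univ, Fintype.card_fin, nsmul_one]
    rw [← Nat.cast_add, ZMod.natCast_eq_zero_iff]
    exact Nat.dvd_of_mod_eq_zero hm
  refine ⟨selforth_span _ h1, four_span _ h1 ?_⟩
  rintro _ ⟨b, hb, rfl⟩
  rw [norm_ext, h.steiner.1 b hb]
  have := h.le
  omega

/-- a self-orthogonal code whose dual has no short words -/
theorem good_of {γ : Type*} [Fintype γ] [DecidableEq γ] (hcard : Fintype.card γ = 24)
    (C : Submodule (ZMod 2) (γ → ZMod 2)) (horth : ∀ v ∈ C, ∀ w ∈ C, ∑ i, v i * w i = 0)
    (h4 : ∀ v ∈ C, 4 ∣ hammingNorm v)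
    (hbad : ∀ d : γ → ZMod 2, (∀ c ∈ C, ∑ i, d i * c i = 0) → hammingNorm d ≤ 6 → d = 0) :
    GoodCode C := by
  classical
  have hmin : ∀ w ∈ C, w ≠ 0 → 8 ≤ hammingNorm w := by
    intro w hw h0
    by_contra hlt
    obtain ⟨m, hm⟩ := h4 w hw
    exact h0 (hbad w (fun c hc => horth w hw c hc) (by omega))
  refine ⟨hcard, le_antisymm ?_ ?_, horth, h4, hmin⟩
  · set φ := (dotProductEquiv (ZMod 2) γ)
    have hle : C ≤ C.dualAnnihilator.map φ.symm.toLinearMap := fun v hv => by
      refine ⟨φ v, (Submodule.mem_dualAnnihilator _).2 fun c hc => ?_, φ.symm_apply_apply v⟩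
      simpa [φ, dotProduct] using horth v hv c hc
    have h1 := Submodule.finrank_mono hle
    rw [LinearEquiv.finrank_map_eq] at h1
    have h2 := Subspace.finrank_add_finrank_dualAnnihilator_eq (K := ZMod 2) C
    rw [Module.finrank_pi, hcard] at h2
    omega
  · set E := ((Finset.range 4).biUnion fun m => (Finset.univ : Finset γ).powersetCard m) with hE
    have hEc : E.card = 2325 := by
      rw [hE, Finset.card_biUnion (fun a _ b _ hne => Finset.disjoint_left.2 fun x ha hb => hne
        ((Finset.mem_powersetCard.1 ha).2.symm.trans (Finset.mem_powersetCard.1 hb).2))]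
      simp only [Finset.card_powersetCard, Finset.card_univ, hcard, Finset.sum_range_succ,
        Finset.sum_range_zero, Nat.choose]
    let f : E → Module.Dual (ZMod 2) C := fun S =>
      ((dotProductEquiv (ZMod 2) γ) (indic S.1)).comp C.subtype
    have hf : Function.Injective f := by
      intro S T e
      have hd : ∀ c ∈ C, ∑ i, (indic S.1 + indic T.1) i * c i = 0 := fun c hc => by
        have := LinearMap.congr_fun e ⟨c, hc⟩
        simp [f, dotProduct] at this
        simp only [Pi.add_apply, add_mul, Finset.sum_add_distrib, this]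
        exact CharTwo.add_self_eq_zero _
      have hsmall : ∀ U : E, U.1.card ≤ 3 := fun U => by
        obtain ⟨m, hm, hU⟩ := Finset.mem_biUnion.1 U.2
        have := Finset.mem_range.1 hm
        have := (Finset.mem_powersetCard.1 hU).2
        omega
      have hw := weight_add (indic S.1) (indic T.1)
      rw [hammingNorm_eq_card (indic S.1), hammingNorm_eq_card (indic T.1), support₂_indic,
        support₂_indic] at hw
      have h0 := hbad _ hd (by have := hsmall S; have := hsmall T; omega)
      refine Subtype.ext ?_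
      rw [← support₂_indic S.1, ← support₂_indic T.1]
      congr 1
      exact funext fun i => CharTwo.add_eq_zero.1 (congrFun h0 i)
    have : Finite (Module.Dual (ZMod 2) C) := Module.finite_of_finite (ZMod 2)
    have h1 := Nat.card_le_card_of_injective f hf
    rw [Nat.card_eq_fintype_card, Fintype.card_coe, hEc,
      Module.natCard_eq_pow_finrank (K := ZMod 2), Subspace.dual_finrank_eq, Nat.card_zmod] at h1
    by_contra hlt
    have := Nat.pow_le_pow_right (by norm_num : 0 < 2) (show Module.finrank (ZMod 2) C ≤ 11 by omega)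
    norm_num at this
    omega

theorem split_norm {r : ℕ} (d : α ⊕ Fin r → ZMod 2) :
    hammingNorm d = (support₂ fun a => d (Sum.inl a)).card + hammingNorm (fun x => d (Sum.inr x)) := by
  rw [← hammingNorm_eq_card]
  simp only [hammingNorm, Finset.card_filter]
  exact Fintype.sum_sum_type _

theorem Big.short_dual (h : Big B r) (d : α ⊕ Fin r → ZMod 2)
    (hd : ∀ b ∈ B, ∑ i, d i * ext r b i = 0) (h6 : hammingNorm d ≤ 6) :
    (∀ a, d (Sum.inl a) = 0) ∧ ∑ x, d (Sum.inr x) = 0 ∨
    r = 2 ∧ ∑ x, d (Sum.inr x) = 0 ∧ (support₂ fun a => d (Sum.inl a)) ∈ B ∧ ∀ x, d (Sum.inr x) = 0 := by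
  set T := support₂ fun a => d (Sum.inl a) with hT
  set R := fun x => d (Sum.inr x) with hR
  have hn := split_norm d
  rw [← hR, ← hT] at hn
  have hsum : ∑ x, R x = ((hammingNorm R : ℕ) : ZMod 2) := sum_eq_card R
  have hRle : hammingNorm R ≤ r := (hammingNorm_le_card_fintype).trans (Fintype.card_fin r).le
  have hpar : ∀ b ∈ B, (b ∩ T).card % 2 = hammingNorm R % 2 := fun b hb => by
    have := hd b hb
    rw [dot_ext, hsum, ← Nat.cast_add, ZMod.natCast_eq_zero_iff, ← hT] at this
    omega
  obtain ⟨h0, hTB⟩ := h.parity T (hammingNorm R % 2) (by omega) hpar (by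
    split_ifs <;> omega)
  have hs0 : ∑ x, R x = 0 := by rw [hsum, ZMod.natCast_eq_zero_iff]; omega
  rcases hTB with e | ⟨rfl, hmem⟩
  · refine Or.inl ⟨fun a => ?_, hs0⟩
    by_contra ha
    have : a ∈ T := by rw [hT, mem_support₂]; exact (zmod2_cases _).resolve_left ha
    rw [e] at this
    exact Finset.notMem_empty a this
  · refine Or.inr ⟨rfl, hs0, hmem, fun x => ?_⟩
    have hTc : T.card = 6 := h.steiner.1 T hmem
    have : hammingNorm R = 0 := by omega
    exact congrFun (hammingNorm_eq_zero.1 this) x

theorem gauss_neg_one_pow (a : ZMod 2) : (-1 : GaussianInt) ^ a.val = if a = 0 then 1 else -1 := by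
  rcases zmod2_cases a with rfl | rfl
  · simp
  · rw [if_neg one_ne_zero, show (1 : ZMod 2).val = 1 from rfl, pow_one]

/-- the sum of powers of `i` over the words orthogonal to a doubly even code -/
theorem gauss_sum {γ : Type*} [Fintype γ] [DecidableEq γ] (hcard : Fintype.card γ = 24)
    (C : Submodule (ZMod 2) (γ → ZMod 2)) (h4 : ∀ v ∈ C, 4 ∣ hammingNorm v) [DecidablePred (· ∈ C)]
    [DecidablePred fun v : γ → ZMod 2 => ∀ c ∈ C, ∑ i, v i * c i = 0] :
    ∑ v ∈ (Finset.univ : Finset (γ → ZMod 2)).filter (fun v => ∀ c ∈ C, ∑ i, v i * c i = 0),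
      (⟨0, 1⟩ : GaussianInt) ^ hammingNorm v = 4096 := by
  set I : GaussianInt := ⟨0, 1⟩ with hI
  have hI2 : I ^ 2 = -1 := by rw [sq, hI]; decide +kernel
  have hI4 : I ^ 4 = 1 := by rw [show 4 = 2 * 2 from rfl, pow_mul, hI2]; ring
  set Cs := (Finset.univ : Finset (γ → ZMod 2)).filter (· ∈ C) with hCs
  set F : (γ → ZMod 2) → GaussianInt := fun v => I ^ hammingNorm v with hF
  set χ : (γ → ZMod 2) → (γ → ZMod 2) → GaussianInt := fun v c =>
    (-1) ^ (∑ i, v i * c i).val with hχ
  have hshift : ∀ v, ∀ c ∈ Cs, F (v + c) = F v * χ v c := by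
    intro v c hc
    rw [hCs, Finset.mem_filter] at hc
    obtain ⟨m, hm⟩ := h4 c hc.2
    have hw := weight_add v c
    have e : ((support₂ v ∩ support₂ c).card : ZMod 2) = ∑ i, v i * c i := by
      rw [← Finset.filter_univ_mem (support₂ v ∩ support₂ c), Finset.natCast_card_filter]
      refine Finset.sum_congr rfl fun i _ => ?_
      rcases zmod2_cases (v i) with h | h <;> rcases zmod2_cases (c i) with h' | h' <;>
        simp [h, h', mem_support₂]
    set q := (support₂ v ∩ support₂ c).card with hq
    have hval : ((-1 : GaussianInt)) ^ (∑ i, v i * c i).val = (-1) ^ q := by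
      rw [← e, ZMod.val_natCast, ← neg_one_pow_eq_pow_mod_two]
    simp only [hF, hχ, hval]
    have h1 : I ^ (hammingNorm (v + c) + 2 * q) = I ^ (hammingNorm v) := by
      rw [hw, hm, pow_add, pow_mul, hI4, one_pow, mul_one]
    rw [pow_add, pow_mul, hI2] at h1
    rw [← h1, mul_assoc, ← mul_pow, neg_one_mul, neg_neg, one_pow, mul_one]
  have horth : ∀ v, ∑ c ∈ Cs, χ v c =
      if ∀ c ∈ C, ∑ i, v i * c i = 0 then (Cs.card : GaussianInt) else 0 := by
    intro v
    split_ifs with h
    · rw [Finset.sum_congr rfl fun c hc => show χ v c = 1 by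
        rw [hCs, Finset.mem_filter] at hc
        simp only [hχ, h c hc.2, ZMod.val_zero, pow_zero]]
      simp
    · push Not at h
      obtain ⟨c0, hc0, hne⟩ := h
      have hval : (∑ i, v i * c0 i) = 1 := (zmod2_cases _).resolve_left hne
      have hflip : ∀ c, χ v (c + c0) = -χ v c := fun c => by
        simp only [hχ, gauss_neg_one_pow, Pi.add_apply, mul_add, Finset.sum_add_distrib, hval]
        rcases zmod2_cases (∑ i, v i * c i) with e | e <;> simp [e, CharTwo.add_self_eq_zero]
      have hperm : ∑ c ∈ Cs, χ v (c + c0) = ∑ c ∈ Cs, χ v c := by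
        refine Finset.sum_nbij' (· + c0) (· + c0) ?_ ?_ ?_ ?_ (fun _ _ => rfl) <;> intro c hc
        all_goals simp only [hCs, Finset.coe_filter, Finset.mem_univ, true_and, Set.mem_ofPred_eq,
          Finset.mem_filter] at hc ⊢
        · exact add_mem hc hc0
        · exact add_mem hc hc0
        · funext i; simp [add_assoc, CharTwo.add_self_eq_zero]
        · funext i; simp [add_assoc, CharTwo.add_self_eq_zero]
      simp only [hflip, Finset.sum_neg_distrib] at hperm
      exact CharZero.eq_neg_self_iff.1 hperm.symm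
  have hfull : ∑ v : γ → ZMod 2, F v = 4096 := by
    have e : ∀ v : γ → ZMod 2, F v = ∏ i, (if v i = 0 then 1 else I) := fun v => by
      rw [hF, Finset.prod_ite, Finset.prod_const_one, one_mul, Finset.prod_const]
      rfl
    simp only [e]
    rw [← Fintype.prod_sum (fun (_ : γ) (a : ZMod 2) => if a = 0 then (1 : GaussianInt) else I)]
    rw [Finset.prod_const, Finset.card_univ, hcard]
    decide +kernel
  have h2 : ∑ v : γ → ZMod 2, ∑ c ∈ Cs, F (v + c) = (Cs.card : GaussianInt) * 4096 := by
    rw [Finset.sum_comm, Finset.sum_congr rfl fun c _ =>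
        (Fintype.sum_equiv (Equiv.addRight c) (fun v => F (v + c)) F fun v => rfl).trans hfull,
      Finset.sum_const, nsmul_eq_mul]
  rw [Finset.sum_congr rfl fun v _ => Finset.sum_congr rfl (hshift v)] at h2
  simp only [← Finset.mul_sum, horth, mul_ite, mul_zero, ← Finset.sum_filter, ← Finset.sum_mul] at h2
  rw [mul_comm] at h2
  have hne : (Cs.card : GaussianInt) ≠ 0 :=
    Nat.cast_ne_zero.2 (Finset.card_ne_zero.2 ⟨0, by simp [hCs]⟩)
  exact mul_left_cancel₀ hne h2

/-- the extra word for the system on 22 points -/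
theorem Big.extra_word (h : Big B 2) : ∃ c : α ⊕ Fin 2 → ZMod 2,
    (∀ v ∈ blockSpan 2 B, ∑ i, c i * v i = 0) ∧ c (Sum.inr 0) ≠ c (Sum.inr 1) ∧
      4 ∣ hammingNorm c := by
  classical
  by_contra hcon
  push Not at hcon
  obtain ⟨horth, h4⟩ := h.span_facts
  have hG := gauss_sum (γ := α ⊕ Fin 2) (by simp [h.card]) (blockSpan 2 B) h4
  set p : α ⊕ Fin 2 → ZMod 2 := Sum.elim (fun _ => 0) (fun _ => 1) with hp
  set P := (Finset.univ : Finset (α ⊕ Fin 2 → ZMod 2)).filter
    (fun v => ∀ c ∈ blockSpan 2 B, ∑ i, v i * c i = 0) with hP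
  have hpP : ∀ c ∈ blockSpan 2 B, ∑ i, p i * c i = 0 := by
    intro c hc
    induction hc using Submodule.span_induction with
    | mem x hx =>
      obtain ⟨b, -, rfl⟩ := hx
      simp [hp, ext, indic, Fintype.sum_sum_type, two_zero]
    | zero => simp
    | add a b _ _ ha hb => simp only [Pi.add_apply, mul_add, Finset.sum_add_distrib, ha, hb, add_zero]
    | smul c a _ ha =>
      simp only [Pi.smul_apply, smul_eq_mul, mul_left_comm _ c, ← Finset.mul_sum, ha, mul_zero]
  set I : GaussianInt := ⟨0, 1⟩
  have hI2 : I ^ 2 = -1 := by rw [sq]; decide +kernel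
  have hI4 : I ^ 4 = 1 := by rw [show 4 = 2 * 2 from rfl, pow_mul, hI2]; ring
  rw [← Finset.sum_filter_add_sum_filter_not P (fun v => v (Sum.inr 0) = v (Sum.inr 1))] at hG
  have hzero : ∑ v ∈ P.filter (fun v => v (Sum.inr 0) = v (Sum.inr 1)), I ^ hammingNorm v = 0 := by
    refine Finset.sum_involution (fun v _ => v + p) ?_ ?_ ?_ ?_
    · intro v hv
      obtain ⟨-, he⟩ := Finset.mem_filter.1 hv
      rcases zmod2_cases (v (Sum.inr 0)) with e | e
      · have e1 : hammingNorm (v + p) = hammingNorm v + 2 := by
          rw [split_norm, split_norm v]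
          have a1 : (fun a => (v + p) (Sum.inl a)) = fun a => v (Sum.inl a) := by funext a; simp [hp]
          have a2 : (fun x => (v + p) (Sum.inr x)) = fun _ => 1 := by
            funext x; fin_cases x <;> simp [hp, ← he, e]
          have a3 : (fun x => v (Sum.inr x)) = fun _ => 0 := by
            funext x; fin_cases x <;> simp [← he, e]
          rw [a1, a2, a3]
          simp [hammingNorm]
        rw [e1, pow_add, hI2]; ring
      · have e1 : hammingNorm v = hammingNorm (v + p) + 2 := by
          rw [split_norm (v + p), split_norm v]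
          have a1 : (fun a => (v + p) (Sum.inl a)) = fun a => v (Sum.inl a) := by funext a; simp [hp]
          have a2 : (fun x => (v + p) (Sum.inr x)) = fun _ => 0 := by
            funext x; fin_cases x <;> simp [hp, ← he, e, CharTwo.add_self_eq_zero]
          have a3 : (fun x => v (Sum.inr x)) = fun _ => 1 := by
            funext x; fin_cases x <;> simp [← he, e]
          rw [a1, a2, a3]
          simp [hammingNorm]
        rw [e1, pow_add, hI2]; ring
    · intro v _ _ e
      have := congrFun e (Sum.inr 0)
      simp [hp] at this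
    · intro v hv
      rw [hP] at hv
      simp only [Finset.mem_filter, Finset.mem_univ, true_and] at hv
      refine Finset.mem_filter.2 ⟨Finset.mem_filter.2 ⟨Finset.mem_univ _, fun c hc => ?_⟩, ?_⟩
      · simp only [Pi.add_apply, add_mul, Finset.sum_add_distrib, hv.1 c hc, hpP c hc, add_zero]
      · simp [hp, hv.2]
    · intro v _
      funext i; simp [add_assoc, CharTwo.add_self_eq_zero]
  rw [hzero, zero_add] at hG
  have hre : ∀ v ∈ P.filter (fun v => ¬ v (Sum.inr 0) = v (Sum.inr 1)), (I ^ hammingNorm v).re ≤ 0 := by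
    intro v hv
    simp only [hP, Finset.mem_filter, Finset.mem_univ, true_and] at hv
    have hnot := hcon v hv.1 hv.2
    have : hammingNorm v % 4 = 1 ∨ hammingNorm v % 4 = 2 ∨ hammingNorm v % 4 = 3 := by omega
    rw [← Nat.div_add_mod (hammingNorm v) 4, pow_add, pow_mul, hI4, one_pow, one_mul]
    rcases this with e | e | e <;> rw [e] <;> decide +kernel
  have := congrArg Zsqrtd.re hG
  have hsum : (∑ v ∈ P.filter (fun v => ¬ v (Sum.inr 0) = v (Sum.inr 1)), I ^ hammingNorm v).re =
      ∑ v ∈ P.filter (fun v => ¬ v (Sum.inr 0) = v (Sum.inr 1)), (I ^ hammingNorm v).re := by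
    induction P.filter (fun v => ¬ v (Sum.inr 0) = v (Sum.inr 1)) using Finset.induction with
    | empty => rfl
    | insert a s ha ih => rw [Finset.sum_insert ha, Finset.sum_insert ha, Zsqrtd.re_add, ih]
  rw [hsum] at this
  have hle := Finset.sum_nonpos hre
  rw [this] at hle
  exact absurd hle (by decide +kernel)

set_option maxHeartbeats 800000 in
/-- the code attached to a large system -/
theorem Big.exists_code (h : Big B r) : ∃ C : Submodule (ZMod 2) (α ⊕ Fin r → ZMod 2),
    GoodCode C ∧ (∀ b ∈ B, ext r b ∈ C) ∧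
    (r ≠ 2 → C = blockSpan r B) ∧
    (∀ D, GoodCode D → (∀ b ∈ B, ext r b ∈ D) → D = C ∨
      (r = 2 ∧ D = moveCode ((Equiv.refl α).sumCongr Fin.revPerm) C)) := by
  classical
  obtain ⟨horth, h4⟩ := h.span_facts
  have hcard : Fintype.card (α ⊕ Fin r) = 24 := by
    simp only [Fintype.card_sum, Fintype.card_fin, h.card]
    have := h.le
    omega
  have hmem : ∀ b ∈ B, ext r b ∈ blockSpan r B := fun b hb => Submodule.subset_span ⟨b, hb, rfl⟩
  by_cases hr : r = 2
  · subst hr
    obtain ⟨c, hc, hne, hc4⟩ := h.extra_word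
    set S := insert c (ext 2 '' B) with hS
    have horth' : ∀ v ∈ S, ∀ w ∈ S, ∑ i, v i * w i = 0 := by
      rintro v (ev | hv) w (ew | hw)
      · rw [ev, ew, show ∑ i, c i * c i = ∑ i, c i from Finset.sum_congr rfl fun i _ => by
          rcases zmod2_cases (c i) with e | e <;> simp [e], sum_eq_card, ZMod.natCast_eq_zero_iff]
        exact (by norm_num : 2 ∣ 4).trans hc4
      · rw [ev]; exact hc w (Submodule.subset_span hw)
      · rw [ew, ← hc v (Submodule.subset_span hv)]
        exact Finset.sum_congr rfl fun i _ => mul_comm _ _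
      · exact horth v (Submodule.subset_span hv) w (Submodule.subset_span hw)
    have h4' : ∀ v ∈ S, 4 ∣ hammingNorm v := by
      rintro v (ev | hv)
      · rw [ev]; exact hc4
      · exact h4 v (Submodule.subset_span hv)
    set C := Submodule.span (ZMod 2) S with hCdef
    have hcC : c ∈ C := Submodule.subset_span (Set.mem_insert _ _)
    have hBC : ∀ b ∈ B, ext 2 b ∈ C := fun b hb => Submodule.subset_span (Or.inr ⟨b, hb, rfl⟩)
    have hCgood : GoodCode C := by
      refine good_of hcard C (selforth_span S horth') (four_span S horth' h4') fun d hd h6 => ?_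
      have hdc := hd c hcC
      have hpair : ∀ q : α ⊕ Fin 2 → ZMod 2, (∀ a, q (Sum.inl a) = 0) → q (Sum.inr 0) = q (Sum.inr 1) →
          ∑ i, q i * c i = q (Sum.inr 0) := fun q hq0 hq => by
        rw [Fintype.sum_sum_type, Finset.sum_eq_zero fun a _ => by rw [hq0, zero_mul], zero_add,
          Fin.sum_univ_two, ← hq, ← mul_add,
          show c (Sum.inr 0) + c (Sum.inr 1) = 1 from (zmod2_cases _).resolve_left
            fun e => hne (CharTwo.add_eq_zero.1 e), mul_one]
      rcases h.short_dual d (fun b hb => hd _ (hBC b hb)) h6 with ⟨h0, hs⟩ | ⟨-, hs, hT, h0⟩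
      · rw [Fin.sum_univ_two] at hs
        have he := CharTwo.add_eq_zero.1 hs
        rw [hpair d h0 he] at hdc
        funext i
        rcases i with a | x
        · exact h0 a
        · fin_cases x
          exacts [hdc, he ▸ hdc]
      · exfalso
        set T := support₂ fun a => d (Sum.inl a)
        have hq := hpair (d + ext 2 T) (fun a => by
          simp only [Pi.add_apply, ext, indic, Finset.inl_mem_disjSum, T, mem_support₂]
          rcases zmod2_cases (d (Sum.inl a)) with e | e <;> simp [e, CharTwo.add_self_eq_zero])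
          (by simp [h0, ext, indic])
        have he := selforth_span S horth' _ (hBC T hT) c hcC
        simp only [Pi.add_apply, add_mul, Finset.sum_add_distrib, hdc, he, add_zero, h0, zero_add] at hq
        simp [ext, indic] at hq
    refine ⟨C, hCgood, hBC, fun e => absurd rfl e, fun D hD hBD => ?_⟩
    -- both codes lie in the words orthogonal to the blocks
    set e2 : α ⊕ Fin 2 ≃ α ⊕ Fin 2 := (Equiv.refl α).sumCongr Fin.revPerm
    obtain ⟨d, hd, hdne⟩ : ∃ d ∈ D, d (Sum.inr 0) ≠ d (Sum.inr 1) := by
      by_contra hall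
      push Not at hall
      set p : α ⊕ Fin 2 → ZMod 2 := Sum.elim (fun _ => 0) (fun _ => 1) with hp
      have : p ∈ D := hD.self_dual fun x hx => by
        simp [hp, Fintype.sum_sum_type, Fin.sum_univ_two, hall x hx, CharTwo.add_self_eq_zero]
      have hp0 : p ≠ 0 := fun e => by simpa [hp] using congrFun e (Sum.inr 0)
      have := hD.min p this hp0
      rw [split_norm] at this
      simp [hp, support₂, hammingNorm] at this
    set M := moveCode e2 C
    have hM : GoodCode M := hCgood.move e2
    have hswap : ∀ q : α ⊕ Fin 2 → ZMod 2, q (Sum.inr 0) = q (Sum.inr 1) → (fun i => q (e2 i)) = q := by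
      intro q hq
      funext i
      rcases i with a | x
      · rfl
      · fin_cases x
        · exact hq.symm
        · exact hq
    have hBM : ∀ b ∈ B, ext 2 b ∈ M := fun b hb => mem_moveCode.2 (by
      rw [hswap _ (by simp [ext, indic])]; exact hBC b hb)
    -- every word orthogonal to the blocks is determined by these
    have hE : ∀ x : α ⊕ Fin 2 → ZMod 2, (∀ b ∈ B, ∑ i, x i * ext 2 b i = 0) →
        x (Sum.inr 0) = x (Sum.inr 1) → ∑ i, x i * c i = 0 → x ∈ C := by
      intro x hx _ hxc
      refine hCgood.self_dual fun y hy => ?_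
      induction hy using Submodule.span_induction with
      | mem z hz =>
        rcases hz with rfl | ⟨b, hb, rfl⟩
        · rw [← hxc]; exact Finset.sum_congr rfl fun i _ => mul_comm _ _
        · rw [← hx b hb]; exact Finset.sum_congr rfl fun i _ => mul_comm _ _
      | zero => simp
      | add a b _ _ ha hb => simp only [Pi.add_apply, add_mul, Finset.sum_add_distrib, ha, hb, add_zero]
      | smul t a _ ha =>
        simp only [Pi.smul_apply, smul_eq_mul, mul_assoc, ← Finset.mul_sum, ha, mul_zero]
    have hDC : ∀ {E : Submodule (ZMod 2) (α ⊕ Fin 2 → ZMod 2)}, GoodCode E → (∀ b ∈ B, ext 2 b ∈ E) →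
        d ∈ E → ∀ v ∈ E, v (Sum.inr 0) = v (Sum.inr 1) → v ∈ C := by
      intro E hE' hBE hdE v hv hveq
      -- correct by the pair when necessary
      set p : α ⊕ Fin 2 → ZMod 2 := Sum.elim (fun _ => 0) (fun _ => 1) with hp
      have hpc : ∑ i, p i * c i = 1 := by
        simp only [hp, Fintype.sum_sum_type, Sum.elim_inl, zero_mul, Finset.sum_const_zero, zero_add,
          Sum.elim_inr, one_mul, Fin.sum_univ_two]
        exact (zmod2_cases _).resolve_left fun e => hne (CharTwo.add_eq_zero.1 e)
      have hvb : ∀ b ∈ B, ∑ i, v i * ext 2 b i = 0 := fun b hb => hE'.orth v hv _ (hBE b hb)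
      have hpb : ∀ b : Finset α, ∑ i, p i * ext 2 b i = 0 := fun b => by
        simp [hp, ext, indic, Fintype.sum_sum_type, two_zero]
      rcases zmod2_cases (∑ i, v i * c i) with e | e
      · exact hE v hvb hveq e
      · exfalso
        have hw : v + p ∈ C := hE _ (fun b hb => by
            simp only [Pi.add_apply, add_mul, Finset.sum_add_distrib, hvb b hb, hpb b, add_zero])
          (by simp [hp, hveq])
          (by simp only [Pi.add_apply, add_mul, Finset.sum_add_distrib, e, hpc]; decide)
        obtain ⟨m, hm⟩ := hE'.four v hv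
        obtain ⟨n, hn⟩ := hCgood.four _ hw
        have a1 : (fun a => (v + p) (Sum.inl a)) = fun a => v (Sum.inl a) := by funext a; simp [hp]
        rw [split_norm] at hm hn
        rw [a1] at hn
        rcases zmod2_cases (v (Sum.inr 0)) with z | z <;>
          simp [hammingNorm, hp, Finset.card_filter, Fin.sum_univ_two, ← hveq, z,
            CharTwo.add_self_eq_zero] at hm hn <;> omega
    have key : ∀ {E : Submodule (ZMod 2) (α ⊕ Fin 2 → ZMod 2)}, GoodCode E → (∀ b ∈ B, ext 2 b ∈ E) →
        d ∈ E → D ≤ E → D = E := fun hE' _ _ h' =>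
      Submodule.eq_of_le_of_finrank_eq h' (hD.dim.trans hE'.dim.symm)
    have hcore : ∀ v ∈ D, v (Sum.inr 0) = v (Sum.inr 1) → v ∈ C := hDC hD hBD hd
    have hsum : ∀ v ∈ D, v (Sum.inr 0) ≠ v (Sum.inr 1) → v + d ∈ C := fun v hv hv' =>
      hcore _ (add_mem hv hd) (by
        simp only [Pi.add_apply]
        revert hv' hdne
        generalize v (Sum.inr 0) = p0; generalize v (Sum.inr 1) = p1
        generalize d (Sum.inr 0) = q0; generalize d (Sum.inr 1) = q1
        revert p0 p1 q0 q1; decide)
    -- the sum of the distinguished words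
    have hdb : ∀ b ∈ B, ∑ i, (d + c) i * ext 2 b i = 0 := fun b hb => by
      simp only [Pi.add_apply, add_mul, Finset.sum_add_distrib, hD.orth d hd _ (hBD b hb),
        hc _ (hmem b hb), add_zero]
    have hdeq : (d + c) (Sum.inr 0) = (d + c) (Sum.inr 1) := by
      simp only [Pi.add_apply]
      revert hne hdne
      generalize d (Sum.inr 0) = p0; generalize d (Sum.inr 1) = p1
      generalize c (Sum.inr 0) = q0; generalize c (Sum.inr 1) = q1
      revert p0 p1 q0 q1; decide
    rcases zmod2_cases (∑ i, d i * c i) with e | e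
    · left
      have hdC : d ∈ C := by
        have := hE (d + c) hdb hdeq (by
          simp only [Pi.add_apply, add_mul, Finset.sum_add_distrib, e,
            hCgood.orth c hcC c hcC, add_zero])
        simpa [add_assoc, add_sub_cancel_right] using sub_mem this hcC
      refine key hCgood hBC hdC fun v hv => ?_
      by_cases hv' : v (Sum.inr 0) = v (Sum.inr 1)
      · exact hcore v hv hv'
      · simpa using sub_mem (hsum v hv hv') hdC
    · refine Or.inr ⟨rfl, ?_⟩
      set p : α ⊕ Fin 2 → ZMod 2 := Sum.elim (fun _ => 0) (fun _ => 1) with hp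
      have hcM : c + p ∈ M := mem_moveCode.2 (by
        convert hcC using 1
        funext i
        rcases i with a | x
        · simp [e2, hp]
        · fin_cases x
          all_goals
            simp [e2, hp]
            revert hne
            generalize c (Sum.inr 0) = q0; generalize c (Sum.inr 1) = q1
            revert q0 q1; decide)
      have hdM : d ∈ M := by
        have h1 : d + c + p ∈ C := hE _ (fun b hb => by
            have hpb : ∑ i, p i * ext 2 b i = 0 := by
              simp [hp, ext, indic, Fintype.sum_sum_type, two_zero]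
            have := hdb b hb
            simp only [Pi.add_apply, add_mul, Finset.sum_add_distrib] at this ⊢
            rw [this, hpb, add_zero])
          (by simp only [Pi.add_apply, hp, Sum.elim_inr] at hdeq ⊢; rw [hdeq])
          (by
            have hpc : ∑ i, p i * c i = 1 := by
              simp only [hp, Fintype.sum_sum_type, Sum.elim_inl, zero_mul, Finset.sum_const_zero,
                zero_add, Sum.elim_inr, one_mul, Fin.sum_univ_two]
              exact (zmod2_cases _).resolve_left fun e => hne (CharTwo.add_eq_zero.1 e)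
            simp only [Pi.add_apply, add_mul, Finset.sum_add_distrib, e, hCgood.orth c hcC c hcC,
              hpc, add_zero]
            decide)
        have h2 : d + c + p ∈ M := mem_moveCode.2 (by
          rw [hswap _ (by simp only [Pi.add_apply, hp, Sum.elim_inr] at hdeq ⊢; rw [hdeq])]
          exact h1)
        have := sub_mem h2 hcM
        rwa [add_assoc, add_sub_cancel_right] at this
      refine key hM hBM hdM fun v hv => ?_
      by_cases hv' : v (Sum.inr 0) = v (Sum.inr 1)
      · exact mem_moveCode.2 (by rw [hswap v hv']; exact hcore v hv hv')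
      · have hsM : v + d ∈ M := mem_moveCode.2 (by
          rw [hswap _ ?_]
          · exact hsum v hv hv'
          · simp only [Pi.add_apply]
            revert hv' hdne
            generalize v (Sum.inr 0) = p0; generalize v (Sum.inr 1) = p1
            generalize d (Sum.inr 0) = q0; generalize d (Sum.inr 1) = q1
            revert p0 p1 q0 q1; decide)
        simpa using sub_mem hsM hdM
  · have hgood : GoodCode (blockSpan r B) := by
      refine good_of hcard _ horth h4 fun d hd h6 => ?_
      rcases h.short_dual d (fun b hb => hd _ (hmem b hb)) h6 with ⟨h0, hs⟩ | ⟨e, -⟩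
      · funext i
        rcases i with a | x
        · exact h0 a
        · have hle := h.le
          obtain rfl : r = 1 := by have := x.isLt; omega
          rw [Fin.sum_univ_one] at hs
          rwa [show x = 0 from Subsingleton.elim _ _]
      · exact absurd e hr
    refine ⟨_, hgood, hmem, fun _ => rfl, fun D hD hBD => Or.inl ?_⟩
    refine (Submodule.eq_of_le_of_finrank_eq ?_ (hgood.dim.trans hD.dim.symm)).symm
    exact Submodule.span_le.2 (by rintro _ ⟨b, hb, rfl⟩; exact hBD b hb)

theorem moveCode_M24 {σ : Equiv.Perm GolayPt} (hσ : σ ∈ M24) : moveCode σ golayCode = golayCode := by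
  ext v
  rw [mem_moveCode]
  refine ⟨fun h => ?_, fun h => comp_mem_of_M24 hσ h⟩
  have := comp_mem_of_M24 (inv_mem hσ) h
  simpa [Function.comp_def] using this

theorem golay_good : GoodCode (golayCode : Submodule (ZMod 2) (GolayPt → ZMod 2)) :=
  ⟨card_golayPt, finrank_golayCode, orth_golay, fun _ hw => four_dvd_weight hw, min_golay⟩

/-- the added points, inside the standard point set -/
def extraPt (r : ℕ) (x : Fin r) : GolayPt := if x.val = 0 then none else some 0

/-- normal form -/
theorem to_standard {r : ℕ} (hr : r ≤ 2) {C : Submodule (ZMod 2) (α ⊕ Fin r → ZMod 2)}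
    (hC : GoodCode C) :
    ∃ e : α ⊕ Fin r ≃ GolayPt, moveCode e C = golayCode ∧ ∀ x, e (Sum.inr x) = extraPt r x := by
  obtain ⟨e, he⟩ := code_unique hC golay_good
  have hinj : Function.Injective (extraPt r) := by
    intro x y h
    have hx := x.isLt
    have hy := y.isLt
    refine Fin.ext ?_
    simp only [extraPt] at h
    split_ifs at h <;> omega
  obtain ⟨σ, hσ, hmap⟩ := exists_move (List.ofFn fun x => e (Sum.inr x)) (List.ofFn (extraPt r))
    (List.nodup_ofFn.2 (e.injective.comp Sum.inr_injective)) (List.nodup_ofFn.2 hinj)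
    (by simp) (by simp; omega)
  refine ⟨e.trans σ, ?_, fun x => ?_⟩
  · rw [← moveCode_M24 hσ, ← he]
    ext v
    simp [mem_moveCode]
  · rw [List.map_ofFn, List.ofFn_inj] at hmap
    exact congrFun hmap x

theorem block_of_ext (h : Big B r) {C : Submodule (ZMod 2) (α ⊕ Fin r → ZMod 2)} (hC : GoodCode C)
    (hBC : ∀ b ∈ B, ext r b ∈ C) {S : Finset α} (hS : ext r S ∈ C) (hc : S.card = 8 - r) : S ∈ B := by
  have hle := h.le
  obtain ⟨s, hs, hsc⟩ := Finset.exists_subset_card_eq (show 5 - r ≤ S.card by omega)
  obtain ⟨b, ⟨hb, hsb⟩, -⟩ := h.steiner.2 s hsc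
  suffices S = b by rwa [this]
  by_contra hne
  have h0 : ext r S + ext r b ≠ 0 := fun e => hne (by
    have e' := congrArg support₂ (funext fun i => CharTwo.add_eq_zero.1 (congrFun e i) :
      ext r S = ext r b)
    rw [ext, ext, support₂_indic, support₂_indic] at e'
    ext a
    simpa using congrArg (Sum.inl a ∈ ·) e')
  have hw := hC.min _ (add_mem hS (hBC b hb)) h0
  have hwa := weight_add (ext r S) (ext r b)
  rw [norm_ext, norm_ext, hc, h.steiner.1 b hb] at hwa
  have : (s.disjSum (Finset.univ : Finset (Fin r))).card ≤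
      (support₂ (ext r S) ∩ support₂ (ext r b)).card := by
    refine Finset.card_le_card (Finset.subset_inter ?_ ?_) <;>
      rw [ext, support₂_indic] <;> exact Finset.disjSum_mono (by assumption) subset_rfl
  rw [Finset.card_disjSum, Finset.card_univ, Fintype.card_fin, hsc] at this
  omega

theorem comp_ext {β : Type*} [Fintype β] [DecidableEq β] {r : ℕ}
    (f : α ⊕ Fin r ≃ β ⊕ Fin r) (g : α ≃ β)
    (hl : ∀ a, f (Sum.inl a) = Sum.inl (g a)) (hr : ∀ x, ∃ y, f (Sum.inr x) = Sum.inr y)
    (b : Finset α) : (fun i => ext r (b.image g) (f i)) = ext r b := by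
  funext i
  rcases i with a | x
  · rw [hl]; simp [ext, indic]
  · obtain ⟨y, hy⟩ := hr x
    rw [hy]; simp [ext, indic]

/-- uniqueness of the three large systems -/
theorem big_unique {β : Type*} [Fintype β] [DecidableEq β] {r : ℕ} {B' : Set (Finset β)}
    (h : Big B r) (h' : Big B' r) : SetSystemIso B B' := by
  obtain ⟨C, hC, hBC, -⟩ := h.exists_code
  obtain ⟨D, hD, hBD, -⟩ := h'.exists_code
  obtain ⟨e, he, he1⟩ := to_standard h.le hC
  obtain ⟨e', he', he1'⟩ := to_standard h'.le hD
  set f := e.trans e'.symm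
  have hr : ∀ x, f (Sum.inr x) = Sum.inr x := fun x => by
    simp only [f, Equiv.trans_apply, he1, Equiv.symm_apply_eq, he1']
  have hl : ∀ a, ∃ b, f (Sum.inl a) = Sum.inl b := fun a => by
    rcases hb : f (Sum.inl a) with b | x
    · exact ⟨b, rfl⟩
    · rw [← hr x] at hb
      exact absurd (f.injective hb) (by simp)
  choose g hg using hl
  have hgb : Function.Bijective g := by
    refine (Fintype.bijective_iff_injective_and_card g).2 ⟨fun a a' e => ?_, by rw [h.card, h'.card]⟩
    exact Sum.inl_injective (f.injective (by rw [hg, hg, e]))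
  let G : α ≃ β := Equiv.ofBijective g hgb
  have hcomp := comp_ext f G hg fun x => ⟨x, hr x⟩
  have hCD : ∀ v : β ⊕ Fin r → ZMod 2, v ∈ D ↔ (fun i => v (f i)) ∈ C := fun v => by
    have h1 : (fun p => v (e'.symm p)) ∈ moveCode e' D ↔ v ∈ D := by
      rw [mem_moveCode]; simp
    rw [he', ← he, mem_moveCode] at h1
    exact h1.symm
  refine ⟨G, Set.Subset.antisymm ?_ fun b' hb' => ?_⟩
  · rintro _ ⟨b, hb, rfl⟩
    refine block_of_ext h' hD hBD ((hCD _).2 ?_)
      (by rw [Finset.card_image_of_injective _ G.injective, h.steiner.1 b hb])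
    rw [hcomp]
    exact hBC b hb
  · refine ⟨b'.image G.symm, block_of_ext h hC hBC ?_
      (by rw [Finset.card_image_of_injective _ G.symm.injective, h'.steiner.1 b' hb']), ?_⟩
    · have := (hCD _).1 (hBD b' hb')
      rwa [show b' = (b'.image G.symm).image G by simp [Finset.image_image], hcomp] at this
    · simp [Finset.image_image]

end Cfsg.Agent.Leech.Unique
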