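import Mathlib
import Cfsg.Prelude.Def_Sporadic_a
import Cfsg.Agent.Leech.Unique.SteinerCode

/-! Uniqueness of the two small Steiner systems. -/

set_option autoImplicit false

namespace Cfsg.Agent.Leech.Unique
open Cfsg Finset

/-- the blocks through the three last points -/
def core12 : List ℕ := [3591, 3657, 3857, 3745, 3850, 3730, 3682, 3724, 3668, 3876, 3640, 4032]

def arc12 : Fin 54 → ℕ := ![27, 43, 139, 51, 83, 291, 195, 323, 387, 29, 45, 269, 53, 149, 101, 197, 325, 389, 153, 297, 393, 113, 209, 353, 30, 46, 78, 54, 278, 166, 198, 326, 390, 90, 170, 202, 306, 338, 418, 284, 108, 332, 180, 404, 228, 216, 344, 408, 232, 360, 424, 240, 368, 432]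

def stdCol : Fin 54 → Fin 3 := ![0, 1, 2, 2, 1, 0, 0, 2, 1, 2, 0, 1, 1, 0, 2, 1, 0, 2, 1, 2, 0, 0, 2, 1, 1, 2, 0, 0, 2, 1, 2, 1, 0, 2, 0, 1, 1, 0, 2, 0, 1, 2, 2, 1, 0, 0, 1, 2, 2, 0, 1, 1, 2, 0]

def triple12 : Fin 54 → ℕ := ![11, 11, 11, 19, 19, 35, 67, 67, 131, 13, 13, 13, 21, 21, 37, 69, 69, 133, 25, 41, 137, 49, 81, 97, 14, 14, 14, 22, 22, 38, 70, 70, 134, 26, 42, 74, 50, 82, 162, 28, 44, 76, 52, 148, 100, 88, 88, 152, 104, 104, 168, 112, 112, 176]

def steps12 : List (Fin 54 × Fin 54 × Fin 54) := [(3, 0, 1), (4, 0, 3), (5, 1, 3), (6, 4, 2), (7, 5, 4), (8, 5, 2), (18, 0, 2), (19, 5, 1), (20, 8, 2), (21, 4, 3), (22, 6, 4), (23, 5, 7), (33, 0, 4), (34, 1, 2), (35, 6, 2), (36, 5, 3), (37, 4, 7), (38, 5, 8), (45, 18, 22), (46, 37, 33), (47, 20, 18), (48, 34, 35), (49, 23, 19), (50, 20, 19), (51, 21, 22), (52, 21, 23), (53, 36, 38), (9, 0, 18), (10, 1, 9), (11, 10, 9), (12, 10, 3), (13, 12, 9), (14, 10, 12), (15, 6, 14), (16, 11, 7), (17, 13, 8), (24, 0, 9), (25, 10, 1), (26,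 24, 25), (27, 12, 3), (28, 27, 24), (29, 27, 25), (30, 6, 15), (31, 16, 7), (32, 8, 17), (39, 11, 9), (40, 10, 14), (41, 16, 11), (42, 13, 12), (43, 13, 17), (44, 15, 14)]

def sigma12 : List (Fin 12 → Fin 12) :=
  [![0, 6, 3, 1, 7, 4, 2, 8, 5, 9, 10, 11],
   ![0, 3, 6, 1, 4, 7, 2, 5, 8, 9, 10, 11],
   ![0, 3, 6, 4, 7, 1, 8, 2, 5, 9, 10, 11],
   ![0, 6, 3, 4, 1, 7, 8, 5, 2, 9, 10, 11],
   ![0, 6, 3, 7, 4, 1, 5, 2, 8, 9, 10, 11],
   ![0, 3, 6, 7, 1, 4, 5, 8, 2, 9, 10, 11]]

/-- the colours' pairs of points -/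
def pair12 (k : Fin 3) : ℕ := ![3072, 2560, 1536] k

/-- a block through two of the three last points -/
def blk12 (i : Fin 54) (k : Fin 3) : ℕ := arc12 i ||| pair12 k

/-- half of the standard system -/
def half12 : List ℕ := core12 ++ (List.finRange 54).map fun i => blk12 i (stdCol i)

/-- the standard system -/
def full12 : List ℕ := half12 ++ half12.map fun n => 4095 ^^^ n

/-- the set of a mask -/
def maskSet (n : ℕ) : Finset (Fin 12) := univ.filter fun i => n.testBit i

def pop12 (n : ℕ) : ℕ := ∑ i : Fin 12, if n.testBit i then 1 else 0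

/-- standard system -/
def std12 : Set (Finset (Fin 12)) := {F | ∃ n ∈ full12, maskSet n = F}

theorem card_maskSet (n : ℕ) : (maskSet n).card = pop12 n := by
  rw [maskSet, pop12, Finset.card_filter]

theorem maskSet_and (n m : ℕ) : maskSet (n &&& m) = maskSet n ∩ maskSet m := by
  ext i; simp [maskSet]

theorem maskSet_or (n m : ℕ) : maskSet (n ||| m) = maskSet n ∪ maskSet m := by
  ext i; simp [maskSet]

theorem maskSet_pow (x : Fin 12) : maskSet (2 ^ (x : ℕ)) = {x} := by
  ext i; simp [maskSet, Nat.testBit_two_pow, Fin.ext_iff, eq_comm]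

theorem maskSet_inj {n m : ℕ} (hn : n < 4096) (hm : m < 4096) (h : maskSet n = maskSet m) :
    n = m := by
  refine Nat.eq_of_testBit_eq fun i => ?_
  by_cases hi : i < 12
  · have := congrArg (fun s => (⟨i, hi⟩ : Fin 12) ∈ s) h
    simpa [maskSet] using this
  · rw [Nat.testBit_lt_two_pow (hn.trans_le (show 2 ^ 12 ≤ 2 ^ i from Nat.pow_le_pow_right (by norm_num) (by omega))),
      Nat.testBit_lt_two_pow (hm.trans_le (show 2 ^ 12 ≤ 2 ^ i from Nat.pow_le_pow_right (by norm_num) (by omega)))]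

theorem exists_maskSet (F : Finset (Fin 12)) : ∃ n : Fin 4096, maskSet n = F :=
  ((Fintype.bijective_iff_injective_and_card (fun n : Fin 4096 => maskSet n)).2
    ⟨fun n m h => Fin.ext (maskSet_inj n.2 m.2 h), by simp⟩).2 F

theorem maskSet_compl (n : ℕ) : maskSet (4095 ^^^ n) = (maskSet n)ᶜ := by
  have h : ∀ i : Fin 12, (4095 : ℕ).testBit i = true := by decide
  ext i; simp [maskSet, h]

/-! the checks -/

theorem full12_cover' : ∀ h l : Fin 64, pop12 (64 * h + l) = 5 →
    ∃ s ∈ full12, (64 * h + l : ℕ) &&& s = 64 * h + l := by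
  decide +kernel

theorem full12_cover (n : Fin 4096) (hn : pop12 n = 5) :
    ∃ s ∈ full12, (n : ℕ) &&& s = n := by
  have h := full12_cover' ⟨n / 64, by omega⟩ ⟨n % 64, by omega⟩
  simp only [Nat.div_add_mod] at h
  exact h hn

theorem full12_small : ∀ s ∈ full12, s < 4096 ∧ pop12 s = 6 := by decide +kernel

theorem sixth_cases : ∀ (i : Fin 54) (k : Fin 3) (x : Fin 12),
    (triple12 i ||| pair12 k).testBit x = false →
      (∃ c ∈ core12, c ≠ triple12 i ||| pair12 k ||| 2 ^ (x : ℕ) ∧
        5 ≤ pop12 (c &&& (triple12 i ||| pair12 k ||| 2 ^ (x : ℕ)))) ∨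
      ∃ j, triple12 i &&& arc12 j = triple12 i ∧
        triple12 i ||| pair12 k ||| 2 ^ (x : ℕ) = blk12 j k := by
  decide +kernel

theorem triple12_card : ∀ i k, pop12 (triple12 i ||| pair12 k) = 5 ∧
    triple12 i &&& arc12 i = triple12 i ∧
    (univ.filter fun j => triple12 i &&& arc12 j = triple12 i).card = 3 := by decide +kernel

theorem same_pairs : ∀ j k k', k ≠ k' →
    blk12 j k ≠ blk12 j k' ∧ 5 ≤ pop12 (blk12 j k &&& blk12 j k') ∧ blk12 j k < 4096 := by
  decide +kernel

def adj12 (i j : Fin 54) : Bool := decide (i ≠ j) && decide (pop12 (arc12 i &&& arc12 j) = 3)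

theorem adj12_blk : ∀ i j k, adj12 i j = true →
    blk12 i k ≠ blk12 j k ∧ 5 ≤ pop12 (blk12 i k &&& blk12 j k) := by decide +kernel

def chain12 : List (Fin 54 × Fin 54 × Fin 54) → List (Fin 54) → Bool
  | [], known => (List.finRange 54).all fun i => known.contains i
  | (i, a, b) :: l, known => known.contains a && known.contains b && adj12 i a && adj12 i b &&
      decide (stdCol a ≠ stdCol b) && decide (stdCol i ≠ stdCol a) && decide (stdCol i ≠ stdCol b) &&
      chain12 l (i :: known)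

theorem chain12_check : chain12 steps12 [0, 1, 2] = true := by decide +kernel

theorem chain12_sound (col : Fin 54 → Fin 3) (π : Equiv.Perm (Fin 3))
    (hcol : ∀ i j, adj12 i j = true → col i ≠ col j) :
    ∀ l known, chain12 l known = true → (∀ i ∈ known, col i = π (stdCol i)) →
      ∀ i, col i = π (stdCol i)
  | [], known, h, hk => fun i => by
      simp only [chain12, List.all_eq_true, List.mem_finRange, forall_const] at h
      exact hk i (List.contains_iff_mem.1 (h i))
  | (x, a, b) :: l, known, h, hk => by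
      simp only [chain12, Bool.and_eq_true, decide_eq_true_eq, List.contains_iff_mem] at h
      obtain ⟨⟨⟨⟨⟨⟨⟨ha, hb⟩, hxa⟩, hxb⟩, hab⟩, hna⟩, hnb⟩, hl⟩ := h
      refine chain12_sound col π hcol l _ hl fun i hi => ?_
      rcases List.mem_cons.1 hi with rfl | hi
      · have h1 := hcol _ _ hxa
        have h2 := hcol _ _ hxb
        rw [hk a ha] at h1
        rw [hk b hb] at h2
        have key : ∀ (p q r y : Fin 3), p ≠ q → r ≠ p → r ≠ q → y ≠ p → y ≠ q → y = r := by decide
        exact key _ _ _ _ (π.injective.ne hab) (π.injective.ne hna) (π.injective.ne hnb) h1 h2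
      · exact hk i hi

theorem base_distinct : adj12 0 1 = true ∧ adj12 0 2 = true ∧ adj12 1 2 = true ∧
    stdCol 0 = 0 ∧ stdCol 1 = 1 ∧ stdCol 2 = 2 := by decide +kernel

theorem sigma12_check : ∀ π : Fin 3 → Fin 3, Function.Injective π → ∃ p ∈ sigma12,
    Function.Bijective p ∧ p 9 = 9 ∧ p 10 = 10 ∧ p 11 = 11 ∧
    (∀ c ∈ core12, ∃ c' ∈ core12, ∀ x : Fin 12, c'.testBit (p x) = c.testBit x) ∧
    ∀ i, ∃ j, π (stdCol j) = stdCol i ∧
      ∀ x : Fin 12, (blk12 j (stdCol i)).testBit (p x) = (blk12 i (stdCol i)).testBit x := by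
  decide +kernel

/-! complements -/

theorem compl_block {α : Type*} [Fintype α] [DecidableEq α] {B : Set (Finset α)}
    (hB : IsSteinerSystem 5 6 B) (hα : Fintype.card α = 12) {b : Finset α} (hb : b ∈ B) :
    bᶜ ∈ B := by
  classical
  have hs := fun m => cnt_self hB hb (by norm_num) m
  have e0 := moment hB (by norm_num) b 0 (by norm_num)
  have e1 := moment hB (by norm_num) b 1 (by norm_num)
  have e2 := moment hB (by norm_num) b 2 (by norm_num)
  have e3 := moment hB (by norm_num) b 3 (by norm_num)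
  have e4 := moment hB (by norm_num) b 4 (by norm_num)
  rw [hB.1 b hb, hα] at e0 e1 e2 e3 e4
  have := hs 5 (by norm_num); have := hs 6 (by norm_num); have := hs 7 (by norm_num)
  have := hs 8 (by norm_num)
  have h0 : cnt B b 0 = 1 := by
    simp only [Finset.sum_range_succ, Finset.sum_range_zero, Nat.choose, Nat.sub_zero, Nat.reduceSub,
      Nat.reduceEqDiff, if_true, if_false, reduceIte] at *
    omega
  rw [cnt, Finset.card_eq_one] at h0
  obtain ⟨d, hd⟩ := h0
  have hd' : d ∈ ({d} : Finset (Finset α)) := Finset.mem_singleton_self d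
  rw [← hd, Finset.mem_filter, Finset.mem_filter, Finset.card_eq_zero] at hd'
  have : d = bᶜ := Finset.eq_of_subset_of_card_le
    (fun x hx => Finset.mem_compl.2 fun hxb =>
      Finset.notMem_empty x (hd'.2 ▸ Finset.mem_inter.2 ⟨hx, hxb⟩))
    (by rw [Finset.card_compl, hα, hB.1 b hb, hB.1 d hd'.1.2])
  exact this ▸ hd'.1.2

theorem classify12 {B : Set (Finset (Fin 12))} (hB : IsSteinerSystem 5 6 B)
    (hcore : ∀ c ∈ core12, maskSet c ∈ B) :
    ∃ g : Equiv.Perm (Fin 12), g 9 = 9 ∧ g 10 = 10 ∧ g 11 = 11 ∧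
      (fun b => b.image g) '' std12 = B := by
  classical
  have clash : ∀ {n m}, maskSet n ∈ B → maskSet m ∈ B → n < 4096 → m < 4096 →
      5 ≤ pop12 (n &&& m) → n = m := by
    intro n m hn hm ln lm h
    refine maskSet_inj ln lm (block_unique hB hn hm ?_)
    rwa [← maskSet_and, card_maskSet]
  have small : ∀ i k, blk12 i k < 4096 ∧ pair12 k < 4096 ∧ triple12 i < 4096 := by decide +kernel
  have csmall : ∀ c ∈ core12, c < 4096 := by decide +kernel
  have hex : ∀ i k, ∃ j, triple12 i &&& arc12 j = triple12 i ∧ maskSet (blk12 j k) ∈ B := by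
    intro i k
    obtain ⟨b, ⟨hb, hsub⟩, -⟩ := hB.2 (maskSet (triple12 i ||| pair12 k))
      (by rw [card_maskSet, (triple12_card i k).1])
    obtain ⟨x, hx⟩ := Finset.card_eq_one.1 (show (b \ maskSet (triple12 i ||| pair12 k)).card = 1 by
      rw [Finset.card_sdiff_of_subset hsub, hB.1 b hb, card_maskSet, (triple12_card i k).1])
    have hx' : x ∈ b \ maskSet (triple12 i ||| pair12 k) := by rw [hx]; exact Finset.mem_singleton_self x
    have hbit : (triple12 i ||| pair12 k).testBit x = false := by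
      simpa [maskSet] using (Finset.mem_sdiff.1 hx').2
    have hbeq : maskSet (triple12 i ||| pair12 k ||| 2 ^ (x : ℕ)) = b := by
      rw [maskSet_or, maskSet_pow, ← hx, Finset.union_sdiff_of_subset hsub]
    rcases sixth_cases i k x hbit with ⟨c, hc, hne, h5⟩ | ⟨j, hj, hm⟩
    · refine absurd (clash (hcore c hc) (hbeq.symm ▸ hb) (csmall c hc) ?_ h5) hne
      exact Nat.or_lt_two_pow (n := 12) (Nat.or_lt_two_pow (n := 12) (small i k).2.2 (small i k).2.1)
        (Nat.pow_lt_pow_right (by norm_num) x.2)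
    · exact ⟨j, hj, by rw [← hm, hbeq]; exact hb⟩
  have hexcl : ∀ j k k', maskSet (blk12 j k) ∈ B → maskSet (blk12 j k') ∈ B → k = k' := by
    intro j k k' h h'
    by_contra hne
    obtain ⟨h1, h2, h3⟩ := same_pairs j k k' hne
    exact h1 (clash h h' h3 (small j k').1 h2)
  choose f hf1 hf2 using hex
  have hcol : ∀ i, ∃ k, maskSet (blk12 i k) ∈ B := by
    intro i
    have hinj : Function.Injective (f i) := fun k k' e => hexcl _ k k' (hf2 i k) (e ▸ hf2 i k')
    have heq : univ.image (f i) = univ.filter fun j => triple12 i &&& arc12 j = triple12 i := by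
      refine Finset.eq_of_subset_of_card_le (fun j hj => ?_) ?_
      · obtain ⟨k, -, rfl⟩ := Finset.mem_image.1 hj
        simp [hf1 i k]
      · rw [Finset.card_image_of_injective _ hinj, (triple12_card i 0).2.2]; simp
    have hi : i ∈ univ.image (f i) := by rw [heq]; simp [(triple12_card i 0).2.1]
    obtain ⟨k, -, hk⟩ := Finset.mem_image.1 hi
    exact ⟨k, by simpa only [hk] using hf2 i k⟩
  choose col hcolB using hcol
  have hproper : ∀ i j, adj12 i j = true → col i ≠ col j := by
    intro i j h e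
    obtain ⟨h1, h2⟩ := adj12_blk i j (col i) h
    exact h1 (clash (hcolB i) (e ▸ hcolB j) (small _ _).1 (small _ _).1 h2)
  obtain ⟨b01, b02, b12, s0, s1, s2⟩ := base_distinct
  have hπ : Function.Injective ![col 0, col 1, col 2] := by
    have key : ∀ a b c : Fin 3, a ≠ b → a ≠ c → b ≠ c → Function.Injective ![a, b, c] := by decide
    exact key _ _ _ (hproper _ _ b01) (hproper _ _ b02) (hproper _ _ b12)
  let π : Equiv.Perm (Fin 3) := Equiv.ofBijective _ (Finite.injective_iff_bijective.1 hπ)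
  have hπcol : ∀ i, col i = π (stdCol i) := chain12_sound col π hproper _ _ chain12_check (by
    intro i hi
    simp only [List.mem_cons, List.not_mem_nil, or_false] at hi
    rcases hi with rfl | rfl | rfl
    · rw [s0]; rfl
    · rw [s1]; rfl
    · rw [s2]; rfl)
  obtain ⟨p, -, hp, p9, p10, p11, hpc, hpi⟩ := sigma12_check π π.injective
  let g : Equiv.Perm (Fin 12) := Equiv.ofBijective p hp
  have himg : ∀ n m : ℕ, (∀ x : Fin 12, m.testBit (p x) = n.testBit x) →
      (maskSet n).image g = maskSet m := by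
    intro n m h
    ext y
    obtain ⟨x, rfl⟩ := g.surjective y
    rw [g.injective.mem_finset_image]
    simp [maskSet, g, h]
  have hhalf : ∀ n ∈ half12, (maskSet n).image g ∈ B := by
    intro n hn
    rcases List.mem_append.1 hn with hn | hn
    · obtain ⟨c, hc, h⟩ := hpc n hn
      rw [himg n c h]; exact hcore c hc
    · obtain ⟨i, -, rfl⟩ := List.mem_map.1 hn
      obtain ⟨j, hj, h⟩ := hpi i
      rw [himg _ _ h, show stdCol i = col j by rw [hπcol, hj]]
      exact hcolB j
  have hfull : ∀ n ∈ full12, (maskSet n).image g ∈ B := by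
    intro n hn
    rcases List.mem_append.1 hn with hn | hn
    · exact hhalf n hn
    · obtain ⟨m, hm, rfl⟩ := List.mem_map.1 hn
      rw [maskSet_compl, show ((maskSet m)ᶜ).image g = ((maskSet m).image g)ᶜ by
        ext y; obtain ⟨x, rfl⟩ := g.surjective y; simp]
      exact compl_block hB (Fintype.card_fin 12) (hhalf m hm)
  refine ⟨g, p9, p10, p11, Set.Subset.antisymm ?_ fun b hb => ?_⟩
  · rintro _ ⟨_, ⟨n, hn, rfl⟩, rfl⟩
    exact hfull n hn
  · have hb6 : (b.image g.symm).card = 6 := by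
      rw [Finset.card_image_of_injective _ g.symm.injective, hB.1 b hb]
    obtain ⟨S, hS, hS5⟩ := Finset.exists_subset_card_eq (show 5 ≤ (b.image g.symm).card by omega)
    obtain ⟨n, hn⟩ := exists_maskSet S
    obtain ⟨s, hs, hns⟩ := full12_cover n (by rw [← card_maskSet, hn, hS5])
    refine ⟨maskSet s, ⟨s, hs, rfl⟩, block_unique hB (hfull s hs) hb ?_⟩
    refine le_trans ?_ (Finset.card_le_card (Finset.subset_inter (s₁ := S.image g)
      (Finset.image_subset_image ?_) ?_))
    · rw [Finset.card_image_of_injective _ g.injective, hS5]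
    · rw [← hn, ← hns, maskSet_and]; exact Finset.inter_subset_right
    · intro y hy
      obtain ⟨x, hx, rfl⟩ := Finset.mem_image.1 hy
      obtain ⟨a, ha, rfl⟩ := Finset.mem_image.1 (hS hx)
      simpa using ha

end Cfsg.Agent.Leech.Unique
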