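import Mathlib
import Cfsg.Prelude.Def_Sporadic_a
import Cfsg.Agent.Leech.Unique.Twelve

/-! Coordinates in a system of sixes on twelve points. -/

set_option autoImplicit false

namespace Cfsg.Agent.Leech.Unique
open Cfsg Finset

def neg3 (x y : Fin 3) : Fin 3 := -(x + y)

def perms3 : List (Fin 3 → Fin 3) :=
  [![0, 1, 2], ![0, 2, 1], ![1, 0, 2], ![1, 2, 0], ![2, 0, 1], ![2, 1, 0]]

theorem mem_perms3 : ∀ f : Fin 3 → Fin 3, Function.Injective f → f ∈ perms3 := by decide +kernel

theorem latin3 : ∀ a ∈ perms3, ∀ b ∈ perms3, ∀ c ∈ perms3,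
    (∀ j, a j ≠ b j ∧ a j ≠ c j ∧ b j ≠ c j) →
    ∃ π ∈ perms3, ∃ ρ ∈ perms3, ∀ x y, ![a, b, c] (π x) (ρ y) = neg3 x y := by decide +kernel

theorem perms3_bij : ∀ f ∈ perms3, Function.Bijective f := by decide +kernel

theorem core12_shape : ∀ c ∈ core12,
    (∃ t : Fin 3, c = 2 ^ (3 * t : ℕ) ||| 2 ^ (3 * t + 1 : ℕ) ||| 2 ^ (3 * t + 2 : ℕ) ||| 3584) ∨
    ∃ x y : Fin 3, c = 2 ^ (x : ℕ) ||| 2 ^ (3 + y : ℕ) ||| 2 ^ (6 + neg3 x y : ℕ) ||| 3584 := by
  decide +kernel

theorem maskSet_tail : maskSet 3584 = {9, 10, 11} := by decide +kernel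

/-- coordinates around three given points -/
theorem exists_coords {α : Type*} [Fintype α] [DecidableEq α] {B : Set (Finset α)}
    (hB : IsSteinerSystem 5 6 B) (hα : Fintype.card α = 12) {a b c : α}
    (hab : a ≠ b) (hac : a ≠ c) (hbc : b ≠ c) :
    ∃ e : Fin 12 ≃ α, e 9 = a ∧ e 10 = b ∧ e 11 = c ∧ ∀ m ∈ core12, (maskSet m).image e ∈ B := by
  classical
  set K : Finset α := {a, b, c} with hK
  have hKc : K.card = 3 := Finset.card_eq_three.2 ⟨a, b, c, hab, hac, hbc, rfl⟩
  set R : Finset α := Kᶜ with hR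
  have hRc : R.card = 9 := by rw [hR, Finset.card_compl, hα, hKc]
  let line : α → α → α → Prop := fun p q r =>
    p ∈ R ∧ q ∈ R ∧ r ∈ R ∧ p ≠ q ∧ p ≠ r ∧ q ≠ r ∧ ({p, q, r} ∪ K : Finset α) ∈ B
  have rot : ∀ {p q r}, line p q r → line q r p := fun {p q r} h =>
    ⟨h.2.1, h.2.2.1, h.1, h.2.2.2.2.2.1, h.2.2.2.1.symm, h.2.2.2.2.1.symm, by
      convert h.2.2.2.2.2.2 using 2; ext; simp; tauto⟩
  have swap : ∀ {p q r}, line p q r → line q p r := fun {p q r} h =>
    ⟨h.2.1, h.1, h.2.2.1, h.2.2.2.1.symm, h.2.2.2.2.2.1, h.2.2.2.2.1, by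
      convert h.2.2.2.2.2.2 using 2; ext; simp; tauto⟩
  have third : ∀ p ∈ R, ∀ q ∈ R, p ≠ q → ∃ r, line p q r := by
    intro p hp q hq hpq
    have hsub : ({p, q} : Finset α) ⊆ R := by simp [Finset.insert_subset_iff, hp, hq]
    have hd : Disjoint ({p, q} : Finset α) K :=
      Finset.disjoint_left.2 fun x hx hxK => Finset.mem_compl.1 (hsub hx) hxK
    obtain ⟨blk, ⟨hblk, hsb⟩, -⟩ := hB.2 ({p, q} ∪ K) (by
      rw [Finset.card_union_of_disjoint hd, Finset.card_pair hpq, hKc])
    obtain ⟨r, hr⟩ := Finset.card_eq_one.1 (show (blk \ ({p, q} ∪ K)).card = 1 by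
      rw [Finset.card_sdiff_of_subset hsb, hB.1 blk hblk, Finset.card_union_of_disjoint hd,
        Finset.card_pair hpq, hKc])
    have hr' : r ∈ blk \ ({p, q} ∪ K) := by rw [hr]; exact Finset.mem_singleton_self r
    simp only [Finset.mem_sdiff, Finset.mem_union, Finset.mem_insert, Finset.mem_singleton, not_or] at hr'
    refine ⟨r, hp, hq, Finset.mem_compl.2 hr'.2.2, hpq, Ne.symm hr'.2.1.1, Ne.symm hr'.2.1.2, ?_⟩
    rw [show ({p, q, r} ∪ K : Finset α) = blk by
      rw [← Finset.union_sdiff_of_subset hsb, hr]; ext; simp]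
    exact hblk
  have uniq : ∀ {p q r r'}, line p q r → line p q r' → r = r' := by
    intro p q r r' h h'
    have hd : Disjoint ({p, q} : Finset α) K := Finset.disjoint_left.2 fun x hx hxK => by
      simp only [Finset.mem_insert, Finset.mem_singleton] at hx
      rcases hx with rfl | rfl
      · exact Finset.mem_compl.1 h.1 hxK
      · exact Finset.mem_compl.1 h.2.1 hxK
    have e := block_unique hB h.2.2.2.2.2.2 h'.2.2.2.2.2.2 (by
      refine le_trans ?_ (Finset.card_le_card (s := {p, q} ∪ K) ?_)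
      · rw [Finset.card_union_of_disjoint hd, Finset.card_pair h.2.2.2.1, hKc]
      · intro x; simp; tauto)
    have hr : r ∈ ({p, q, r'} ∪ K : Finset α) := e ▸ by simp
    simp only [Finset.mem_union, Finset.mem_insert, Finset.mem_singleton] at hr
    rcases hr with (rfl | rfl | rfl) | hr
    · exact absurd rfl h.2.2.2.2.1
    · exact absurd rfl h.2.2.2.2.2.1
    · rfl
    · exact absurd hr (Finset.mem_compl.1 h.2.2.1)
  -- the first line
  obtain ⟨p0, hp0⟩ := Finset.card_pos.1 (by rw [hRc]; norm_num : 0 < R.card)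
  obtain ⟨p1, hp1⟩ := Finset.card_pos.1
    (by rw [Finset.card_erase_of_mem hp0, hRc]; norm_num : 0 < (R.erase p0).card)
  rw [Finset.mem_erase] at hp1
  obtain ⟨p2, hl⟩ := third p0 hp0 p1 hp1.2 hp1.1.symm
  let P : Fin 3 → α := ![p0, p1, p2]
  have hPR : ∀ i, P i ∈ R := by
    intro i; fin_cases i; exacts [hp0, hp1.2, hl.2.2.1]
  have hPline : ∀ i j, i ≠ j → ∃ k, line (P i) (P j) (P k) := by
    intro i j hij
    fin_cases i <;> fin_cases j <;> first
      | exact absurd rfl hij
      | exact ⟨2, hl⟩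
      | exact ⟨2, swap hl⟩
      | exact ⟨1, swap (rot (rot hl))⟩
      | exact ⟨1, rot (rot hl)⟩
      | exact ⟨0, rot hl⟩
      | exact ⟨0, swap (rot hl)⟩
  have hPinj : Function.Injective P := by
    intro i j e
    by_contra hne
    obtain ⟨k, hk⟩ := hPline i j hne
    exact hk.2.2.2.1 e
  set L : Finset α := univ.image P
  have hLc : L.card = 3 := by rw [Finset.card_image_of_injective _ hPinj]; simp
  have hLR : L ⊆ R := fun x hx => by obtain ⟨i, -, rfl⟩ := Finset.mem_image.1 hx; exact hPR i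
  have notL : ∀ {i x y}, line (P i) x y → x ∉ L → y ∉ L := by
    intro i x y h hx hy
    obtain ⟨j, -, rfl⟩ := Finset.mem_image.1 hy
    obtain ⟨k, hk⟩ := hPline i j fun e => h.2.2.2.2.1 (by rw [e])
    exact hx (uniq (swap (rot (rot h))) hk ▸ Finset.mem_image_of_mem P (Finset.mem_univ k))
  obtain ⟨s, hs⟩ := Finset.card_pos.1
    (by rw [Finset.card_sdiff_of_subset hLR, hRc, hLc]; norm_num : 0 < (R \ L).card)
  rw [Finset.mem_sdiff] at hs
  have hsP : ∀ i, P i ≠ s := fun i e => hs.2 (e ▸ Finset.mem_image_of_mem P (Finset.mem_univ i))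
  choose u hu using fun i => third (P i) (hPR i) s hs.1 (hsP i)
  have huinj : Function.Injective u := fun i j e => by
    have h1 := rot (hu i); have h2 := rot (hu j)
    rw [e] at h1
    exact hPinj (uniq h1 h2)
  set U : Finset α := univ.image u
  have hUc : U.card = 3 := by rw [Finset.card_image_of_injective _ huinj]; simp
  have hUR : U ⊆ R := fun x hx => by obtain ⟨i, -, rfl⟩ := Finset.mem_image.1 hx; exact (hu i).2.2.1
  have hUL : ∀ x ∈ U, x ∉ L := fun x hx => by
    obtain ⟨i, -, rfl⟩ := Finset.mem_image.1 hx; exact notL (hu i) hs.2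
  have hsU : s ∉ U := fun h => by
    obtain ⟨i, -, hi⟩ := Finset.mem_image.1 h; exact (hu i).2.2.2.2.2.1 hi.symm
  have hdLU : Disjoint L U := Finset.disjoint_right.2 hUL
  obtain ⟨v, hv⟩ := Finset.card_pos.1 (show 0 < (R \ (insert s (L ∪ U))).card by
    rw [Finset.card_sdiff_of_subset (Finset.insert_subset hs.1 (Finset.union_subset hLR hUR)),
      Finset.card_insert_of_notMem (by simp [hs.2, hsU]),
      Finset.card_union_of_disjoint hdLU, hLc, hUc, hRc]; norm_num)
  simp only [Finset.mem_sdiff, Finset.mem_insert, Finset.mem_union, not_or] at hv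
  obtain ⟨hvR, hvs, hvL, hvU⟩ := hv
  obtain ⟨w, hw⟩ := third s hs.1 v hvR (Ne.symm hvs)
  have hwL : w ∉ L := fun h => by
    obtain ⟨i, -, rfl⟩ := Finset.mem_image.1 h
    exact hvU (uniq (rot (rot hw)) (hu i) ▸ Finset.mem_image_of_mem u (Finset.mem_univ i))
  have hwU : w ∉ U := fun h => by
    obtain ⟨i, -, rfl⟩ := Finset.mem_image.1 h
    exact hvL (uniq (swap (rot (rot hw))) (rot (hu i)) ▸ Finset.mem_image_of_mem P (Finset.mem_univ i))
  let S : Fin 3 → α := ![s, v, w]
  have hSR : ∀ i, S i ∈ R := by intro i; fin_cases i; exacts [hs.1, hvR, hw.2.2.1]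
  have hSL : ∀ i, S i ∉ L := by intro i; fin_cases i; exacts [hs.2, hvL, hwL]
  have hSU : ∀ i, S i ∉ U := by intro i; fin_cases i; exacts [hsU, hvU, hwU]
  have hSline : ∀ i j, i ≠ j → ∃ k, line (S i) (S j) (S k) := by
    intro i j hij
    fin_cases i <;> fin_cases j <;> first
      | exact absurd rfl hij
      | exact ⟨2, hw⟩
      | exact ⟨2, swap hw⟩
      | exact ⟨1, swap (rot (rot hw))⟩
      | exact ⟨1, rot (rot hw)⟩
      | exact ⟨0, rot hw⟩
      | exact ⟨0, swap (rot hw)⟩
  have hSinj : Function.Injective S := by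
    intro i j e
    by_contra hne
    obtain ⟨k, hk⟩ := hSline i j hne
    exact hk.2.2.2.1 e
  set T : Finset α := univ.image S
  have hTc : T.card = 3 := by rw [Finset.card_image_of_injective _ hSinj]; simp
  have hdLT : Disjoint L T := Finset.disjoint_right.2 fun x hx => by
    obtain ⟨i, -, rfl⟩ := Finset.mem_image.1 hx; exact hSL i
  have hdTU : Disjoint T U := Finset.disjoint_left.2 fun x hx => by
    obtain ⟨i, -, rfl⟩ := Finset.mem_image.1 hx; exact hSU i
  have hall : L ∪ T ∪ U = R := Finset.eq_of_subset_of_card_le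
    (Finset.union_subset (Finset.union_subset hLR fun x hx => by
      obtain ⟨i, -, rfl⟩ := Finset.mem_image.1 hx; exact hSR i) hUR)
    (by rw [Finset.card_union_of_disjoint (Finset.disjoint_union_left.2 ⟨hdLU, hdTU⟩),
      Finset.card_union_of_disjoint hdLT, hLc, hTc, hUc, hRc])
  have hPS : ∀ i j, P i ≠ S j := fun i j e => hSL j (e ▸ Finset.mem_image_of_mem P (Finset.mem_univ i))
  have hg : ∀ i j, ∃ k, line (P i) (S j) (u k) := by
    intro i j
    obtain ⟨r, hr⟩ := third (P i) (hPR i) (S j) (hSR j) (hPS i j)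
    have hrR : r ∈ L ∪ T ∪ U := by rw [hall]; exact hr.2.2.1
    simp only [Finset.mem_union] at hrR
    rcases hrR with (h | h) | h
    · exact absurd h (notL hr (hSL j))
    · obtain ⟨j', -, rfl⟩ := Finset.mem_image.1 h
      obtain ⟨k, hk⟩ := hSline j j' fun e => hr.2.2.2.2.2.1 (by rw [e])
      exact absurd (uniq (rot hr) hk).symm (fun e => hPS i k e.symm)
    · obtain ⟨k, -, rfl⟩ := Finset.mem_image.1 h
      exact ⟨k, hr⟩
  choose g hg using hg
  have hg1 : ∀ i, Function.Injective (g i) := fun i j j' e => by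
    have h1 := rot (rot (hg i j)); have h2 := rot (rot (hg i j'))
    rw [e] at h1
    exact hSinj (uniq h1 h2)
  have hg2 : ∀ j i i', g i j = g i' j → i = i' := fun j i i' e => by
    have h1 := rot (hg i j); have h2 := rot (hg i' j)
    rw [e] at h1
    exact hPinj (uniq h1 h2)
  obtain ⟨π, hπ, ρ, hρ, hneg⟩ := latin3 _ (mem_perms3 _ (hg1 0)) _ (mem_perms3 _ (hg1 1)) _
    (mem_perms3 _ (hg1 2)) (fun j => ⟨fun e => by simpa using hg2 j _ _ e,
      fun e => by simpa using hg2 j _ _ e, fun e => by simpa using hg2 j _ _ e⟩)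
  have hg3 : ∀ i, ![g 0, g 1, g 2] i = g i := by intro i; fin_cases i <;> rfl
  simp only [hg3] at hneg
  have hπb := perms3_bij π hπ
  have hρb := perms3_bij ρ hρ
  -- the third row is a line
  obtain ⟨r, hr⟩ := third (u 0) (hu 0).2.2.1 (u 1) (hu 1).2.2.1 (huinj.ne (by decide))
  have hr2 : r = u 2 := by
    have hrR : r ∈ L ∪ T ∪ U := by rw [hall]; exact hr.2.2.1
    simp only [Finset.mem_union] at hrR
    rcases hrR with (h | h) | h
    · exfalso
      obtain ⟨i, -, rfl⟩ := Finset.mem_image.1 h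
      obtain ⟨j, hj⟩ := Finite.injective_iff_surjective.1 (hg1 i) 0
      have h1 := hg i j
      rw [hj] at h1
      have := uniq (rot (rot hr)) (swap (rot (rot h1)))
      exact hSU j (this ▸ Finset.mem_image_of_mem u (Finset.mem_univ 1))
    · exfalso
      obtain ⟨j, -, rfl⟩ := Finset.mem_image.1 h
      obtain ⟨i, hi⟩ := Finite.injective_iff_surjective.1 (fun i i' e => hg2 j i i' e) 0
      have h1 := hg i j
      simp only at hi
      rw [hi] at h1
      have := uniq (rot (rot hr)) (rot h1)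
      exact hUL _ (Finset.mem_image_of_mem u (Finset.mem_univ 1))
        (this ▸ Finset.mem_image_of_mem P (Finset.mem_univ i))
    · obtain ⟨k, -, rfl⟩ := Finset.mem_image.1 h
      have h0 : k ≠ 0 := fun e => hr.2.2.2.2.1 (by rw [e])
      have h1 : k ≠ 1 := fun e => hr.2.2.2.2.2.1 (by rw [e])
      exact congrArg u (by omega : k = 2)
  subst hr2
  let f : Fin 12 → α :=
    ![P (π 0), P (π 1), P (π 2), S (ρ 0), S (ρ 1), S (ρ 2), u 0, u 1, u 2, a, b, c]
  have hfsurj : Function.Surjective f := by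
    intro x
    by_cases hxK : x ∈ K
    · simp only [hK, Finset.mem_insert, Finset.mem_singleton] at hxK
      rcases hxK with rfl | rfl | rfl
      exacts [⟨9, rfl⟩, ⟨10, rfl⟩, ⟨11, rfl⟩]
    · have hxR : x ∈ L ∪ T ∪ U := by rw [hall]; exact Finset.mem_compl.2 hxK
      simp only [Finset.mem_union] at hxR
      rcases hxR with (h | h) | h <;> obtain ⟨i, -, rfl⟩ := Finset.mem_image.1 h
      · obtain ⟨j, rfl⟩ := hπb.2 i
        fin_cases j; exacts [⟨0, rfl⟩, ⟨1, rfl⟩, ⟨2, rfl⟩]
      · obtain ⟨j, rfl⟩ := hρb.2 i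
        fin_cases j; exacts [⟨3, rfl⟩, ⟨4, rfl⟩, ⟨5, rfl⟩]
      · fin_cases i; exacts [⟨6, rfl⟩, ⟨7, rfl⟩, ⟨8, rfl⟩]
  let e : Fin 12 ≃ α := Equiv.ofBijective f
    ((Fintype.bijective_iff_surjective_and_card f).2 ⟨hfsurj, by simp [hα]⟩)
  have himg : ∀ (i j k : Fin 12) (n : ℕ),
      n = 2 ^ (i : ℕ) ||| 2 ^ (j : ℕ) ||| 2 ^ (k : ℕ) ||| 3584 →
      (maskSet n).image e = {f i, f j, f k} ∪ K := by
    rintro i j k n rfl
    rw [maskSet_or, maskSet_or, maskSet_or, maskSet_pow, maskSet_pow, maskSet_pow, maskSet_tail]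
    simp only [Finset.image_union, Finset.image_singleton, Finset.image_insert, hK]
    ext y
    simp [e, f]

  have hrow : ∀ (F : Fin 3 → α) (τ : Fin 3 → Fin 3), Function.Bijective τ →
      line (F 0) (F 1) (F 2) → ({F (τ 0), F (τ 1), F (τ 2)} ∪ K : Finset α) ∈ B := by
    intro F τ hτ h
    rw [show ({F (τ 0), F (τ 1), F (τ 2)} : Finset α) = univ.image (F ∘ τ) by
      rw [show (univ : Finset (Fin 3)) = {0, 1, 2} by decide]; simp,
      ← Finset.image_image, Finset.image_univ_of_surjective hτ.2,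
      show (univ : Finset (Fin 3)) = {0, 1, 2} by decide]
    simpa using h.2.2.2.2.2.2
  refine ⟨e, rfl, rfl, rfl, fun m hm => ?_⟩
  rcases core12_shape m hm with ⟨t, ht⟩ | ⟨x, y, hxy⟩
  · fin_cases t
    · rw [himg 0 1 2 m ht]; exact hrow P π hπb hl
    · rw [himg 3 4 5 m ht]; exact hrow S ρ hρb hw
    · rw [himg 6 7 8 m ht]; exact hrow u id Function.bijective_id hr
  · rw [himg ⟨x, by omega⟩ ⟨3 + y, by omega⟩ ⟨6 + neg3 x y, by omega⟩ m hxy]
    have h := hg (π x) (ρ y)
    rw [hneg] at h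
    have k1 : f ⟨x, by omega⟩ = P (π x) := by fin_cases x <;> rfl
    have k2 : f ⟨3 + y, by omega⟩ = S (ρ y) := by fin_cases y <;> rfl
    have k3 : ∀ z : Fin 3, f ⟨6 + z, by omega⟩ = u z := by intro z; fin_cases z <;> rfl
    rw [k1, k2, k3]
    exact h.2.2.2.2.2.2

/-- every system is the standard one, with three chosen points at the end -/
theorem exists_standard {α : Type*} [Fintype α] [DecidableEq α] {B : Set (Finset α)}
    (hB : IsSteinerSystem 5 6 B) (hα : Fintype.card α = 12) {a b c : α}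
    (hab : a ≠ b) (hac : a ≠ c) (hbc : b ≠ c) :
    ∃ e : Fin 12 ≃ α, e 9 = a ∧ e 10 = b ∧ e 11 = c ∧ (fun F => F.image e) '' std12 = B := by
  obtain ⟨e, e9, e10, e11, hcore⟩ := exists_coords hB hα hab hac hbc
  let B0 : Set (Finset (Fin 12)) := {F | F.image e ∈ B}
  have hB0 : IsSteinerSystem 5 6 B0 := by
    refine ⟨fun F hF => ?_, fun s hs => ?_⟩
    · rw [← hB.1 _ hF, Finset.card_image_of_injective _ e.injective]
    · obtain ⟨blk, ⟨hb, hsb⟩, huniq⟩ := hB.2 (s.image e)
        (by rw [Finset.card_image_of_injective _ e.injective, hs])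
      have hback : (blk.image e.symm).image e = blk := by
        simp [Finset.image_image]
      refine ⟨blk.image e.symm, ⟨by show _ ∈ B; rw [hback]; exact hb, fun x hx => ?_⟩,
        fun F ⟨hF, hsF⟩ => ?_⟩
      · exact Finset.mem_image.2 ⟨e x, hsb (Finset.mem_image_of_mem e hx), e.symm_apply_apply x⟩
      · have := huniq _ ⟨hF, Finset.image_subset_image hsF⟩
        apply Finset.image_injective e.injective
        rw [hback, this]
  obtain ⟨g, g9, g10, g11, hg⟩ := classify12 hB0 hcore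
  refine ⟨g.trans e, by simp [g9, e9], by simp [g10, e10], by simp [g11, e11], ?_⟩
  have : B = (fun F => F.image e) '' B0 := by
    ext F
    refine ⟨fun hF => ⟨F.image e.symm, ?_, ?_⟩, fun ⟨G, hG, h⟩ => h ▸ hG⟩
    · show _ ∈ B
      simpa [Finset.image_image] using hF
    · simp [Finset.image_image]
  rw [this, ← hg, Set.image_image]
  simp [Finset.image_image]

theorem unique_twelve {α β : Type*} [Fintype α] [DecidableEq α] [Fintype β] [DecidableEq β]
    (hα : Fintype.card α = 12) (hβ : Fintype.card β = 12) {B : Set (Finset α)}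
    {B' : Set (Finset β)} (hB : IsSteinerSystem 5 6 B) (hB' : IsSteinerSystem 5 6 B') :
    SetSystemIso B B' := by
  let f := (Fintype.equivFinOfCardEq hα).symm
  let f' := (Fintype.equivFinOfCardEq hβ).symm
  obtain ⟨e, -, -, -, he⟩ := exists_standard hB hα (f.injective.ne (a₁ := 0) (a₂ := 1) (by decide))
    (f.injective.ne (a₂ := 2) (by decide)) (f.injective.ne (by decide))
  obtain ⟨e', -, -, -, he'⟩ := exists_standard hB' hβ (f'.injective.ne (a₁ := 0) (a₂ := 1) (by decide))
    (f'.injective.ne (a₂ := 2) (by decide)) (f'.injective.ne (by decide))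
  refine ⟨e.symm.trans e', ?_⟩
  rw [← he, ← he', Set.image_image]
  simp [Finset.image_image, Function.comp_def]

/-- the extension of a system of fives on eleven points -/
def extend11 {α : Type*} [Fintype α] [DecidableEq α] (B : Set (Finset α)) :
    Set (Finset (Option α)) :=
  {F | ∃ b ∈ B, F = Finset.insertNone b ∨ F = bᶜ.map Function.Embedding.some}

theorem extend11_steiner {α : Type*} [Fintype α] [DecidableEq α] {B : Set (Finset α)}
    (hB : IsSteinerSystem 4 5 B) (hα : Fintype.card α = 11) :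
    IsSteinerSystem 5 6 (extend11 B) := by
  classical
  refine ⟨?_, fun s hs => ?_⟩
  · rintro F ⟨b, hb, rfl | rfl⟩
    · rw [Finset.card_insertNone, hB.1 b hb]
    · rw [Finset.card_map, Finset.card_compl, hα, hB.1 b hb]
  have hnone : ∀ t : Finset α, none ∉ t.map Function.Embedding.some := by simp
  by_cases hn : none ∈ s
  · have h4 : s.eraseNone.card = 4 := by
      rw [Finset.card_eraseNone_of_mem hn, hs]
    obtain ⟨b, ⟨hb, hsb⟩, hu⟩ := hB.2 _ h4
    refine ⟨Finset.insertNone b, ⟨⟨b, hb, Or.inl rfl⟩, fun x hx => ?_⟩, ?_⟩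
    · rcases x with _ | x
      · simp
      · simpa using hsb (by simpa using hx)
    · rintro F ⟨⟨d, hd, rfl | rfl⟩, hsF⟩
      · rw [hu d ⟨hd, fun x hx => by simpa using hsF (by simpa using hx : some x ∈ s)⟩]
      · exact absurd (hsF hn) (hnone _)
  · have hsmap : s.eraseNone.map Function.Embedding.some = s := by
      rw [Finset.map_some_eraseNone, Finset.erase_eq_of_notMem hn]
    have h5 : s.eraseNone.card = 5 := by rw [← Finset.card_map Function.Embedding.some, hsmap, hs]
    set Y := s.eraseNone with hY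
    have e0 := moment hB (by norm_num) Y 0 (by norm_num)
    have e1 := moment hB (by norm_num) Y 1 (by norm_num)
    have e2 := moment hB (by norm_num) Y 2 (by norm_num)
    have e3 := moment hB (by norm_num) Y 3 (by norm_num)
    have e4 := moment hB (by norm_num) Y 4 (by norm_num)
    rw [h5, hα] at e0 e1 e2 e3 e4
    have hbig : ∀ m, 5 < m → cnt B Y m = 0 := fun m hm => cnt_eq_zero Y m fun b hb e => by
      have := Finset.card_le_card (Finset.inter_subset_left (s₁ := b) (s₂ := Y))
      rw [e, hB.1 b hb] at this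
      omega
    have := hbig 6 (by norm_num); have := hbig 7 (by norm_num); have := hbig 8 (by norm_num)
    have h01 : cnt B Y 0 + cnt B Y 5 = 1 := by
      simp only [Finset.sum_range_succ, Finset.sum_range_zero, Nat.choose, Nat.sub_zero,
        Nat.reduceSub] at *
      omega
    have hcnt : ∀ m, cnt B Y m = {b | b ∈ B ∧ (b ∩ Y).card = m}.ncard := fun m => by
      rw [cnt, ← Set.ncard_coe_finset]; congr 1; ext; simp
    have hF : ∀ F, (F ∈ extend11 B ∧ s ⊆ F) ↔
        ∃ b ∈ B, ((b ∩ Y).card = 5 ∧ F = Finset.insertNone b) ∨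
          ((b ∩ Y).card = 0 ∧ F = bᶜ.map Function.Embedding.some) := by
      intro F
      constructor
      · rintro ⟨⟨b, hb, rfl | rfl⟩, hsF⟩
        · refine ⟨b, hb, Or.inl ⟨?_, rfl⟩⟩
          rw [Finset.inter_eq_right.2 fun x hx => by
            simpa using hsF (by rw [← hsmap]; exact Finset.mem_map_of_mem _ hx :
              some x ∈ s), h5]
        · refine ⟨b, hb, Or.inr ⟨?_, rfl⟩⟩
          rw [Finset.card_eq_zero, ← Finset.disjoint_iff_inter_eq_empty, Finset.disjoint_right]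
          intro x hx
          rw [← hsmap, Finset.map_subset_map] at hsF
          exact Finset.mem_compl.1 (hsF hx)
      · rintro ⟨b, hb, ⟨h, rfl⟩ | ⟨h, rfl⟩⟩
        · refine ⟨⟨b, hb, Or.inl rfl⟩, fun x hx => ?_⟩
          rw [← hsmap, Finset.mem_map] at hx
          obtain ⟨y, hy, rfl⟩ := hx
          have : b ∩ Y = Y := Finset.eq_of_subset_of_card_le Finset.inter_subset_right (by rw [h, h5])
          rw [← this] at hy
          simpa using (Finset.mem_inter.1 hy).1
        · refine ⟨⟨b, hb, Or.inr rfl⟩, ?_⟩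
          rw [← hsmap, Finset.map_subset_map]
          intro x hx
          exact Finset.mem_compl.2 fun hxb =>
            Finset.notMem_empty x (Finset.card_eq_zero.1 h ▸ Finset.mem_inter.2 ⟨hxb, hx⟩)
    rw [hcnt, hcnt] at h01
    rcases Nat.eq_zero_or_pos {b | b ∈ B ∧ (b ∩ Y).card = 5}.ncard with h | h
    · rw [h, add_zero, Set.ncard_eq_one] at h01
      obtain ⟨b, hb⟩ := h01
      have hb' := (Set.ext_iff.1 hb b).2 rfl
      have hno : ∀ d ∈ B, (d ∩ Y).card ≠ 5 := fun d hd h' =>
        (Set.eq_empty_iff_forall_notMem.1 ((Set.ncard_eq_zero (Set.toFinite _)).1 h) d) ⟨hd, h'⟩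
      refine ⟨bᶜ.map Function.Embedding.some, (hF _).2 ⟨b, hb'.1, Or.inr ⟨hb'.2, rfl⟩⟩, fun F hF' => ?_⟩
      obtain ⟨d, hd, ⟨h', -⟩ | ⟨h', rfl⟩⟩ := (hF F).1 hF'
      · exact absurd h' (hno d hd)
      · rw [(Set.ext_iff.1 hb d).1 ⟨hd, h'⟩]
    · have h0 : {b | b ∈ B ∧ (b ∩ Y).card = 0}.ncard = 0 := by omega
      rw [h0, zero_add, Set.ncard_eq_one] at h01
      obtain ⟨b, hb⟩ := h01
      have hb' := (Set.ext_iff.1 hb b).2 rfl
      refine ⟨Finset.insertNone b, (hF _).2 ⟨b, hb'.1, Or.inl ⟨hb'.2, rfl⟩⟩, fun F hF' => ?_⟩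
      obtain ⟨d, hd, ⟨h', rfl⟩ | ⟨h', -⟩⟩ := (hF F).1 hF'
      · rw [(Set.ext_iff.1 hb d).1 ⟨hd, h'⟩]
      · exact ((Set.eq_empty_iff_forall_notMem.1 ((Set.ncard_eq_zero (Set.toFinite _)).1 h0) d)
          ⟨hd, h'⟩).elim

theorem unique_eleven {α β : Type*} [Fintype α] [DecidableEq α] [Fintype β] [DecidableEq β]
    (hα : Fintype.card α = 11) (hβ : Fintype.card β = 11) {B : Set (Finset α)}
    {B' : Set (Finset β)} (hB : IsSteinerSystem 4 5 B) (hB' : IsSteinerSystem 4 5 B') :
    SetSystemIso B B' := by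
  classical
  let f := (Fintype.equivFinOfCardEq hα).symm
  let f' := (Fintype.equivFinOfCardEq hβ).symm
  obtain ⟨e, e9, -, -, he⟩ := exists_standard (extend11_steiner hB hα) (by simp [hα])
    (a := none) (b := some (f 0)) (c := some (f 1)) (by simp) (by simp)
    (by simp [f.injective.eq_iff])
  obtain ⟨e', e9', -, -, he'⟩ := exists_standard (extend11_steiner hB' hβ) (by simp [hβ])
    (a := none) (b := some (f' 0)) (c := some (f' 1)) (by simp) (by simp)
    (by simp [f'.injective.eq_iff])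
  let h := e.symm.trans e'
  have hn : h none = none := by
    show e' (e.symm none) = none
    rw [← e9, Equiv.symm_apply_apply, e9']
  have hmap : (fun F => F.image h) '' extend11 B = extend11 B' := by
    rw [← he, ← he', Set.image_image]
    simp [h, Finset.image_image, Function.comp_def]
  let σ : α ≃ β := Equiv.removeNone h
  have hσ : ∀ x, h (some x) = some (σ x) := fun x => by
    refine ((Equiv.removeNone_some h ?_)).symm
    rcases hh : h (some x) with _ | y
    · exact absurd (h.injective (hh.trans hn.symm)) (by simp)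
    · exact ⟨y, rfl⟩
  have himg : ∀ b : Finset α, (Finset.insertNone b).image h = Finset.insertNone (b.image σ) := by
    intro b; ext x
    simp only [Finset.mem_image, Option.exists, hn, hσ, Finset.mem_insertNone]
    rcases x with _ | y <;> simp
  refine ⟨σ, Set.ext fun d => ⟨?_, fun hd => ?_⟩⟩
  · rintro ⟨b, hb, rfl⟩
    have := hmap.subset ⟨_, ⟨b, hb, Or.inl rfl⟩, rfl⟩
    obtain ⟨d, hd, h1 | h1⟩ := this
    · simp only [himg] at h1
      show b.image σ ∈ B'
      rwa [← Finset.eraseNone_insertNone (b.image σ), h1, Finset.eraseNone_insertNone]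
    · have : none ∈ dᶜ.map Function.Embedding.some := h1 ▸ by simp [himg]
      simp at this
  · obtain ⟨F, ⟨b, hb, rfl | rfl⟩, hF⟩ := hmap.symm.subset
      (⟨d, hd, Or.inl rfl⟩ : Finset.insertNone d ∈ extend11 B')
    · simp only [himg] at hF
      exact ⟨b, hb, by rw [← Finset.eraseNone_insertNone d, ← hF, Finset.eraseNone_insertNone]⟩
    · simp only at hF
      have : none ∈ (bᶜ.map Function.Embedding.some).image h := by rw [hF]; simp
      simp [hσ] at this

end Cfsg.Agent.Leech.Unique
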