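import Mathlib
import Cfsg.Prelude.Def_Sporadic_a
import Cfsg.Agent.Leech.Unique.SteinerCode

/-! Uniqueness of the strongly regular graph on hundred vertices. -/

set_option autoImplicit false

namespace Cfsg.Agent.Leech.Unique
open Cfsg Cfsg.Agent.Leech Finset

theorem pointBlock_congr {α β : Type*} [DecidableEq β] {B : Set (Finset α)} {B' : Set (Finset β)}
    (h : SetSystemIso B B') : Nonempty (pointBlockGraph B ≃g pointBlockGraph B') := by
  classical
  obtain ⟨e, he⟩ := h
  let eB : B ≃ B' := Equiv.ofBijective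
    (fun b => ⟨(b : Finset α).image e, he ▸ Set.mem_image_of_mem _ b.2⟩)
    ⟨fun b c hbc => Subtype.ext (Finset.image_injective e.injective (congrArg Subtype.val hbc)),
      fun c => by
        obtain ⟨b, hb, hbc⟩ : (c : Finset β) ∈ (fun b => b.image e) '' B := by rw [he]; exact c.2
        exact ⟨⟨b, hb⟩, Subtype.ext hbc⟩⟩
  have heB : ∀ b, ((eB b : B') : Finset β) = (b : Finset α).image e := fun b => rfl
  refine ⟨⟨Equiv.optionCongr (e.sumCongr eB), ?_⟩⟩
  intro x y
  rcases x with _ | a | b <;> rcases y with _ | a' | b' <;>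
    simp [pointBlockGraph, pointBlockRel, SimpleGraph.fromRel_adj, heB,
      Finset.disjoint_image e.injective]

variable {V : Type*} [Fintype V] {G : SimpleGraph V} [DecidableRel G.Adj]

/-- such a graph is the point-block graph of a system of triples in twenty-two points -/
theorem exists_steiner_of_srg (hG : G.IsSRGWith 100 22 0 6) (v0 : V) :
    ∃ B : Set (Finset {x : V // G.Adj v0 x}),
      IsSteinerSystem 3 6 B ∧ Nonempty (pointBlockGraph B ≃g G) := by
  classical
  have h0 : ∀ v w, G.Adj v w → (G.neighborFinset v ∩ G.neighborFinset w).card = 0 := fun v w h => by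
    rw [← hG.of_adj v w h, ← Set.toFinset_card]
    congr 1; ext; rw [Set.mem_toFinset]; simp [SimpleGraph.commonNeighbors]
  have h6 : ∀ v w, v ≠ w → ¬ G.Adj v w → (G.neighborFinset v ∩ G.neighborFinset w).card = 6 :=
    fun v w hne h => by
    rw [← hG.of_not_adj hne h, ← Set.toFinset_card]
    congr 1; ext; rw [Set.mem_toFinset]; simp [SimpleGraph.commonNeighbors]
  have tri : ∀ a b c, G.Adj a b → G.Adj a c → ¬ G.Adj b c := fun a b c hab hac hbc => by
    have hz := Finset.card_eq_zero.1 (h0 a b hab)
    have : c ∈ G.neighborFinset a ∩ G.neighborFinset b := by simp [hac, hbc]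
    rw [hz] at this
    simp at this
  set N := G.neighborFinset v0 with hN
  set R := (univ : Finset V) \ insert v0 N with hR
  have memR : ∀ x, x ∈ R ↔ x ≠ v0 ∧ ¬ G.Adj v0 x := fun x => by simp [hR, hN, not_or]
  have hNcard : N.card = 22 := hG.regular v0
  have hRcard : R.card = 77 := by
    rw [hR, Finset.card_sdiff_of_subset (Finset.subset_univ _), Finset.card_insert_of_notMem (by simp [hN]),
      hNcard, Finset.card_univ, hG.card]
  set b : V → Finset V := fun x => N ∩ G.neighborFinset x with hb
  have hb6 : ∀ x ∈ R, (b x).card = 6 := fun x hx => by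
    rw [hb]; exact h6 v0 x ((memR x).1 hx).1.symm ((memR x).1 hx).2
  have memb : ∀ x a, a ∈ b x ↔ G.Adj v0 a ∧ G.Adj x a := fun x a => by simp [hb, hN]
  -- intersections
  have hle : ∀ x ∈ R, ∀ y ∈ R, x ≠ y →
      (G.Adj x y → (b x ∩ b y).card = 0) ∧ (¬ G.Adj x y → (b x ∩ b y).card = 2) := by
    intro x hx y hy hxy
    refine ⟨fun hadj => Finset.card_eq_zero.2 (Finset.eq_empty_of_forall_notMem fun a ha => ?_), ?_⟩
    · rw [Finset.mem_inter, memb, memb] at ha
      exact tri x y a hadj ha.1.2 ha.2.2
    intro hxy'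
    set S := R.erase x
    have hSa : ∀ a ∈ b x, (S.filter fun z => G.Adj z a).card = 20 := by
      intro a ha
      rw [memb] at ha
      have : (S.filter fun z => G.Adj z a) = ((G.neighborFinset a).erase v0).erase x := by
        ext z
        simp only [S, Finset.mem_filter, Finset.mem_erase, memR, SimpleGraph.mem_neighborFinset]
        exact ⟨fun h => ⟨h.1.1, h.1.2.1, h.2.symm⟩,
          fun h => ⟨⟨h.1, h.2.1, fun h' => tri v0 z a h' ha.1 h.2.2.symm⟩, h.2.2.symm⟩⟩
      rw [this, Finset.card_erase_of_mem (by simp [((memR x).1 hx).1, ha.2.symm]),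
        Finset.card_erase_of_mem (by simp [ha.1.symm]), SimpleGraph.card_neighborFinset_eq_degree,
        hG.regular a]
    have hSab : ∀ a ∈ b x, ∀ c ∈ b x, a ≠ c →
        (S.filter fun z => G.Adj z a ∧ G.Adj z c).card = 4 := by
      intro a ha c hc hac
      rw [memb] at ha hc
      have : (S.filter fun z => G.Adj z a ∧ G.Adj z c) =
          ((G.neighborFinset a ∩ G.neighborFinset c).erase v0).erase x := by
        ext z
        simp only [S, Finset.mem_filter, Finset.mem_erase, Finset.mem_inter, memR,
          SimpleGraph.mem_neighborFinset]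
        exact ⟨fun h => ⟨h.1.1, h.1.2.1, h.2.1.symm, h.2.2.symm⟩,
          fun h => ⟨⟨h.1, h.2.1, fun h' => tri v0 z a h' ha.1 h.2.2.1.symm⟩, h.2.2.1.symm,
            h.2.2.2.symm⟩⟩
      rw [this, Finset.card_erase_of_mem (by simp [((memR x).1 hx).1, ha.2.symm, hc.2.symm]),
        Finset.card_erase_of_mem (by simp [ha.1.symm, hc.1.symm]),
        h6 a c hac (tri v0 a c ha.1 hc.1)]
    have hi : ∀ z, ((b x ∩ b z).card : ℤ) = ∑ a ∈ b x, if G.Adj z a then 1 else 0 := fun z => by
      rw [Finset.sum_boole]
      congr 2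
      ext a
      simp only [Finset.mem_inter, Finset.mem_filter, memb]
      tauto
    have hs1 : ∑ z ∈ S, ((b x ∩ b z).card : ℤ) = 120 := by
      simp only [hi]
      rw [Finset.sum_comm, Finset.sum_congr rfl fun a ha => by
        rw [Finset.sum_boole, hSa a ha], Finset.sum_const, hb6 x hx]
      norm_num
    have hs2 : ∑ z ∈ S, ((b x ∩ b z).card : ℤ) ^ 2 = 240 := by
      simp only [hi, sq, Finset.sum_mul_sum]
      rw [Finset.sum_comm]
      have : ∀ a ∈ b x, ∑ z ∈ S, ∑ c ∈ b x,
          ((if G.Adj z a then 1 else 0) * (if G.Adj z c then 1 else 0) : ℤ) = 40 := by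
        intro a ha
        rw [Finset.sum_comm, ← Finset.add_sum_erase _ _ ha,
          Finset.sum_congr rfl (s₁ := (b x).erase a) fun c hc => by
            rw [Finset.sum_congr rfl fun z _ => ite_zero_mul_ite_zero _ _ _ _, one_mul,
              Finset.sum_boole, hSab a ha c (Finset.mem_of_mem_erase hc)
                (Finset.ne_of_mem_erase hc).symm],
          Finset.sum_congr rfl fun z _ => ite_zero_mul_ite_zero _ _ _ _, Finset.sum_const,
          Finset.card_erase_of_mem ha, hb6 x hx]
        simp only [and_self, one_mul]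
        rw [Finset.sum_boole, hSa a ha]
        norm_num
      rw [Finset.sum_congr rfl this, Finset.sum_const, hb6 x hx]
      norm_num
    set T := S.filter fun z => ¬ G.Adj x z
    have hTcard : T.card = 60 := by
      have hsplit := Finset.card_filter_add_card_filter_not (s := S) (fun z => G.Adj x z)
      have : (S.filter fun z => G.Adj x z) = G.neighborFinset x \ b x := by
        ext z
        simp only [S, Finset.mem_filter, Finset.mem_erase, memR, Finset.mem_sdiff, memb,
          SimpleGraph.mem_neighborFinset, not_and]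
        exact ⟨fun h => ⟨h.2, fun h' => absurd h' h.1.2.2⟩,
          fun h => ⟨⟨h.1.ne', fun e => ((memR x).1 hx).2 (e ▸ h.1).symm,
            fun h' => h.2 h' h.1⟩, h.1⟩⟩
      rw [this, Finset.card_sdiff_of_subset (fun a ha => by
          rw [memb] at ha; simp [ha.2]), SimpleGraph.card_neighborFinset_eq_degree, hG.regular x,
        hb6 x hx, Finset.card_erase_of_mem hx, hRcard] at hsplit
      simp only [T]
      omega
    have hsub : ∀ z ∈ S, z ∉ T → ((b x ∩ b z).card : ℤ) = 0 := fun z hz hzT => by
      simp only [T, Finset.mem_filter, hz, true_and, not_not] at hzT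
      rw [Finset.eq_empty_of_forall_notMem (s := b x ∩ b z) fun a ha => ?_]
      · simp
      · rw [Finset.mem_inter, memb, memb] at ha
        exact tri x z a hzT ha.1.2 ha.2.2
    rw [← Finset.sum_subset (Finset.filter_subset _ _) hsub] at hs1
    rw [← Finset.sum_subset (Finset.filter_subset _ _) fun z hz hzT => by
      rw [hsub z hz hzT]; norm_num] at hs2
    have hzero : ∑ z ∈ T, (((b x ∩ b z).card : ℤ) - 2) ^ 2 = 0 := by
      simp only [sub_sq, Finset.sum_add_distrib, Finset.sum_sub_distrib, Finset.sum_const, hTcard]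
      rw [← Finset.sum_mul, ← Finset.mul_sum, hs1, hs2]
      norm_num
    have := (Finset.sum_eq_zero_iff_of_nonneg fun z _ => sq_nonneg _).1 hzero y
      (by simp [T, S, hy, hxy.symm, hxy'])
    rw [sq_eq_zero_iff, sub_eq_zero] at this
    exact_mod_cast this
  have hle2 : ∀ x ∈ R, ∀ y ∈ R, x ≠ y → (b x ∩ b y).card ≤ 2 := fun x hx y hy hxy => by
    by_cases h : G.Adj x y
    · rw [(hle x hx y hy hxy).1 h]; norm_num
    · rw [(hle x hx y hy hxy).2 h]
  have hcover : R.biUnion (fun x => (b x).powersetCard 3) = N.powersetCard 3 := by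
    refine Finset.eq_of_subset_of_card_le (fun T hT => ?_) ?_
    · obtain ⟨x, hx, hT⟩ := Finset.mem_biUnion.1 hT
      rw [Finset.mem_powersetCard] at hT ⊢
      exact ⟨hT.1.trans Finset.inter_subset_left, hT.2⟩
    · rw [Finset.card_biUnion, Finset.sum_congr rfl fun x hx => by
        rw [Finset.card_powersetCard, hb6 x hx], Finset.sum_const, Finset.card_powersetCard,
        hNcard, hRcard]
      · decide
      · intro x hx y hy hxy
        refine Finset.disjoint_left.2 fun T hTx hTy => ?_
        rw [Finset.mem_powersetCard] at hTx hTy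
        have := Finset.card_le_card (Finset.subset_inter hTx.1 hTy.1)
        have := hle2 x hx y hy hxy
        omega
  let bs : {x // x ∈ R} → Finset {x : V // G.Adj v0 x} := fun x => Finset.univ.filter fun a => G.Adj x.1 a.1
  have hmap : ∀ x, (bs x).map (Function.Embedding.subtype _) = b x.1 := fun x => by
    ext a
    simp [bs, memb, and_comm]
  have hbsinj : Function.Injective bs := fun x y e => by
    by_contra hne
    have := hle2 x.1 x.2 y.1 y.2 fun h => hne (Subtype.ext h)
    rw [← hmap, ← hmap, e, Finset.inter_self, hmap, hb6 y.1 y.2] at this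
    omega
  refine ⟨Set.range bs, ⟨?_, ?_⟩, ?_⟩
  · rintro _ ⟨x, rfl⟩
    rw [← hb6 x.1 x.2, ← hmap, Finset.card_map]
  · intro T hT
    have hT' : T.map (Function.Embedding.subtype _) ∈ N.powersetCard 3 := by
      rw [Finset.mem_powersetCard, Finset.card_map, hT]
      refine ⟨fun a ha => ?_, rfl⟩
      obtain ⟨a, -, rfl⟩ := Finset.mem_map.1 ha
      simpa [hN] using a.2
    rw [← hcover, Finset.mem_biUnion] at hT'
    obtain ⟨x, hx, hTx⟩ := hT'
    refine ⟨bs ⟨x, hx⟩, ⟨⟨_, rfl⟩, ?_⟩, ?_⟩
    · rw [← Finset.map_subset_map (f := Function.Embedding.subtype _), hmap]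
      exact (Finset.mem_powersetCard.1 hTx).1
    · rintro _ ⟨⟨y, rfl⟩, hy⟩
      by_contra hne
      have := hle2 y.1 y.2 x hx fun h => hne (congrArg bs (Subtype.ext h))
      have h3 := Finset.card_le_card (Finset.subset_inter
        ((hmap y) ▸ Finset.map_subset_map.2 hy) (Finset.mem_powersetCard.1 hTx).1)
      rw [Finset.card_map, hT] at h3
      omega
  let eR : {x // x ∈ R} ≃ Set.range bs := Equiv.ofInjective bs hbsinj
  let f : Option ({x : V // G.Adj v0 x} ⊕ {x // x ∈ R}) → V := fun o => match o with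
    | none => v0
    | some (Sum.inl a) => a.1
    | some (Sum.inr x) => x.1
  have hfb : Function.Bijective f := by
    refine ⟨?_, fun v => ?_⟩
    · rintro (_ | a | x) (_ | a' | x') h <;> simp only [f] at h
      · rfl
      · exact absurd h a'.2.ne
      · exact absurd h.symm ((memR _).1 x'.2).1
      · exact absurd h.symm a.2.ne
      · rw [Subtype.ext h]
      · exact absurd (h ▸ a.2) ((memR _).1 x'.2).2
      · exact absurd h ((memR _).1 x.2).1
      · exact absurd (h ▸ a'.2) ((memR _).1 x.2).2
      · rw [Subtype.ext h]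
    · by_cases h : v = v0
      · exact ⟨none, h.symm⟩
      · by_cases h' : G.Adj v0 v
        · exact ⟨some (Sum.inl ⟨v, h'⟩), rfl⟩
        · exact ⟨some (Sum.inr ⟨v, (memR v).2 ⟨h, h'⟩⟩), rfl⟩
  let g := (Equiv.optionCongr ((Equiv.refl {x : V // G.Adj v0 x}).sumCongr eR)).symm.trans
    (Equiv.ofBijective f hfb)
  have hg : ∀ o, g (Equiv.optionCongr ((Equiv.refl {x : V // G.Adj v0 x}).sumCongr eR) o) = f o :=
    fun o => by
    show Equiv.ofBijective f hfb (Equiv.symm _ _) = f o
    rw [Equiv.symm_apply_apply]; rfl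
  refine ⟨⟨g, ?_⟩⟩
  intro u w
  obtain ⟨u, rfl⟩ := (Equiv.optionCongr ((Equiv.refl {x : V // G.Adj v0 x}).sumCongr eR)).surjective u
  obtain ⟨w, rfl⟩ := (Equiv.optionCongr ((Equiv.refl {x : V // G.Adj v0 x}).sumCongr eR)).surjective w
  rw [hg, hg]
  have heR : ∀ x, ((eR x : Set.range bs) : Finset _) = bs x := fun x => rfl
  rcases u with _ | a | x <;> rcases w with _ | a' | x' <;>
    simp only [f, pointBlockGraph, SimpleGraph.fromRel_adj, pointBlockRel, Equiv.optionCongr_apply,
      Option.map_none, Option.map_some, Equiv.sumCongr_apply, Sum.map_inl, Sum.map_inr,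
      Equiv.refl_apply, heR]
  · simp
  · simp [a'.2]
  · simp [((memR _).1 x'.2).2]
  · simp [a.2.symm]
  · simp [tri v0 a.1 a'.1 a.2 a'.2]
  · simp [bs, G.adj_comm a.1]
  · simp only [or_self, and_false, iff_false]
    exact fun h => ((memR _).1 x.2).2 h.symm
  · simp [bs]
  · rw [disjoint_comm (a := bs x'), or_self]
    constructor
    · intro h
      refine ⟨fun e => h.ne (congrArg Subtype.val ?_), ?_⟩
      · exact eR.injective (Sum.inr_injective (Option.some_injective _ e))
      · rw [← Finset.disjoint_map (Function.Embedding.subtype _), hmap, hmap,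
          Finset.disjoint_iff_inter_eq_empty, ← Finset.card_eq_zero]
        exact (hle _ x.2 _ x'.2 h.ne).1 h
    · rintro ⟨hne, hd⟩
      have hne' : x.1 ≠ x'.1 := fun e => hne (by rw [Subtype.ext e])
      rw [← Finset.disjoint_map (Function.Embedding.subtype _), hmap, hmap,
        Finset.disjoint_iff_inter_eq_empty, ← Finset.card_eq_zero] at hd
      by_contra h
      rw [(hle _ x.2 _ x'.2 hne').2 h] at hd
      omega

theorem srg_hundred_unique {W : Type*} [Fintype W] {H : SimpleGraph W} [DecidableRel H.Adj]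
    (hG : G.IsSRGWith 100 22 0 6) (hH : H.IsSRGWith 100 22 0 6) : Nonempty (G ≃g H) := by
  classical
  have : Nonempty V := Fintype.card_pos_iff.1 (by rw [hG.card]; norm_num)
  have : Nonempty W := Fintype.card_pos_iff.1 (by rw [hH.card]; norm_num)
  obtain ⟨v⟩ := ‹Nonempty V›
  obtain ⟨w⟩ := ‹Nonempty W›
  obtain ⟨B, hB, ⟨e⟩⟩ := exists_steiner_of_srg hG v
  obtain ⟨B', hB', ⟨e'⟩⟩ := exists_steiner_of_srg hH w
  have hcB : Fintype.card {x : V // G.Adj v x} = 22 := by
    rw [Fintype.card_subtype, ← hG.regular v, ← SimpleGraph.card_neighborFinset_eq_degree]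
    congr 1; ext; simp
  have hcB' : Fintype.card {x : W // H.Adj w x} = 22 := by
    rw [Fintype.card_subtype, ← hH.regular w, ← SimpleGraph.card_neighborFinset_eq_degree]
    congr 1; ext; simp
  obtain ⟨m⟩ := pointBlock_congr
    (big_unique (⟨by norm_num, by rw [hcB], hB⟩ : Big B 2) ⟨by norm_num, by rw [hcB'], hB'⟩)
  exact ⟨(e.symm.trans m).trans e'⟩

end Cfsg.Agent.Leech.Unique
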