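import Mathlib
import Cfsg.Prelude.Def_Sporadic
import Cfsg.Prelude.Def_Sporadic_a
import Cfsg.Agent.Leech.Unique.SteinerCode
import Cfsg.Agent.S0376
import Cfsg.Agent.S0377
import Cfsg.Agent.S0378
import Cfsg.Agent.S0379

/-! Automorphisms of the derived Steiner systems. -/

set_option autoImplicit false

namespace Cfsg.Agent.Leech.Unique
open Cfsg
open scoped Pointwise

/-- the added points as a set -/
def extraSet (r : ℕ) : Finset GolayPt := Finset.univ.image (extraPt r)

/-- setwise stabiliser of the added points -/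
def Hst (r : ℕ) : Subgroup M24 := MulAction.stabilizer M24 (extraSet r)

theorem mem_Hst {r : ℕ} {σ : M24} :
    σ ∈ Hst r ↔ ∀ p ∈ extraSet r, (σ : Equiv.Perm GolayPt) p ∈ extraSet r := by
  rw [Hst, MulAction.mem_stabilizer_iff]
  constructor
  · intro h p hp
    rw [← h]
    exact Finset.smul_mem_smul_finset hp
  · intro h
    refine Finset.eq_of_subset_of_card_le ?_ (Finset.card_smul_finset σ (extraSet r)).ge
    intro q hq
    obtain ⟨p, hp, rfl⟩ := Finset.mem_smul_finset.1 hq
    exact h p hp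

theorem mem_extraSet {r : ℕ} {p : GolayPt} : p ∈ extraSet r ↔ ∃ x, extraPt r x = p := by
  simp [extraSet]

variable {α : Type*} [Fintype α] [DecidableEq α] {B : Set (Finset α)} {r : ℕ}

theorem smul_finset_perm (τ : Equiv.Perm α) (b : Finset α) : τ • b = b.image τ :=
  Finset.ext fun x => by simp [Finset.mem_smul_finset, Equiv.Perm.smul_def]

theorem aut_iso (h : Big B r) : ∃ (e : α ⊕ Fin r ≃ GolayPt) (ψ : Hst r →* Equiv.Perm α),
    Function.Injective ψ ∧ ψ.range = setSystemAut B ∧ (∀ x, e (Sum.inr x) = extraPt r x) ∧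
    ∀ σ a, e (Sum.inl (ψ σ a)) = ((σ : M24) : Equiv.Perm GolayPt) (e (Sum.inl a)) := by
  classical
  obtain ⟨C, hC, hBC, -, huniq⟩ := h.exists_code
  obtain ⟨e, he, he1⟩ := to_standard h.le hC
  have hmemC : ∀ v : α ⊕ Fin r → ZMod 2, v ∈ C ↔ (fun p => v (e.symm p)) ∈ golayCode := fun v => by
    rw [← he, mem_moveCode]; simp
  have hinl : ∀ (σ : Hst r) a, ∃ b, ((σ : M24) : Equiv.Perm GolayPt) (e (Sum.inl a)) = e (Sum.inl b) := by
    intro σ a
    rcases hb : e.symm (((σ : M24) : Equiv.Perm GolayPt) (e (Sum.inl a))) with b | x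
    · exact ⟨b, by rw [← hb, Equiv.apply_symm_apply]⟩
    · exfalso
      have hx : ((σ : M24) : Equiv.Perm GolayPt) (e (Sum.inl a)) ∈ extraSet r :=
        mem_extraSet.2 ⟨x, by rw [← he1, ← hb, Equiv.apply_symm_apply]⟩
      have := mem_Hst.1 (inv_mem σ.2) _ hx
      obtain ⟨y, hy⟩ := mem_extraSet.1 this
      rw [← he1] at hy
      simp at hy
  choose g hg using hinl
  have hinr : ∀ (σ : Hst r) x, ∃ y, ((σ : M24) : Equiv.Perm GolayPt) (e (Sum.inr x)) = e (Sum.inr y) := by
    intro σ x
    obtain ⟨y, hy⟩ := mem_extraSet.1 (mem_Hst.1 σ.2 _ (mem_extraSet.2 ⟨x, rfl⟩))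
    exact ⟨y, by rw [he1, he1]; exact hy.symm⟩
  have huniqg : ∀ σ a b, ((σ : Hst r) : M24).1 (e (Sum.inl a)) = e (Sum.inl b) → g σ a = b :=
    fun σ a b hb => Sum.inl_injective (e.injective ((hg σ a).symm.trans hb))
  have hmul : ∀ σ τ a, g (σ * τ) a = g σ (g τ a) := fun σ τ a => huniqg _ _ _ (by
    show ((σ : M24) : Equiv.Perm GolayPt) (((τ : M24) : Equiv.Perm GolayPt) (e (Sum.inl a))) = _
    rw [hg τ a, hg σ])
  have hone : ∀ a, g 1 a = a := fun a => huniqg _ _ _ rfl
  let ψ : Hst r →* Equiv.Perm α :=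
    { toFun := fun σ => ⟨g σ, g σ⁻¹, fun a => by rw [← hmul, inv_mul_cancel, hone],
        fun a => by rw [← hmul, mul_inv_cancel, hone]⟩
      map_one' := Equiv.ext hone
      map_mul' := fun σ τ => Equiv.ext (hmul σ τ) }
  have hψ : ∀ σ a, ψ σ a = g σ a := fun σ a => rfl
  refine ⟨e, ψ, ?_, ?_, he1, fun σ a => (hg σ a).symm⟩
  · rw [injective_iff_map_eq_one]
    intro σ hσ
    have hfix : ∀ a, ((σ : M24) : Equiv.Perm GolayPt) (e (Sum.inl a)) = e (Sum.inl a) := fun a => by
      rw [hg σ a, ← hψ, hσ]; rfl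
    refine Subtype.ext (Subtype.ext (Equiv.ext fun p => ?_))
    obtain ⟨i, rfl⟩ := e.surjective p
    rcases i with a | x
    · exact hfix a
    · obtain ⟨y, hy⟩ := hinr σ x
      by_cases hxy : y = x
      · rw [hy, hxy]; rfl
      exfalso
      set v0 : α ⊕ Fin r → ZMod 2 := indic {Sum.inr x, Sum.inr y} with hv0
      have hdist : ∀ d ∈ C, d (Sum.inr x) = d (Sum.inr y) := by
        intro d hd
        set v := fun i => d (e.symm (((σ : M24) : Equiv.Perm GolayPt) (e i))) with hv
        have hvC : v ∈ C := by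
          rw [hmemC]
          have := comp_mem_of_M24 (σ : M24).2 ((hmemC d).1 hd)
          convert this using 1
          funext p; simp [hv]
        by_contra hne
        have hsupp : support₂ (v + d) ⊆ Finset.univ.image Sum.inr := by
          intro i hi
          rcases i with a | z
          · exfalso
            rw [mem_support₂] at hi
            simp [hv, hfix a, CharTwo.add_self_eq_zero] at hi
          · simp
        have hne0 : v + d ≠ 0 := fun e0 => hne (by
          have := CharTwo.add_eq_zero.1 (congrFun e0 (Sum.inr x))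
          simp only [hv, hy, Equiv.symm_apply_apply] at this
          exact this.symm)
        have h1 := hC.min _ (add_mem hvC hd) hne0
        have h2 := Finset.card_le_card hsupp
        rw [hammingNorm_eq_card] at h1
        rw [Finset.card_image_of_injective _ Sum.inr_injective, Finset.card_univ, Fintype.card_fin] at h2
        have := h.le
        omega
      have hv0C : v0 ∈ C := hC.self_dual fun d hd => by
        rw [hv0, dot_indic, Finset.sum_pair (fun e' => hxy (Sum.inr_injective e').symm), hdist d hd]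
        exact CharTwo.add_self_eq_zero _
      have h1 := hC.min v0 hv0C (fun e0 => by
        have := congrFun e0 (Sum.inr x)
        simp [hv0, indic] at this)
      rw [hammingNorm_eq_card, hv0, support₂_indic] at h1
      have := Finset.card_le_two (a := (Sum.inr x : α ⊕ Fin r)) (b := Sum.inr y)
      omega
  · ext τ
    constructor
    · rintro ⟨σ, rfl⟩
      rw [MulAction.mem_stabilizer_iff]
      refine Set.eq_of_subset_of_ncard_le ?_ (Set.ncard_smul_set (ψ σ) B).ge (Set.toFinite _)
      rintro _ ⟨b, hb, rfl⟩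
      show ψ σ • b ∈ B
      rw [smul_finset_perm]
      refine block_of_ext h hC hBC ?_
        (by rw [Finset.card_image_of_injective _ (ψ σ).injective, h.steiner.1 b hb])
      let f : α ⊕ Fin r ≃ α ⊕ Fin r := (e.trans ((σ : M24) : Equiv.Perm GolayPt)).trans e.symm
      have hc := comp_ext f (ψ σ) (fun a => by simp [f, hψ, hg σ a])
        (fun x => by obtain ⟨y, hy⟩ := hinr σ x; exact ⟨y, by simp [f, hy]⟩) b
      have h1 := (hmemC _).1 (hBC b hb)
      rw [← hc] at h1
      rw [hmemC]
      have h2 := comp_mem_of_M24 (inv_mem (σ : M24).2) h1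
      convert h2 using 1
      funext p
      simp [f]
    · intro hτ
      rw [MulAction.mem_stabilizer_iff] at hτ
      set f0 : α ⊕ Fin r ≃ α ⊕ Fin r := τ.sumCongr (Equiv.refl _)
      set f1 : α ⊕ Fin r ≃ α ⊕ Fin r := τ.sumCongr Fin.revPerm
      have hD : ∀ f : α ⊕ Fin r ≃ α ⊕ Fin r, (∀ a, f (Sum.inl a) = Sum.inl (τ a)) →
          (∀ x, ∃ y, f (Sum.inr x) = Sum.inr y) →
          GoodCode (moveCode f C) ∧ ∀ b ∈ B, ext r b ∈ moveCode f C := by
        intro f hl hr
        refine ⟨hC.move f, fun b hb => mem_moveCode.2 ?_⟩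
        rw [← hτ] at hb
        obtain ⟨b0, hb0, rfl⟩ := hb
        show (fun i => ext r (τ • b0) (f i)) ∈ C
        rw [smul_finset_perm, comp_ext f τ hl hr]
        exact hBC b0 hb0
      have hex : ∃ f : α ⊕ Fin r ≃ α ⊕ Fin r, (∀ a, f (Sum.inl a) = Sum.inl (τ a)) ∧
          (∀ x, ∃ y, f (Sum.inr x) = Sum.inr y) ∧ moveCode f C = C := by
        obtain ⟨g0, b0⟩ := hD f0 (fun a => rfl) fun x => ⟨x, rfl⟩
        rcases huniq _ g0 b0 with h0 | ⟨hr2, h0⟩
        · exact ⟨f0, fun a => rfl, fun x => ⟨x, rfl⟩, h0⟩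
        · refine ⟨f1, fun a => rfl, fun x => ⟨Fin.revPerm x, rfl⟩, ?_⟩
          set e2 := (Equiv.refl α).sumCongr (Fin.revPerm : Equiv.Perm (Fin r))
          have hcomp : ∀ i, f1 i = e2 (f0 i) := fun i => by rcases i with a | x <;> simp [f1, e2, f0]
          have he2 : ∀ i, e2 (e2 i) = i := fun i => by rcases i with a | x <;> simp [e2]
          ext v
          rw [mem_moveCode]
          simp only [hcomp]
          rw [← mem_moveCode (e := f0) (v := fun i => v (e2 i)), h0, mem_moveCode]
          simp only [he2]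
      obtain ⟨f, hl, hr, hf⟩ := hex
      set s : Equiv.Perm GolayPt := (e.symm.trans f).trans e with hs
      have hs24 : s ∈ M24 := mem_M24_of fun v hv => by
        have h1 : (fun i => v (e i)) ∈ C := by rw [hmemC]; simpa using hv
        rw [← hf, mem_moveCode, hmemC] at h1
        exact h1
      have hsH : (⟨s, hs24⟩ : M24) ∈ Hst r := mem_Hst.2 fun p hp => by
        obtain ⟨x, rfl⟩ := mem_extraSet.1 hp
        obtain ⟨y, hy⟩ := hr x
        refine mem_extraSet.2 ⟨y, ?_⟩
        show extraPt r y = s (extraPt r x)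
        rw [← he1, ← he1]
        simp [hs, hy]
      refine ⟨⟨⟨s, hs24⟩, hsH⟩, Equiv.ext fun a => ?_⟩
      rw [hψ]
      refine huniqg _ _ _ ?_
      simp [hs, hl a]

theorem extraSet_one : extraSet 1 = {none} := by decide +kernel

theorem extraSet_two : extraSet 2 = {none, some 0} := by decide +kernel

/-- transitivity of the automorphisms -/
theorem aut_trans (h : Big B r) :
    MulAction.IsMultiplyPretransitive (setSystemAut B) α (5 - r) := by
  rw [MulAction.isMultiplyPretransitive_iff]
  intro x y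
  obtain ⟨e, ψ, -, hψr, he1, heq⟩ := aut_iso h
  have hnd : ∀ z : Fin (5 - r) ↪ α,
      (List.ofFn (extraPt r) ++ List.ofFn fun i => e (Sum.inl (z i))).Nodup := fun z => by
    refine List.nodup_append.2 ⟨?_, ?_, ?_⟩
    · exact List.nodup_ofFn.2 (fun a b hab => Sum.inr_injective (e.injective (by rw [he1, he1, hab])))
    · exact List.nodup_ofFn.2 fun a b hab => z.injective (Sum.inl_injective (e.injective hab))
    · intro p hp q hq hpq
      rw [List.mem_ofFn] at hp hq
      obtain ⟨a, rfl⟩ := hp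
      obtain ⟨b, rfl⟩ := hq
      rw [← he1] at hpq
      exact absurd (e.injective hpq) (by simp)
  obtain ⟨σ, hσ, hmap⟩ := exists_move _ _ (hnd x) (hnd y) (by simp)
    (by simp only [List.length_append, List.length_ofFn]; have := h.le; omega)
  rw [List.map_append] at hmap
  obtain ⟨h1, h2⟩ := List.append_inj hmap (by simp)
  rw [List.map_ofFn, List.ofFn_inj] at h1 h2
  have hH : (⟨σ, hσ⟩ : M24) ∈ Hst r := mem_Hst.2 fun p hp => by
    obtain ⟨z, rfl⟩ := mem_extraSet.1 hp
    exact mem_extraSet.2 ⟨z, (congrFun h1 z).symm⟩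
  refine ⟨⟨ψ ⟨_, hH⟩, hψr.le ⟨_, rfl⟩⟩, ?_⟩
  ext i
  refine Sum.inl_injective (e.injective ?_)
  show e (Sum.inl (ψ ⟨_, hH⟩ (x i))) = _
  rw [heq]
  exact congrFun h2 i

theorem aut_equiv (h : Big B r) : Nonempty (Hst r ≃* setSystemAut B) := by
  obtain ⟨e, ψ, hinj, hψr, -, -⟩ := aut_iso h
  exact ⟨(MonoidHom.ofInjective hinj).trans (MulEquiv.subgroupCongr hψr)⟩

theorem m23_facts (h : Big B 1) : IsM23 (setSystemAut B) := by
  obtain ⟨φ⟩ := aut_equiv h
  have e : Hst 1 = MulAction.stabilizer M24 (none : GolayPt) := by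
    ext σ
    rw [mem_Hst, extraSet_one]
    simp only [Finset.mem_singleton, forall_eq]
    exact Iff.rfl
  let ψ := (MulEquiv.subgroupCongr e).symm.trans φ
  have := S0377.result none
  exact ⟨MulEquiv.isSimpleGroup (H := ↥(MulAction.stabilizer M24 (none : GolayPt))) ψ.symm,
    (Nat.card_congr ψ.toEquiv).symm.trans (S0376.result none)⟩

theorem m22_facts (h : Big B 2) : Nat.card (setSystemAut B) = 887040 ∧
    ∃ H : Subgroup (setSystemAut B), H.index = 2 ∧ IsM22 H := by
  obtain ⟨φ⟩ := aut_equiv h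
  set P := MulAction.stabilizer M24 (none : GolayPt) ⊓ MulAction.stabilizer M24 (some 0 : GolayPt)
  have hP : P ≤ Hst 2 := fun σ hσ => mem_Hst.2 fun p hp => by
    rw [extraSet_two] at hp ⊢
    simp only [Finset.mem_insert, Finset.mem_singleton] at hp ⊢
    rcases hp with rfl | rfl
    · exact Or.inl hσ.1
    · exact Or.inr hσ.2
  have hne : (none : GolayPt) ≠ some 0 := by simp
  obtain ⟨t, ht, htm⟩ := exists_move [none, some 0] [some 0, none] (by simp) (by simp) rfl (by simp)
  simp only [List.map_cons, List.map_nil, List.cons.injEq, and_true] at htm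
  obtain ⟨t0, t1⟩ := htm
  have htH : (⟨t, ht⟩ : M24) ∈ Hst 2 := mem_Hst.2 fun p hp => by
    rw [extraSet_two] at hp ⊢
    simp only [Finset.mem_insert, Finset.mem_singleton] at hp ⊢
    rcases hp with rfl | rfl
    · exact Or.inr t0
    · exact Or.inl t1
  have hidx : (P.subgroupOf (Hst 2)).index = 2 := by
    refine Subgroup.index_eq_two_iff.2 ⟨⟨_, htH⟩, fun σ => ?_⟩
    have h0 := mem_Hst.1 σ.2 none (by rw [extraSet_two]; simp)
    have h1 := mem_Hst.1 σ.2 (some 0) (by rw [extraSet_two]; simp)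
    rw [extraSet_two] at h0 h1
    simp only [Finset.mem_insert, Finset.mem_singleton] at h0 h1
    have hmemP : ∀ q : M24, q ∈ P ↔ (q : Equiv.Perm GolayPt) none = none ∧
        (q : Equiv.Perm GolayPt) (some 0) = some 0 := fun q => Iff.rfl
    simp only [Subgroup.mem_subgroupOf, hmemP]
    show Xor ((((σ : M24) : Equiv.Perm GolayPt)) (t none) = none ∧
      (((σ : M24) : Equiv.Perm GolayPt)) (t (some 0)) = some 0) _
    rw [t0, t1]
    have hinj := ((σ : M24) : Equiv.Perm GolayPt).injective.ne hne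
    rcases h0 with a | a <;> rcases h1 with b | b
    · exact absurd (a.trans b.symm) hinj
    · exact Or.inr ⟨⟨a, b⟩, fun hh => hne (hh.2.symm.trans a).symm⟩
    · exact Or.inl ⟨⟨b, a⟩, fun hh => hne (hh.1.symm.trans a)⟩
    · exact absurd (a.trans b.symm) hinj
  set H := (P.subgroupOf (Hst 2)).map φ.toMonoidHom
  have hH : H.index = 2 := (Subgroup.index_map_equiv _ φ).trans hidx
  let η : ↥P ≃* H :=
    (Subgroup.subgroupOfEquivOfLe hP).symm.trans (φ.subgroupMap (P.subgroupOf (Hst 2)))
  have hc : Nat.card H = 443520 := (Nat.card_congr η.toEquiv).symm.trans (S0378.result none (some 0) hne)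
  refine ⟨?_, H, hH, ?_, hc⟩
  · rw [← H.card_mul_index, hH, hc]
  · have := S0379.result none (some 0) hne
    exact MulEquiv.isSimpleGroup (H := ↥P) η.symm

end Cfsg.Agent.Leech.Unique
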