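import Mathlib
import Cfsg.Prelude.Def_Sporadic_a
import Cfsg.Agent.Leech.SimpleHSMcL
import Cfsg.Agent.Leech.Unique.SteinerAut

/-! The automorphisms of the graph on hundred vertices. -/

set_option autoImplicit false

namespace Cfsg.Agent.Leech.Unique
open Cfsg Cfsg.Agent.Leech
open scoped Pointwise

theorem dot_YY : ∀ f g : GolayPt, f ≠ g →
    dotInt (hY f : GolayPt → ℤ) (hY g : GolayPt → ℤ) = 16 := by decide +kernel

theorem dot_YO (f : GolayPt) (O : Finset GolayPt) (h8 : O.card = 8) :
    dotInt (hY f : GolayPt → ℤ) (fun i => if i ∈ O then (2 : ℤ) else 0) = if f ∈ O then 8 else 16 := by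
  simp only [dotInt, mul_ite, mul_zero]
  rw [Finset.sum_ite_mem, Finset.univ_inter]
  have : ∀ i, (hY f : GolayPt → ℤ) i = if i = f then -3 else 1 := fun i => rfl
  simp only [this, ite_mul]
  by_cases hf : f ∈ O
  · rw [if_pos hf, ← Finset.add_sum_erase _ _ hf, if_pos rfl,
      Finset.sum_congr rfl fun i hi => if_neg (Finset.ne_of_mem_erase hi), Finset.sum_const,
      Finset.card_erase_of_mem hf, h8]
    rfl
  · rw [if_neg hf, Finset.sum_congr rfl fun i hi => if_neg fun e => hf (by subst e; exact hi),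
      Finset.sum_const, h8]
    rfl

theorem dot_OO (O O' : Finset GolayPt) :
    dotInt (fun i => if i ∈ O then (2 : ℤ) else 0) (fun i => if i ∈ O' then (2 : ℤ) else 0) =
      4 * ((O ∩ O').card : ℤ) := by
  simp only [dotInt, ite_mul, zero_mul, mul_ite, mul_zero]
  rw [Finset.sum_ite_mem, Finset.univ_inter, Finset.sum_ite_mem, Finset.sum_const,
    Finset.inter_comm]
  simp [mul_comm]

variable {α : Type*} [Fintype α] [DecidableEq α] {B : Set (Finset α)}

theorem exists_model (h : Big B 2) : ∃ vec : Option (α ⊕ B) → leechLattice,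
    Function.Injective vec ∧ Set.range vec = hX ∧ vec none = Spor.leechU ∧
    ∀ v w, (pointBlockGraph B).Adj v w ↔
      v ≠ w ∧ dotInt (vec v : GolayPt → ℤ) (vec w : GolayPt → ℤ) = 8 := by
  classical
  obtain ⟨C, hC, hBC, -, -⟩ := h.exists_code
  obtain ⟨e, he, he1⟩ := to_standard h.le hC
  have hmemC : ∀ v : α ⊕ Fin 2 → ZMod 2, v ∈ C ↔ (fun p => v (e.symm p)) ∈ golayCode := fun v => by
    rw [← he, mem_moveCode]; simp
  have hn : e (Sum.inr 0) = none := he1 0
  have h0 : e (Sum.inr 1) = some 0 := he1 1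
  let O : B → Finset GolayPt := fun b => ((b : Finset α).disjSum Finset.univ).map e.toEmbedding
  have hmemO : ∀ b p, p ∈ O b ↔ e.symm p ∈ (b : Finset α).disjSum Finset.univ := fun b p => by
    simp [O, Finset.mem_map_equiv]
  have hOw : ∀ b, O b ∈ wordsOfWeight (golayCode : Set (GolayPt → ZMod 2)) 8 := fun b => by
    refine ⟨⟨fun p => ext 2 b.1 (e.symm p), (hmemC _).1 (hBC b.1 b.2), Finset.ext fun p => ?_⟩, ?_⟩
    · rw [mem_support₂, hmemO]
      simp only [ext, indic]
      split_ifs with hp <;> simp [hp]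
    · show (O b).card = 8
      simp only [O, Finset.card_map, Finset.card_disjSum, Finset.card_univ, Fintype.card_fin,
        h.steiner.1 b.1 b.2]
  have hOn : ∀ b, none ∈ O b ∧ some 0 ∈ O b := fun b =>
    ⟨by rw [hmemO, ← hn]; simp, by rw [hmemO, ← h0]; simp⟩
  have hinl : ∀ a, e (Sum.inl a) ≠ none ∧ e (Sum.inl a) ≠ some 0 := fun a =>
    ⟨fun x => by rw [← hn] at x; simpa using e.injective x,
      fun x => by rw [← h0] at x; simpa using e.injective x⟩
  let vec : Option (α ⊕ B) → leechLattice := fun v => match v with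
    | none => Spor.leechU
    | some (Sum.inl a) => hY (e (Sum.inl a))
    | some (Sum.inr b) => ⟨_, octVec2_mem (O b) (hOw b)⟩
  have dUU : dotInt Spor.vecU Spor.vecU = 32 := by decide +kernel
  have dUY : ∀ a, dotInt Spor.vecU (hY (e (Sum.inl a)) : GolayPt → ℤ) = 8 := fun a =>
    (hY_facts _ (hinl a).1 (hinl a).2).2.2.2
  have dUO : ∀ b, dotInt Spor.vecU (fun i => if i ∈ O b then (2 : ℤ) else 0) = 16 := fun b =>
    (hO_facts _ (hOw b).2 (hOn b).1 (hOn b).2).2.2.2
  have dUOv : ∀ b, dotInt Spor.vecU (vec (some (Sum.inr b)) : GolayPt → ℤ) = 16 := dUO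
  have hYinj : ∀ a a', hY (e (Sum.inl a)) = hY (e (Sum.inl a')) → a = a' := fun a a' x => by
    have := congrFun (congrArg Subtype.val x) (e (Sum.inl a))
    by_contra hne
    simp [hY, hne] at this
  have hOinj : ∀ b b', vec (some (Sum.inr b)) = vec (some (Sum.inr b')) → b = b' := fun b b' x => by
    refine Subtype.ext (Finset.ext fun a => ?_)
    have := congrFun (congrArg Subtype.val x) (e (Sum.inl a))
    simp only [vec, hmemO, Equiv.symm_apply_apply, Finset.inl_mem_disjSum] at this
    by_cases h1 : a ∈ b.1 <;> by_cases h2 : a ∈ b'.1 <;> simp [h1, h2] at this ⊢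
  have hinj : Function.Injective vec := by
    rintro (_ | a | b) (_ | a' | b') x
    · rfl
    · exact absurd (dUY a') (by rw [show hY (e (Sum.inl a')) = Spor.leechU from x.symm]; show dotInt Spor.vecU Spor.vecU ≠ 8; rw [dUU]; norm_num)
    · exact absurd (dUOv b') (by rw [← x]; show dotInt Spor.vecU Spor.vecU ≠ 16; rw [dUU]; norm_num)
    · exact absurd (dUY a) (by rw [show hY (e (Sum.inl a)) = Spor.leechU from x]; show dotInt Spor.vecU Spor.vecU ≠ 8; rw [dUU]; norm_num)
    · rw [hYinj a a' x]
    · exact absurd (dUOv b') (by rw [← x]; show dotInt Spor.vecU (hY _ : GolayPt → ℤ) ≠ 16; rw [dUY]; norm_num)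
    · exact absurd (dUOv b) (by rw [x]; show dotInt Spor.vecU Spor.vecU ≠ 16; rw [dUU]; norm_num)
    · exact absurd (dUOv b) (by rw [x]; show dotInt Spor.vecU (hY _ : GolayPt → ℤ) ≠ 16; rw [dUY]; norm_num)
    · rw [hOinj b b' x]
  refine ⟨vec, hinj, ?_, rfl, ?_⟩
  · rw [hX_eq]
    ext x
    constructor
    · rintro ⟨(_ | a | b), rfl⟩
      · exact Or.inl rfl
      · exact Or.inr (Or.inl ⟨_, hinl a, rfl⟩)
      · refine Or.inr (Or.inr ⟨O b, Finset.mem_filter.2 ⟨(Set.Finite.mem_toFinset _).2 (hOw b), ?_⟩, rfl⟩)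
        simp [Finset.insert_subset_iff, (hOn b).1, (hOn b).2]
    · rintro (hx | ⟨f, hf, rfl⟩ | ⟨P, hP, hx⟩)
      · exact ⟨none, hx.symm⟩
      · rcases hs : e.symm f with a | z
        · exact ⟨some (Sum.inl a), by simp [vec, ← hs]⟩
        · exfalso
          rw [Equiv.symm_apply_eq] at hs
          fin_cases z
          · exact hf.1 (hs.trans hn)
          · exact hf.2 (hs.trans h0)
      · obtain ⟨⟨⟨o, ho, hoP⟩, h8⟩, hPn, hP0⟩ := mem_oct77 hP
        set S : Finset α := Finset.univ.filter fun a => e (Sum.inl a) ∈ P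
        have hPS : P = (S.disjSum Finset.univ).map e.toEmbedding := by
          ext p
          rw [Finset.mem_map_equiv]
          rcases hp : e.symm p with a | z
          · rw [Equiv.symm_apply_eq] at hp
            simp [S, hp]
          · rw [Equiv.symm_apply_eq] at hp
            fin_cases z <;> simp [hp, hn, h0, hPn, hP0]
        have hScard : S.card = 8 - 2 := by
          have := congrArg Finset.card hPS
          rw [Finset.card_map, Finset.card_disjSum, h8, Finset.card_univ, Fintype.card_fin] at this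
          omega
        have hSC : ext 2 S ∈ C := by
          rw [hmemC]
          suffices (fun p => ext 2 S (e.symm p)) = o by rw [this]; exact ho
          refine eq_of_support₂_eq (α := GolayPt) ?_
          rw [hoP, hPS]
          ext p
          rw [mem_support₂, Finset.mem_map_equiv]
          simp only [ext, indic]
          split_ifs with hp <;> simp [hp]
        refine ⟨some (Sum.inr ⟨S, block_of_ext h hC hBC hSC hScard⟩), Subtype.ext ?_⟩
        rw [hx, hPS]
  · have hdd : ∀ b b' : B, b ≠ b' →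
        (dotInt (fun i => if i ∈ O b then (2 : ℤ) else 0) (fun i => if i ∈ O b' then (2 : ℤ) else 0) = 8 ↔
          Disjoint b.1 b'.1) := by
      intro b b' hne
      have hi : O b ∩ O b' = ((b.1 ∩ b'.1).disjSum Finset.univ).map e.toEmbedding := by
        ext p
        simp only [Finset.mem_inter, hmemO, Finset.mem_map_equiv]
        rcases e.symm p with a | z <;> simp
      rw [dot_OO, hi, Finset.card_map, Finset.card_disjSum, Finset.card_univ, Fintype.card_fin,
        Finset.disjoint_iff_inter_eq_empty, ← Finset.card_eq_zero]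
      omega
    intro v w
    rw [pointBlockGraph, SimpleGraph.fromRel_adj]
    refine and_congr_right fun hne => ?_
    rcases v with _ | a | b <;> rcases w with _ | a' | b'
    · exact absurd rfl hne
    · simp [pointBlockRel, vec, show dotInt (Spor.leechU : GolayPt → ℤ) _ = 8 from dUY a']
    · simp only [pointBlockRel, or_self, false_iff]
      show ¬ dotInt Spor.vecU _ = 8
      rw [dUOv b']; norm_num
    · simp [pointBlockRel, vec, dotInt_comm (hY _ : GolayPt → ℤ), show dotInt (Spor.leechU : GolayPt → ℤ) _ = 8 from dUY a]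
    · simp only [pointBlockRel, or_self, false_iff, vec]
      rw [dot_YY _ _ fun x => hne (by rw [Sum.inl_injective (e.injective x)])]
      norm_num
    · simp only [pointBlockRel, or_false, vec]
      rw [dot_YO _ _ (hOw b').2]
      simp [hmemO]
    · simp only [pointBlockRel, or_self, false_iff]
      show ¬ dotInt (vec (some (Sum.inr b)) : GolayPt → ℤ) Spor.vecU = 8
      rw [dotInt_comm, dUOv b]; norm_num
    · simp only [pointBlockRel, false_or, vec]
      rw [dotInt_comm, dot_YO _ _ (hOw b).2]
      simp [hmemO]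
    · simp only [pointBlockRel, vec]
      rw [hdd b b' fun x => hne (by rw [x]), disjoint_comm (a := b'.1), or_self]

theorem graph_aut_card (h : Big B 2) :
    Nat.card (pointBlockGraph B ≃g pointBlockGraph B) = 88704000 := by
  classical
  obtain ⟨vec, hinj, hrange, hvn, hadj⟩ := exists_model h
  set Γ := pointBlockGraph B
  have : Finite B := Subtype.finite
  have hVcard : Nat.card (Option (α ⊕ B)) = 100 := by
    obtain ⟨f1, f2, f3, -⟩ := hV_facts
    rw [← ncard_hundred hV hT ⟨f1, f2, f3⟩,
      show {x : leechLattice | x ∈ layer 32 ∧ dotInt (hT : GolayPt → ℤ) (x : GolayPt → ℤ) = 0 ∧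
        dotInt (hV : GolayPt → ℤ) (x : GolayPt → ℤ) = 24} = hX from rfl, ← hrange,
      ← Nat.card_coe_set_eq, Nat.card_range_of_injective hinj]
  have : Finite (Γ ≃g Γ) := Finite.of_injective (fun φ : Γ ≃g Γ => (φ : Option (α ⊕ B) → Option (α ⊕ B)))
    DFunLike.coe_injective
  -- transitivity
  have htrans : ∀ w, ∃ φ : Γ ≃g Γ, φ none = w := by
    intro w
    have hw : vec w ∈ MulAction.orbit ↥hsGroup Spor.leechU := by
      rw [orbit_hsGroup, ← hrange]; exact ⟨w, rfl⟩
    obtain ⟨⟨g, hg⟩, hgw⟩ := hw
    have hX_inv : ∀ x, ∃ y, vec y = g • vec x := fun x => by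
      show g • vec x ∈ Set.range vec
      have hx : vec x ∈ MulAction.orbit ↥hsGroup Spor.leechU := by
        rw [orbit_hsGroup, ← hrange]; exact ⟨x, rfl⟩
      obtain ⟨⟨k, hk⟩, hkx⟩ := hx
      rw [hrange, ← orbit_hsGroup]
      refine ⟨⟨g * k, mul_mem hg hk⟩, ?_⟩
      rw [← hkx]
      exact mul_smul g k _
    choose f hf using hX_inv
    have hfinj : Function.Injective f := fun x y e =>
      hinj (MulAction.injective g (by show g • vec x = g • vec y; rw [← hf, ← hf, e]))
    refine ⟨⟨Equiv.ofBijective f (Finite.injective_iff_bijective.1 hfinj), ?_⟩, ?_⟩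
    · intro x y
      rw [hadj, hadj]
      show f x ≠ f y ∧ _ ↔ _
      simp only [Equiv.ofBijective_apply, hf, dotInt_smul, hfinj.ne_iff]
    · show f none = w
      exact hinj (by rw [hf, hvn]; exact hgw)
  let : MulAction (Γ ≃g Γ) (Option (α ⊕ B)) :=
    { smul := fun φ x => φ x
      one_smul := fun _ => rfl
      mul_smul := fun _ _ _ => rfl }
  have hpre : MulAction.IsPretransitive (Γ ≃g Γ) (Option (α ⊕ B)) := by
    refine ⟨fun x y => ?_⟩
    obtain ⟨φ, hφ⟩ := htrans x
    obtain ⟨ψ, hψ⟩ := htrans y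
    refine ⟨ψ * φ⁻¹, ?_⟩
    show ψ (φ.symm x) = y
    rw [← hφ, RelIso.symm_apply_apply, hψ]
  have hstab : Nat.card (MulAction.stabilizer (Γ ≃g Γ) (none : Option (α ⊕ B))) = 887040 := by
    rw [← (m22_facts h).1]
    have hnone : ∀ w, Γ.Adj none w ↔ ∃ a, w = some (Sum.inl a) := by
      intro w
      rcases w with _ | a | b <;>
        simp [Γ, pointBlockGraph, SimpleGraph.fromRel_adj, pointBlockRel]
    have hpb : ∀ a b, Γ.Adj (some (Sum.inl a)) (some (Sum.inr b)) ↔ a ∈ b.1 := fun a b => by
      simp [Γ, pointBlockGraph, SimpleGraph.fromRel_adj, pointBlockRel]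
    let mk : setSystemAut B → (Option (α ⊕ B) ≃ Option (α ⊕ B)) := fun τ =>
      Equiv.optionCongr ((τ : Equiv.Perm α).sumCongr
        { toFun := fun b => ⟨(τ : Equiv.Perm α) • b.1, by
            have := MulAction.mem_stabilizer_iff.1 τ.2
            have h' := Set.smul_mem_smul_set (a := (τ : Equiv.Perm α)) b.2
            rwa [this] at h'⟩
          invFun := fun b => ⟨(τ : Equiv.Perm α)⁻¹ • b.1, by
            have := MulAction.mem_stabilizer_iff.1 (inv_mem τ.2)
            have h' := Set.smul_mem_smul_set (a := (τ : Equiv.Perm α)⁻¹) b.2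
            rwa [this] at h'⟩
          left_inv := fun b => Subtype.ext (inv_smul_smul _ _)
          right_inv := fun b => Subtype.ext (smul_inv_smul _ _) })
    have hmk : ∀ τ x y, Γ.Adj (mk τ x) (mk τ y) ↔ Γ.Adj x y := by
      intro τ x y
      rcases x with _ | a | b <;> rcases y with _ | a' | b' <;>
        simp [mk, Γ, pointBlockGraph, SimpleGraph.fromRel_adj, pointBlockRel, smul_finset_perm,
          Finset.disjoint_image (τ : Equiv.Perm α).injective,
          (Finset.image_injective (τ : Equiv.Perm α).injective).eq_iff, Subtype.ext_iff]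
    let F : setSystemAut B → MulAction.stabilizer (Γ ≃g Γ) (none : Option (α ⊕ B)) := fun τ =>
      ⟨⟨mk τ, hmk τ _ _⟩, rfl⟩
    refine (Nat.card_congr (Equiv.ofBijective F ⟨fun τ τ' e => ?_, ?_⟩)).symm
    · refine Subtype.ext (Equiv.ext fun a => ?_)
      have e1 : mk τ (some (Sum.inl a)) = mk τ' (some (Sum.inl a)) :=
        congrArg (fun z : MulAction.stabilizer (Γ ≃g Γ) (none : Option (α ⊕ B)) =>
          (z : Γ ≃g Γ) (some (Sum.inl a))) e
      simpa [mk] using e1
    · rintro ⟨φ, hφ⟩
      have hφn : φ none = none := hφ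
      have hpt : ∀ a, ∃ a', φ (some (Sum.inl a)) = some (Sum.inl a') := fun a => by
        have := (φ.map_adj_iff).2 ((hnone (some (Sum.inl a))).2 ⟨a, rfl⟩)
        rw [hφn] at this
        exact (hnone _).1 this
      choose t ht using hpt
      have htinj : Function.Injective t := fun a a' e' => by
        have : φ (some (Sum.inl a)) = φ (some (Sum.inl a')) := by rw [ht, ht, e']
        simpa using φ.injective this
      let τ : Equiv.Perm α := Equiv.ofBijective t (Finite.injective_iff_bijective.1 htinj)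
      have hτ : ∀ a, τ a = t a := fun a => rfl
      have hblk : ∀ b : B, ∃ c : B, φ (some (Sum.inr b)) = some (Sum.inr c) ∧ τ • b.1 = c.1 := by
        intro b
        rcases hc : φ (some (Sum.inr b)) with _ | a | c
        · rw [← hφn] at hc
          exact absurd (φ.injective hc) (by simp)
        · obtain ⟨a0, ha0⟩ := τ.surjective a
          rw [← ha0, hτ, ← ht] at hc
          exact absurd (φ.injective hc) (by simp)
        · refine ⟨c, rfl, ?_⟩
          rw [smul_finset_perm]
          ext x
          obtain ⟨a, rfl⟩ := τ.surjective x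
          rw [τ.injective.mem_finset_image, ← hpb a b, ← φ.map_adj_iff, ht, hc, hpb, hτ]
      choose cb hc1 hc2 using hblk
      have hτB : τ ∈ setSystemAut B := by
        rw [MulAction.mem_stabilizer_iff]
        refine Set.eq_of_subset_of_ncard_le ?_ (Set.ncard_smul_set τ B).ge (Set.toFinite _)
        rintro _ ⟨b, hb, rfl⟩
        show τ • b ∈ B
        rw [hc2 ⟨b, hb⟩]
        exact (cb ⟨b, hb⟩).2
      refine ⟨⟨τ, hτB⟩, Subtype.ext (RelIso.ext fun x => ?_)⟩
      show mk ⟨τ, hτB⟩ x = φ x
      rcases x with _ | a | b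
      · rw [hφn]; rfl
      · rw [ht, ← hτ]; rfl
      · rw [hc1]
        simp [mk, hc2]
  rw [← (MulAction.stabilizer (Γ ≃g Γ) (none : Option (α ⊕ B))).index_mul_card,
    MulAction.index_stabilizer_of_transitive, hVcard, hstab]

end Cfsg.Agent.Leech.Unique
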