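import Mathlib
import Cfsg.Agent.Leech.Unique.HSGraph
import Cfsg.Prelude.Def_Sporadic

/-! The simple subgroup of the automorphisms of the graph on hundred vertices. -/

set_option autoImplicit false

namespace Cfsg.Agent.Leech.Unique
open Cfsg Cfsg.Agent.Leech

variable {α : Type*} [Fintype α] [DecidableEq α] {B : Set (Finset α)}

theorem graph_hs (h : Big B 2) :
    ∃ H : Subgroup (pointBlockGraph B ≃g pointBlockGraph B), IsHS H := by
  classical
  obtain ⟨vec, hinj, hrange, hvn, hadj⟩ := exists_model h
  have hmem : ∀ v, vec v ∈ MulAction.orbit ↥hsGroup Spor.leechU := fun v => by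
    rw [orbit_hsGroup, ← hrange]; exact ⟨v, rfl⟩
  let e : Option (α ⊕ B) ≃ MulAction.orbit ↥hsGroup Spor.leechU :=
    Equiv.ofBijective (fun v => ⟨vec v, hmem v⟩)
      ⟨fun x y hxy => hinj (congrArg Subtype.val hxy), fun z => by
        obtain ⟨v, hv⟩ : (z : leechLattice) ∈ Set.range vec := by
          rw [hrange, ← orbit_hsGroup]; exact z.2
        exact ⟨v, Subtype.ext hv⟩⟩
  have he : ∀ v, (e v : leechLattice) = vec v := fun v => rfl
  let perm : ↥hsGroup → (Option (α ⊕ B) ≃ Option (α ⊕ B)) := fun g =>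
    e.trans ((MulAction.toPerm g).trans e.symm)
  have hperm : ∀ g v, vec (perm g v) = (g : ↥Co0) • vec v := fun g v => by
    rw [← he, ← he]
    simp only [perm, Equiv.trans_apply, MulAction.toPerm_apply, Equiv.apply_symm_apply]
    rfl
  have hpadj : ∀ g x y, (pointBlockGraph B).Adj (perm g x) (perm g y) ↔
      (pointBlockGraph B).Adj x y := fun g x y => by
    rw [hadj, hadj, hperm, hperm]
    simp only [dotInt_smul, (perm g).injective.ne_iff]
  let φ : ↥hsGroup →* (pointBlockGraph B ≃g pointBlockGraph B) :=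
    MonoidHom.mk' (fun g => ⟨perm g, hpadj g _ _⟩) fun g k => RelIso.ext fun v => by
      show perm (g * k) v = perm g (perm k v)
      apply hinj
      rw [hperm, hperm, hperm]
      exact mul_smul _ _ _
  have hsimp := simple_hs
  have : IsSimpleGroup ↥hsGroup := hsimp.1
  have hker : φ.ker = ⊥ := by
    refine (Subgroup.Normal.eq_bot_or_eq_top inferInstance).resolve_right fun htop => ?_
    have hne : Nonempty α := Fintype.card_pos_iff.1 (by have := h.card; omega)
    obtain ⟨a⟩ := hne
    obtain ⟨g, hg⟩ := hmem (some (Sum.inl a))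
    have hg1 : φ g = 1 := (htop ▸ Subgroup.mem_top g : g ∈ φ.ker)
    have : perm g none = none := congrArg (fun z : pointBlockGraph B ≃g pointBlockGraph B => z none) hg1
    have h2 := hperm g none
    rw [this, hvn] at h2
    have h3 : vec (some (Sum.inl a)) = vec none := by
      rw [← hg, hvn]; exact h2.symm
    simpa using hinj h3
  let ψ : ↥hsGroup ≃* ↥φ.range := MonoidHom.ofInjective ((MonoidHom.ker_eq_bot_iff φ).1 hker)
  exact ⟨φ.range, MulEquiv.isSimpleGroup ψ.symm, by rw [← Nat.card_congr ψ.toEquiv, hsimp.2]⟩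

end Cfsg.Agent.Leech.Unique
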