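import Mathlib
import Cfsg.Prelude.Def_Sporadic_a
import Cfsg.Agent.Leech.Lattice
import Cfsg.Agent.Leech.Unique.CodeUnique
import Cfsg.Agent.Leech.Unique.SteinerCode

/-! An integral lattice with a frame and 196560 shortest vectors is `Cfsg.leechLattice` up to signs
and a permutation of the coordinates. -/

set_option autoImplicit false

namespace Cfsg.Agent.Leech.Unique
open Cfsg Cfsg.Agent.Leech Finset

/-- the properties used of the lattice -/
structure LikeLeech (M : AddSubgroup (GolayPt → ℤ)) : Prop where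
  dot : ∀ v ∈ M, ∀ w ∈ M, (8 : ℤ) ∣ dotInt v w
  norm : ∀ v ∈ M, (16 : ℤ) ∣ sqNorm v
  min : ∀ v ∈ M, v ≠ 0 → 32 ≤ sqNorm v
  pair : ∀ i j, i ≠ j → (fun k => 4 * ((if k = i then 1 else 0) + if k = j then 1 else 0)) ∈ M ∧
    (fun k => 4 * ((if k = i then 1 else 0) - if k = j then 1 else 0)) ∈ M
  par : ∀ v ∈ M, ∀ i j, (2 : ℤ) ∣ v i - v j
  count : {v | v ∈ M ∧ sqNorm v = 32}.ncard = 196560

variable {M : AddSubgroup (GolayPt → ℤ)}

/-- the unit vector -/
def unitVec (p : GolayPt) : GolayPt → ℤ := fun k => if k = p then 1 else 0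

theorem sum_unitVec (p : GolayPt) : ∑ k, unitVec p k = 1 := by simp [unitVec]

theorem sqNorm_mul_const (a : ℤ) (u : GolayPt → ℤ) :
    sqNorm (fun k => a * u k) = a ^ 2 * ∑ k, u k ^ 2 := by
  rw [sqNorm, Finset.mul_sum]
  exact Finset.sum_congr rfl fun k _ => by ring

theorem LikeLeech.eight_mem (h : LikeLeech M) (p : GolayPt) : (fun k => 8 * unitVec p k) ∈ M := by
  obtain ⟨q, hq⟩ := exists_ne p
  obtain ⟨h1, h2⟩ := h.pair p q hq.symm
  convert M.add_mem h1 h2 using 1
  funext k; simp only [Pi.add_apply, unitVec]; ring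

theorem LikeLeech.four_not_mem (h : LikeLeech M) (p : GolayPt) :
    (fun k => 4 * unitVec p k) ∉ M := fun hm => by
  have h32 := h.min _ hm fun e => by simpa [unitVec] using congrFun e p
  rw [sqNorm_mul_const] at h32
  simp [unitVec] at h32

theorem LikeLeech.four_mem_iff (h : LikeLeech M) (w : GolayPt → ℤ) :
    (fun k => 4 * w k) ∈ M ↔ (2 : ℤ) ∣ ∑ k, w k := by
  have hadj : (fun k => 4 * w k) - (fun k => 4 * ((∑ i, w i) * unitVec none k)) ∈ M := by
    have he : (fun k => 4 * w k) - (fun k => 4 * ((∑ i, w i) * unitVec none k)) =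
        ∑ i, (w i) • (fun k => 4 * (unitVec i k - unitVec none k)) := by
      funext k
      simp only [Pi.sub_apply, Finset.sum_apply, Pi.smul_apply, smul_eq_mul, mul_sub,
        Finset.sum_sub_distrib]
      rw [← Finset.sum_mul]
      simp [unitVec, mul_ite, -Fintype.sum_option]
      split_ifs <;> ring
    rw [he]
    refine M.sum_mem fun i _ => M.zsmul_mem ?_ _
    by_cases hi : i = none
    · subst hi; simp only [sub_self, mul_zero]; exact M.zero_mem
    · exact (h.pair i none hi).2
  have hz : ∀ t : ℤ, (fun k => 4 * (t * unitVec none k)) ∈ M ↔ (2 : ℤ) ∣ t := by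
    intro t
    constructor
    · intro ht
      by_contra hodd
      obtain ⟨s, hs⟩ : (2 : ℤ) ∣ t - 1 := by omega
      refine h.four_not_mem none ?_
      have := M.sub_mem ht (M.zsmul_mem (h.eight_mem none) s)
      convert this using 1
      funext k
      simp only [Pi.sub_apply, Pi.smul_apply, smul_eq_mul]
      rw [show t = 2 * s + 1 by omega]; ring
    · rintro ⟨s, rfl⟩
      convert M.zsmul_mem (h.eight_mem none) s using 1
      funext k; simp only [Pi.smul_apply, smul_eq_mul]; ring
  rw [← hz]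
  exact ⟨fun hw => by simpa using M.sub_mem hw hadj, fun ht => by simpa using M.add_mem hadj ht⟩

/-- the binary code of the even part -/
def codeOf (M : AddSubgroup (GolayPt → ℤ)) : Submodule (ZMod 2) (GolayPt → ZMod 2) :=
  AddSubgroup.toZModSubmodule 2
    { carrier := {c | ∃ u : GolayPt → ℤ, red2 u = c ∧ (fun k => 2 * u k) ∈ M}
      zero_mem' := ⟨0, by funext k; simp [red2], by
        convert M.zero_mem using 1; funext k; simp⟩
      add_mem' := by
        rintro a b ⟨u, rfl, hu⟩ ⟨w, rfl, hw⟩
        refine ⟨u + w, red2_add u w, ?_⟩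
        convert M.add_mem hu hw using 1
        funext k; simp only [Pi.add_apply]; ring
      neg_mem' := by
        rintro a ⟨u, rfl, hu⟩
        refine ⟨-u, by funext k; simp [red2], ?_⟩
        convert M.neg_mem hu using 1
        funext k; simp }

theorem mem_codeOf {c : GolayPt → ZMod 2} :
    c ∈ codeOf M ↔ ∃ u : GolayPt → ℤ, red2 u = c ∧ (fun k => 2 * u k) ∈ M := Iff.rfl

theorem intCast_two {a b : ℤ} : ((a : ZMod 2) = (b : ZMod 2)) ↔ (2 : ℤ) ∣ b - a := by
  rw [ZMod.intCast_eq_intCast_iff_dvd_sub]; rfl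

theorem LikeLeech.code_orth (h : LikeLeech M) : ∀ v ∈ codeOf M, ∀ w ∈ codeOf M, ∑ i, v i * w i = 0 := by
  rintro _ ⟨u, rfl, hu⟩ _ ⟨w, rfl, hw⟩
  have h8 := h.dot _ hu _ hw
  have he : dotInt (fun k => 2 * u k) (fun k => 2 * w k) = 4 * ∑ k, u k * w k := by
    rw [dotInt, Finset.mul_sum]; exact Finset.sum_congr rfl fun k _ => by ring
  rw [he] at h8
  have : ((∑ k, u k * w k : ℤ) : ZMod 2) = 0 := by
    rw [← Int.cast_zero, intCast_two]; omega
  simpa [red2] using this

theorem LikeLeech.code_four (h : LikeLeech M) : ∀ c ∈ codeOf M, 4 ∣ hammingNorm c := by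
  rintro _ ⟨u, rfl, hu⟩
  have h16 := h.norm _ hu
  rw [sqNorm_mul_const] at h16
  have h4 := sum_sq_sub_weight u
  rw [show (2 : ℤ) ^ 2 = 4 by norm_num] at h16
  have : (4 : ℤ) ∣ (hammingNorm (red2 u) : ℤ) := by omega
  exact_mod_cast this

/-- zero-one lift -/
def lift01 (c : GolayPt → ZMod 2) : GolayPt → ℤ := fun k => if c k = 0 then 0 else 1

theorem red2_lift01 (c : GolayPt → ZMod 2) : red2 (lift01 c) = c := by
  funext k
  simp only [red2, lift01]
  rcases zmod2_cases (c k) with hk | hk <;> simp [hk]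

theorem sum_lift01_sq (c : GolayPt → ZMod 2) : ∑ k, lift01 c k ^ 2 = hammingNorm c := by
  simp only [lift01, hammingNorm]
  rw [Finset.sum_congr rfl fun k _ => show (if c k = 0 then (0 : ℤ) else 1) ^ 2 = if c k ≠ 0 then 1 else 0 by
    by_cases hk : c k = 0 <;> simp [hk], Finset.sum_boole]

theorem LikeLeech.code_min (h : LikeLeech M) : ∀ c ∈ codeOf M, c ≠ 0 → 8 ≤ hammingNorm c := by
  intro c hc h0
  obtain ⟨u, rfl, hu⟩ := hc
  set c := red2 u with hc
  by_contra hlt
  have hpos : hammingNorm c ≠ 0 := hammingNorm_ne_zero_iff.2 h0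
  have h4 := h.code_four c ⟨u, rfl, hu⟩
  have hwt : hammingNorm c = 4 := by omega
  have hdiv : ∀ k, (2 : ℤ) ∣ lift01 c k - u k := fun k => by
    rw [← intCast_two]; exact (congrFun (red2_lift01 c) k).symm
  choose w hw using hdiv
  obtain ⟨p, hp⟩ : ∃ p, c p ≠ 0 := Function.ne_iff.1 h0
  -- correct the sum by one sign
  set w' : GolayPt → ℤ := fun k => if (2 : ℤ) ∣ ∑ i, w i then w k else w k - unitVec p k
  have hw' : (2 : ℤ) ∣ ∑ k, w' k := by
    simp only [w']
    split_ifs with hh
    · exact hh
    · rw [Finset.sum_sub_distrib, sum_unitVec]; omega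
  have hm := M.add_mem hu ((h.four_mem_iff w').2 hw')
  have hm2 : (fun k => 2 * (u k + 2 * w' k)) ∈ M := by
    convert hm using 1; funext k; simp only [Pi.add_apply]; ring
  have hsq : ∀ k, (u k + 2 * w' k) ^ 2 = lift01 c k ^ 2 := fun k => by
    have := hw k
    simp only [w', unitVec]
    split_ifs with h1 h2
    · rw [show u k + 2 * w k = lift01 c k by omega]
    · subst h2
      have hl : lift01 c k = 1 := by simp [lift01, hp]
      rw [hl] at this ⊢
      rw [show u k + 2 * (w k - 1) = -1 by omega]; norm_num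
    · rw [show u k + 2 * (w k - 0) = lift01 c k by omega]
  have hne : (fun k => 2 * (u k + 2 * w' k)) ≠ 0 := fun e => by
    have h1 := congrFun e p
    have h2 := hsq p
    simp only [Pi.zero_apply, mul_eq_zero, OfNat.ofNat_ne_zero, false_or] at h1
    rw [h1] at h2
    simp [lift01, hp] at h2
  have h32 := h.min _ hm2 hne
  rw [sqNorm_mul_const] at h32
  simp only [hsq, sum_lift01_sq, hwt] at h32
  norm_num at h32

/-- vectors of minimal norm -/
def minVecs (M : AddSubgroup (GolayPt → ℤ)) : Set (GolayPt → ℤ) := {v | v ∈ M ∧ sqNorm v = 32}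

theorem weight_abs {a : ℤ} (h : a ^ 2 ≤ 32) : -5 ≤ a ∧ a ≤ 5 := by constructor <;> nlinarith

theorem LikeLeech.good (h : LikeLeech M) :
    GoodCode (codeOf M) ∧ ∃ v ∈ M, ∀ i, ¬ (2 : ℤ) ∣ v i := by
  classical
  set C := codeOf M with hC
  have hle12 : Module.finrank (ZMod 2) C ≤ 12 := by
    set φ := (dotProductEquiv (ZMod 2) GolayPt)
    have hmap : C.map φ.toLinearMap ≤ C.dualAnnihilator := by
      rintro _ ⟨v, hv, rfl⟩
      rw [Submodule.mem_dualAnnihilator]
      intro w hw
      simpa [φ, dotProduct] using h.code_orth v hv w hw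
    have h1 := Subspace.finrank_add_finrank_dualAnnihilator_eq (K := ZMod 2) C
    have h2 := Submodule.finrank_mono hmap
    rw [LinearEquiv.finrank_map_eq] at h2
    rw [Module.finrank_pi, card_golayPt] at h1
    omega
  have hcardC : Nat.card C = 2 ^ Module.finrank (ZMod 2) C := by
    rw [Module.natCard_eq_pow_finrank (K := ZMod 2), Nat.card_zmod]
  let Cf : Finset (GolayPt → ZMod 2) := univ.filter (· ∈ C)
  have hCf : Cf.card = Nat.card C := by
    rw [Nat.card_eq_fintype_card, Fintype.card_subtype]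
  let O8 : Finset (Finset GolayPt) := (Cf.filter fun c => hammingNorm c = 8).image support₂
  have hO8 : ∀ O ∈ O8, O.card = 8 ∧ indic O ∈ C := by
    intro O hO
    simp only [O8, Cf, Finset.mem_image, Finset.mem_filter, Finset.mem_univ, true_and] at hO
    obtain ⟨c, ⟨hc, hw⟩, rfl⟩ := hO
    refine ⟨by rw [← hammingNorm_eq_card, hw], ?_⟩
    rwa [eq_of_support₂_eq (support₂_indic (support₂ c))]
  have hA8 : O8.card ≤ 759 := by
    have hdisj : (O8 : Set (Finset GolayPt)).PairwiseDisjoint fun O => O.powersetCard 5 := by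
      intro O hO O' hO' hne
      refine Finset.disjoint_left.2 fun S hS hS' => ?_
      rw [Finset.mem_powersetCard] at hS hS'
      have hcard := Finset.card_le_card (Finset.subset_inter hS.1 hS'.1)
      have hm := C.add_mem (hO8 O hO).2 (hO8 O' hO').2
      have hne0 : indic O + indic O' ≠ 0 := fun e => hne (by
        rw [← support₂_indic O, ← support₂_indic O', show indic O = indic O' from by
          rw [← sub_eq_zero, sub_eq_add2]; exact e])
      have hw := h.code_min _ hm hne0
      have hsum := weight_add (indic O) (indic O')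
      simp only [hammingNorm_eq_card, support₂_indic] at hsum hw
      have := (hO8 O hO).1; have := (hO8 O' hO').1
      omega
    have h1 := Finset.card_biUnion hdisj
    have h2 : (O8.biUnion fun O => O.powersetCard 5).card ≤
        ((univ : Finset GolayPt).powersetCard 5).card := Finset.card_le_card fun S hS => by
      obtain ⟨O, -, hS⟩ := Finset.mem_biUnion.1 hS
      rw [Finset.mem_powersetCard] at hS ⊢
      exact ⟨Finset.subset_univ _, hS.2⟩
    rw [h1, Finset.sum_congr rfl fun O hO => by rw [Finset.card_powersetCard, (hO8 O hO).1],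
      Finset.sum_const, Finset.card_powersetCard, Finset.card_univ, card_golayPt, smul_eq_mul,
      show Nat.choose 8 5 = 56 from rfl, show Nat.choose 24 5 = 42504 from by decide] at h2
    omega
  have hfin : (minVecs M).Finite := Set.finite_of_ncard_ne_zero (by
    show {v | v ∈ M ∧ sqNorm v = 32}.ncard ≠ 0
    rw [h.count]; norm_num)
  have hb : ∀ v ∈ minVecs M, ∀ i, -5 ≤ v i ∧ v i ≤ 5 := fun v hv i => weight_abs (by
    rw [← hv.2]; exact Finset.single_le_sum (fun k _ => sq_nonneg (v k)) (Finset.mem_univ i))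
  set Sev := {v | v ∈ minVecs M ∧ ∀ i, (2 : ℤ) ∣ v i}
  set Sodd := {v | v ∈ minVecs M ∧ ∀ i, ¬ (2 : ℤ) ∣ v i}
  have hsplit : minVecs M ⊆ Sev ∪ Sodd := fun v hv => by
    by_cases h0 : (2 : ℤ) ∣ v none
    · exact Or.inl ⟨hv, fun i => by have := h.par v hv.1 i none; omega⟩
    · exact Or.inr ⟨hv, fun i => by have := h.par v hv.1 i none; omega⟩
  set S0 := {v | v ∈ Sev ∧ red2 (fun k => v k / 2) = 0}
  set S8 := {v | v ∈ Sev ∧ red2 (fun k => v k / 2) ≠ 0}
  have hSev : Sev = S0 ∪ S8 := by ext v; simp only [S0, S8, Set.mem_union, Set.mem_ofPred_eq]; tauto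
  have hev : ∀ v ∈ Sev, (fun k => 2 * (v k / 2)) = v ∧ ∑ k, (v k / 2) ^ 2 = 8 := by
    intro v hv
    have e : (fun k => 2 * (v k / 2)) = v := funext fun k => Int.mul_ediv_cancel' (hv.2 k)
    have h32 := hv.1.2
    rw [← e, sqNorm_mul_const] at h32
    exact ⟨e, by omega⟩
  -- first shape
  let D4 : Finset (GolayPt → ℤ) := (((univ : Finset GolayPt).powersetCard 2).biUnion fun s =>
    s.powerset.image fun t => fun k => if k ∈ t then 4 else if k ∈ s then -4 else 0)
  have hS0 : S0 ⊆ D4 := by
    intro v hv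
    have e := (hev v hv.1).1
    have h8 := (hev v hv.1).2
    have hd : ∀ k, (2 : ℤ) ∣ v k / 2 := fun k => by
      have := congrFun hv.2 k
      simp only [red2, Pi.zero_apply, ← Int.cast_zero (R := ZMod 2), intCast_two] at this
      omega
    have hq : ∀ k, v k = 4 * (v k / 4) ∧ -1 ≤ v k / 4 ∧ v k / 4 ≤ 1 := fun k => by
      have := hb v hv.1.1 k; have := hd k; have := hv.1.2 k; omega
    have hcard : ((univ : Finset GolayPt).filter fun k => v k ≠ 0).card = 2 := by
      have hsq : ∀ k, (v k / 2) ^ 2 = if v k ≠ 0 then 4 else 0 := fun k => by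
        obtain ⟨h1, h2, h3⟩ := hq k
        generalize v k / 4 = q at h1 h2 h3
        interval_cases q <;> simp [h1]
      simp only [hsq, Finset.sum_ite, Finset.sum_const_zero, add_zero, Finset.sum_const,
        nsmul_eq_mul] at h8
      omega
    simp only [D4, Finset.mem_coe, Finset.mem_biUnion, Finset.mem_powersetCard, Finset.mem_image,
      Finset.mem_powerset]
    refine ⟨_, ⟨Finset.subset_univ _, hcard⟩, univ.filter fun k => v k = 4, ?_, ?_⟩
    · intro k; simp; omega
    · funext k
      obtain ⟨h1, h2, h3⟩ := hq k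
      simp only [Finset.mem_filter, Finset.mem_univ, true_and]
      split_ifs <;> omega
  have hD4 : D4.card ≤ 1104 := by
    refine Finset.card_biUnion_le.trans ?_
    refine (Finset.sum_le_card_nsmul _ _ 4 fun s hs => ?_).trans ?_
    · refine Finset.card_image_le.trans ?_
      rw [Finset.card_powerset, (Finset.mem_powersetCard.1 hs).2]
      norm_num
    · rw [Finset.card_powersetCard, Finset.card_univ, card_golayPt]
      decide
  -- second shape
  have hpick : ∀ O : Finset GolayPt, ∃ p, O.Nonempty → p ∈ O := fun O => by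
    by_cases hO : O.Nonempty
    · exact ⟨hO.choose, fun _ => hO.choose_spec⟩
    · exact ⟨none, fun h' => absurd h' hO⟩
  choose pick hpick using hpick
  let T8 : Finset (Σ _ : Finset GolayPt, Finset GolayPt) := O8.sigma fun O => (O.erase (pick O)).powerset
  let f8 : (GolayPt → ℤ) → (Σ _ : Finset GolayPt, Finset GolayPt) := fun v =>
    ⟨support₂ (red2 fun k => v k / 2),
      ((support₂ (red2 fun k => v k / 2)).erase (pick (support₂ (red2 fun k => v k / 2)))).filter
        fun k => 0 < v k⟩
  have hshape : ∀ v ∈ S8, hammingNorm (red2 fun k => v k / 2) = 8 ∧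
      (∀ k, (k ∈ support₂ (red2 fun k => v k / 2) → v k = 2 ∨ v k = -2) ∧
        (k ∉ support₂ (red2 fun k => v k / 2) → v k = 0)) := by
    intro v hv
    obtain ⟨e, h8⟩ := hev v hv.1
    have hmemC : (red2 fun k => v k / 2) ∈ C := mem_codeOf.2 ⟨_, rfl, by rw [e]; exact hv.1.1.1⟩
    have h1 := h.code_min _ hmemC hv.2
    have h2 := weight_le_sum_sq fun k => v k / 2
    rw [h8] at h2
    have hwt : hammingNorm (red2 fun k => v k / 2) = 8 := by omega
    refine ⟨hwt, ?_⟩
    have hzero : ∑ k, ((v k / 2) ^ 2 -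
        if (red2 fun k => v k / 2) k ≠ 0 then (1 : ℤ) else 0) = 0 := by
      rw [Finset.sum_sub_distrib, h8, Finset.sum_boole]
      have : hammingNorm (red2 fun k => v k / 2) =
        ((univ : Finset GolayPt).filter fun k => (red2 fun k => v k / 2) k ≠ 0).card := rfl
      omega
    intro k
    have hnn : ∀ k, 0 ≤ (v k / 2) ^ 2 - if (red2 fun k => v k / 2) k ≠ 0 then (1 : ℤ) else 0 := by
      intro k
      split_ifs with hk
      · simp only [red2, ne_eq, ← Int.cast_zero (R := ZMod 2), intCast_two] at hk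
        have : v k / 2 ≠ 0 := fun e => hk (by rw [e]; norm_num)
        have := pow_pos (abs_pos.2 this) 2
        rw [sq_abs] at this
        omega
      · have := sq_nonneg (v k / 2); omega
    have hk0 := (Finset.sum_eq_zero_iff_of_nonneg fun k _ => hnn k).1 hzero k (Finset.mem_univ k)
    rw [mem_support₂]
    have hev2 := hv.1.2 k
    rcases zmod2_cases ((red2 fun k => v k / 2) k) with hk | hk
    · rw [if_neg (not_not.2 hk)] at hk0
      have : v k / 2 = 0 := pow_eq_zero_iff (n := 2) (by norm_num) |>.1 (by omega)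
      exact ⟨fun h1 => by rw [hk] at h1; exact absurd h1 (by decide), fun _ => by omega⟩
    · rw [if_pos (by rw [hk]; decide)] at hk0
      refine ⟨fun _ => ?_, fun h1 => absurd hk h1⟩
      rcases sq_eq_one_iff.1 (by omega : (v k / 2) ^ 2 = 1) with h1 | h1 <;> omega
  have hf8 : ∀ v ∈ S8, f8 v ∈ T8 := by
    intro v hv
    have hmemC : (red2 fun k => v k / 2) ∈ C :=
      mem_codeOf.2 ⟨_, rfl, by rw [(hev v hv.1).1]; exact hv.1.1.1⟩
    simp only [T8, f8, Finset.mem_sigma, Finset.mem_powerset]
    refine ⟨Finset.mem_image_of_mem _ ?_, Finset.filter_subset _ _⟩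
    simp [Cf, hmemC, (hshape v hv).1]
  have hf8inj : ∀ v ∈ S8, ∀ w ∈ S8, f8 v = f8 w → v = w := by
    intro v hv w hw e
    simp only [f8, Sigma.mk.injEq, heq_eq_eq] at e
    obtain ⟨e1, e2⟩ := e
    rw [← e1] at e2
    set O := support₂ (red2 fun k => v k / 2)
    have hv2 := (hshape v hv).2
    have hw2 := (hshape w hw).2
    rw [← e1] at hw2
    have hoff : ∀ k, k ≠ pick O → v k = w k := fun k hk => by
      by_cases hkO : k ∈ O
      · have e3 := Finset.ext_iff.1 e2 k
        simp only [Finset.mem_filter, Finset.mem_erase, ne_eq, hk, not_false_eq_true, hkO,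
          and_self, true_and] at e3
        rcases (hv2 k).1 hkO with a | a <;> rcases (hw2 k).1 hkO with b | b <;> omega
      · rw [(hv2 k).2 hkO, (hw2 k).2 hkO]
    by_contra hne
    have hp : v (pick O) ≠ w (pick O) := fun h' => hne (funext fun k => by
      by_cases hk : k = pick O
      · rw [hk, h']
      · exact hoff k hk)
    have hne' : O.Nonempty := Finset.card_pos.1 (by
      rw [← hammingNorm_eq_card, (hshape v hv).1]; norm_num)
    refine h.four_not_mem (pick O) ?_
    rcases (hv2 _).1 (hpick O hne') with a | a <;> rcases (hw2 _).1 (hpick O hne') with b | b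
    · exact absurd (a.trans b.symm) hp
    · convert M.sub_mem hv.1.1.1 hw.1.1.1 using 1
      funext k
      by_cases hk : k = pick O
      · subst hk; simp [unitVec, a, b]
      · simp [unitVec, hk, hoff k hk]
    · convert M.sub_mem hw.1.1.1 hv.1.1.1 using 1
      funext k
      by_cases hk : k = pick O
      · subst hk; simp [unitVec, a, b]
      · simp [unitVec, hk, hoff k hk]
    · exact absurd (a.trans b.symm) hp
  have hT8 : T8.card ≤ 97152 := by
    rw [Finset.card_sigma]
    refine (Finset.sum_le_card_nsmul _ _ 128 fun O hO => ?_).trans ?_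
    · rw [Finset.card_powerset, Finset.card_erase_of_mem
        (hpick O (Finset.card_pos.1 (by rw [(hO8 O hO).1]; norm_num))), (hO8 O hO).1]
      norm_num
    · rw [smul_eq_mul]; omega
  have hn0 : S0.ncard ≤ 1104 := by
    have := Set.ncard_le_ncard hS0 (Finset.finite_toSet _)
    rw [Set.ncard_coe_finset] at this
    omega
  have hn8 : S8.ncard ≤ 97152 := by
    have := Set.ncard_le_ncard_of_injOn f8 (s := S8) (t := (T8 : Set _)) hf8 hf8inj (Finset.finite_toSet _)
    rw [Set.ncard_coe_finset] at this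
    omega
  have hcount : 196560 ≤ S0.ncard + S8.ncard + Sodd.ncard := by
    have hf : (Sev ∪ Sodd).Finite := hfin.subset fun v hv => hv.elim (fun x => x.1) fun x => x.1
    have h1 := Set.ncard_le_ncard hsplit hf
    rw [show (minVecs M).ncard = 196560 from h.count] at h1
    have h2 := Set.ncard_union_le Sev Sodd
    rw [hSev] at h2 h1
    have h3 := Set.ncard_union_le S0 S8
    omega
  have hne : Sodd.Nonempty := Set.nonempty_of_ncard_ne_zero (by omega)
  obtain ⟨v0, hv0⟩ := hne
  -- third shape
  have hbig : ∀ v ∈ Sodd, ∃ p, (v p = 3 ∨ v p = -3) ∧ ∀ k, k ≠ p → v k = 1 ∨ v k = -1 := by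
    intro v hv
    have hsum : ∑ k, (v k ^ 2 - 1) = 8 := by
      rw [Finset.sum_sub_distrib, show ∑ k, v k ^ 2 = 32 from hv.1.2]
      simp
    have hval : ∀ k, v k ^ 2 - 1 = 0 ∧ (v k = 1 ∨ v k = -1) ∨
        v k ^ 2 - 1 = 8 ∧ (v k = 3 ∨ v k = -3) ∨ v k ^ 2 - 1 = 24 := fun k => by
      obtain ⟨h1, h2⟩ := hb v hv.1 k
      have h3 := hv.2 k
      generalize v k = x at h1 h2 h3 ⊢
      interval_cases x <;> simp_all
    obtain ⟨p, hp⟩ : ∃ p, v p ^ 2 - 1 ≠ 0 := by
      by_contra hh
      push Not at hh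
      rw [Finset.sum_eq_zero fun k _ => hh k] at hsum
      norm_num at hsum
    have hle : ∀ k, k ≠ p → v k ^ 2 - 1 + (v p ^ 2 - 1) ≤ 8 := fun k hk => by
      rw [← hsum, ← Finset.sum_pair (f := fun k => v k ^ 2 - 1) hk]
      refine Finset.sum_le_sum_of_subset_of_nonneg (Finset.subset_univ _) fun i _ _ => ?_
      rcases hval i with a | a | a <;> omega
    have hp8 : v p ^ 2 - 1 ≤ 8 := by
      rw [← hsum]
      refine Finset.single_le_sum (f := fun k => v k ^ 2 - 1) (fun i _ => ?_) (Finset.mem_univ p)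
      rcases hval i with a | a | a <;> omega
    refine ⟨p, ?_, fun k hk => ?_⟩
    · rcases hval p with a | a | a
      · exact absurd a.1 hp
      · exact a.2
      · omega
    · have := hle k hk
      rcases hval p with a | a | a <;> rcases hval k with b | b | b <;> first | exact b.2 | omega
  choose! pos hpos using hbig
  let fo : (GolayPt → ℤ) → GolayPt × (GolayPt → ZMod 2) := fun v => (pos v, red2 fun k => (v k - v0 k) / 2)
  have hfo : ∀ v ∈ Sodd, fo v ∈ ((univ : Finset GolayPt) ×ˢ Cf : Finset _) := by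
    intro v hv
    simp only [fo, Cf, Finset.mem_product, Finset.mem_univ, Finset.mem_filter, true_and]
    refine mem_codeOf.2 ⟨_, rfl, ?_⟩
    convert M.sub_mem hv.1.1 hv0.1.1 using 1
    funext k
    have := hv.2 k; have := hv0.2 k
    simp only [Pi.sub_apply]; omega
  have hfoinj : ∀ v ∈ Sodd, ∀ w ∈ Sodd, fo v = fo w → v = w := by
    intro v hv w hw e
    simp only [fo, Prod.mk.injEq] at e
    funext k
    have e2 := congrFun e.2 k
    simp only [red2, intCast_two] at e2
    have := hv.2 k; have := hw.2 k; have := hv0.2 k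
    by_cases hk : k = pos v
    · subst hk
      have h1 := (hpos v hv).1
      have h2 := (hpos w hw).1
      rw [← e.1] at h2
      omega
    · have h1 := (hpos v hv).2 k hk
      have h2 := (hpos w hw).2 k (e.1 ▸ hk)
      omega
  have hnodd : Sodd.ncard ≤ 24 * Nat.card C := by
    have := Set.ncard_le_ncard_of_injOn fo (s := Sodd)
      (t := (((univ : Finset GolayPt) ×ˢ Cf : Finset _) : Set _)) hfo hfoinj (Finset.finite_toSet _)
    rw [Set.ncard_coe_finset, Finset.card_product, Finset.card_univ, card_golayPt, hCf] at this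
    exact this
  have hdim : Module.finrank (ZMod 2) C = 12 := by
    by_contra hne
    have : 2 ^ Module.finrank (ZMod 2) C ≤ 2 ^ 11 := Nat.pow_le_pow_right (by norm_num) (by omega)
    rw [hcardC] at hnodd
    omega
  exact ⟨⟨card_golayPt, hdim, h.code_orth, h.code_four, h.code_min⟩, v0, hv0.1.1, hv0.2⟩

/-! moving along coordinates -/

/-- permute and negate coordinates -/
def monoMap (σ : Equiv.Perm GolayPt) (d : GolayPt → ZMod 2) :
    (GolayPt → ℤ) ≃+ (GolayPt → ℤ) where
  toFun x := negOn d fun k => x (σ k)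
  invFun y := fun k => negOn d y (σ.symm k)
  left_inv x := by funext k; simp [negOn_negOn]
  right_inv y := by
    funext k
    simp only [Equiv.symm_apply_apply]
    rw [negOn_negOn]
  map_add' x y := by funext k; simp only [negOn, Pi.add_apply]; split_ifs <;> ring

theorem monoMap_apply (σ : Equiv.Perm GolayPt) (d : GolayPt → ZMod 2) (x : GolayPt → ℤ) (k : GolayPt) :
    monoMap σ d x k = if d k = 0 then x (σ k) else -x (σ k) := rfl

theorem dot_monoMap (σ : Equiv.Perm GolayPt) (d : GolayPt → ZMod 2) (x y : GolayPt → ℤ) :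
    dotInt (monoMap σ d x) (monoMap σ d y) = dotInt x y := by
  refine Fintype.sum_equiv σ _ _ fun k => ?_
  simp only [monoMap_apply]; split_ifs <;> ring

theorem norm_monoMap (σ : Equiv.Perm GolayPt) (d : GolayPt → ZMod 2) (x : GolayPt → ℤ) :
    sqNorm (monoMap σ d x) = sqNorm x := by
  refine Fintype.sum_equiv σ _ _ fun k => ?_
  simp only [monoMap_apply]; split_ifs <;> ring

theorem LikeLeech.move (h : LikeLeech M) (σ : Equiv.Perm GolayPt) (d : GolayPt → ZMod 2) :
    LikeLeech (M.map (monoMap σ d).toAddMonoidHom) where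
  dot := by
    rintro _ ⟨v, hv, rfl⟩ _ ⟨w, hw, rfl⟩
    show (8 : ℤ) ∣ dotInt (monoMap σ d v) (monoMap σ d w)
    rw [dot_monoMap]; exact h.dot v hv w hw
  norm := by
    rintro _ ⟨v, hv, rfl⟩
    show (16 : ℤ) ∣ sqNorm (monoMap σ d v)
    rw [norm_monoMap]; exact h.norm v hv
  min := by
    rintro _ ⟨v, hv, rfl⟩ h0
    show 32 ≤ sqNorm (monoMap σ d v)
    rw [norm_monoMap]
    exact h.min v hv fun e => h0 (by simp [e])
  pair := by
    intro i j hij
    have key : ∀ a b : ℤ, (a = 1 ∨ a = -1) → (b = 1 ∨ b = -1) →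
        (fun k => 4 * (a * unitVec (σ i) k + b * unitVec (σ j) k)) ∈ M := by
      intro a b ha hb
      obtain ⟨h1, h2⟩ := h.pair (σ i) (σ j) (σ.injective.ne hij)
      rcases ha with rfl | rfl <;> rcases hb with rfl | rfl
      · convert h1 using 1; funext k; simp [unitVec]
      · convert h2 using 1; funext k; simp only [unitVec]; ring
      · convert M.neg_mem h2 using 1; funext k; simp only [unitVec, Pi.neg_apply]; ring
      · convert M.neg_mem h1 using 1; funext k; simp only [unitVec, Pi.neg_apply]; ring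
    let sg : GolayPt → ℤ := fun k => if d k = 0 then 1 else -1
    have hsg : ∀ k, sg k = 1 ∨ sg k = -1 := fun k => by by_cases hk : d k = 0 <;> simp [sg, hk]
    constructor
    · refine ⟨_, key (sg i) (sg j) (hsg i) (hsg j), ?_⟩
      funext k
      show monoMap σ d _ k = _
      simp only [monoMap_apply, unitVec, σ.injective.eq_iff, sg]
      rcases eq_or_ne k i with rfl | hi
      · by_cases hd : d k = 0 <;> simp [hd, hij]
      · rcases eq_or_ne k j with rfl | hj
        · by_cases hd : d k = 0 <;> simp [hd, hi]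
        · simp [hi, hj]
    · refine ⟨_, key (sg i) (-sg j) (hsg i) (by have := hsg j; omega), ?_⟩
      funext k
      show monoMap σ d _ k = _
      simp only [monoMap_apply, unitVec, σ.injective.eq_iff, sg]
      rcases eq_or_ne k i with rfl | hi
      · by_cases hd : d k = 0 <;> simp [hd, hij]
      · rcases eq_or_ne k j with rfl | hj
        · by_cases hd : d k = 0 <;> simp [hd, hi]
        · simp [hi, hj]
  par := by
    rintro _ ⟨v, hv, rfl⟩ i j
    show (2 : ℤ) ∣ monoMap σ d v i - monoMap σ d v j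
    have := h.par v hv (σ i) (σ j)
    simp only [monoMap_apply]; split_ifs <;> omega
  count := by
    rw [← h.count, ← Set.ncard_image_of_injective {v | v ∈ M ∧ sqNorm v = 32} (monoMap σ d).injective]
    congr 1
    ext w
    constructor
    · rintro ⟨⟨v, hv, rfl⟩, hw⟩
      exact ⟨v, ⟨hv, (norm_monoMap σ d v).symm.trans hw⟩, rfl⟩
    · rintro ⟨v, ⟨hv, hn⟩, rfl⟩
      exact ⟨⟨v, hv, rfl⟩, (norm_monoMap σ d v).trans hn⟩

theorem code_monoMap (σ : Equiv.Perm GolayPt) (d : GolayPt → ZMod 2) :
    codeOf (M.map (monoMap σ d).toAddMonoidHom) = moveCode σ.symm (codeOf M) := by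
  have hneg : ∀ a : ℤ, ((-a : ℤ) : ZMod 2) = (a : ZMod 2) := fun a => by
    rw [intCast_two]; omega
  ext c
  rw [mem_moveCode]
  constructor
  · rintro ⟨u, rfl, v, hv, e⟩
    refine ⟨fun k => negOn d u (σ.symm k), ?_, ?_⟩
    · funext k
      simp only [red2, negOn]
      split_ifs <;> simp [hneg]
    · suffices h' : (fun k => 2 * negOn d u (σ.symm k)) = v by rw [h']; exact hv
      apply (monoMap σ d).injective
      rw [show monoMap σ d v = _ from e]
      funext k
      simp only [monoMap_apply, Equiv.symm_apply_apply, negOn]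
      split_ifs <;> ring
  · rintro ⟨u, hu, hm⟩
    refine ⟨negOn d fun k => u (σ k), ?_, ⟨_, hm, ?_⟩⟩
    · funext k
      have := congrFun hu (σ k)
      simp only [red2, Equiv.symm_apply_apply] at this
      simp only [red2, negOn]
      split_ifs <;> simp [hneg, this]
    · funext k
      show monoMap σ d _ k = _
      simp only [monoMap_apply, negOn]
      split_ifs <;> ring

/-- the final step: with the standard code and the parity of sums -/
theorem LikeLeech.eq_leech (h : LikeLeech M) (hC : codeOf M = golayCode)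
    (hsum : ∀ u : GolayPt → ℤ, (fun k => 2 * u k) ∈ M → (4 : ℤ) ∣ ∑ k, u k) : M = leechLattice := by
  obtain ⟨hgood, v0, hv0, hodd⟩ := h.good
  let y : GolayPt → ℤ := fun k => (v0 k - 1) / 2
  have hy : ∀ k, v0 k = 1 + 2 * y k := fun k => by have := hodd k; simp only [y]; omega
  have hyC : red2 y ∈ golayCode := by
    rw [← hC]
    refine hgood.self_dual fun c hc => ?_
    obtain ⟨u, rfl, hu⟩ := mem_codeOf.1 hc
    have h8 := h.dot _ hu _ hv0
    have he : dotInt (fun k => 2 * u k) v0 = 2 * ∑ k, u k + 4 * ∑ k, u k * y k := by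
      rw [dotInt, Finset.mul_sum, Finset.mul_sum, ← Finset.sum_add_distrib]
      exact Finset.sum_congr rfl fun k _ => by rw [hy k]; ring
    rw [he] at h8
    have := hsum u hu
    have : ((∑ k, u k * y k : ℤ) : ZMod 2) = 0 := by
      rw [← Int.cast_zero, intCast_two]; omega
    simpa [red2] using this
  have hys : (4 : ℤ) ∣ ∑ k, y k - 2 := by
    have h16 := h.norm _ hv0
    have he : sqNorm v0 = 24 + 4 * ∑ k, y k + 4 * ∑ k, y k ^ 2 := by
      rw [sqNorm, Finset.mul_sum, Finset.mul_sum, show (24 : ℤ) = ∑ _k : GolayPt, (1 : ℤ) by simp,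
        ← Finset.sum_add_distrib, ← Finset.sum_add_distrib]
      exact Finset.sum_congr rfl fun k _ => by rw [hy k]; ring
    rw [he] at h16
    have h4 := sum_sq_sub_weight y
    have h5 : (4 : ℤ) ∣ (hammingNorm (red2 y) : ℤ) := by exact_mod_cast four_dvd_weight hyC
    omega
  have hv0L : v0 ∈ leechLattice := by
    refine mem_lattice_iff.2 ⟨1, y, hy, ?_, hyC⟩
    simp only [hy, Finset.sum_add_distrib, ← Finset.mul_sum, Finset.sum_const, Finset.card_univ,
      card_golayPt, nsmul_eq_mul, Nat.cast_ofNat]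
    omega
  have hevenL : ∀ v ∈ M, (∀ k, (2 : ℤ) ∣ v k) → v ∈ leechLattice := by
    intro v hv hev
    choose u hu using hev
    have hm : (fun k => 2 * u k) ∈ M := by convert hv using 1; funext k; exact (hu k).symm
    refine mem_lattice_iff.2 ⟨0, u, fun k => by rw [hu k]; ring, ?_, ?_⟩
    · have := hsum u hm
      simp only [hu, ← Finset.mul_sum]; omega
    · rw [← hC]; exact mem_codeOf.2 ⟨u, rfl, hm⟩
  have hevenM : ∀ x ∈ leechLattice, (∀ k, (2 : ℤ) ∣ x k) → x ∈ M := by
    intro x hx hev
    obtain ⟨m, z, hz, h8, hzC⟩ := mem_lattice_iff.1 hx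
    obtain ⟨n, hn⟩ : (2 : ℤ) ∣ m := by have := hev none; have := hz none; omega
    let u : GolayPt → ℤ := fun k => n + z k
    have hu : ∀ k, x k = 2 * u k := fun k => by rw [hz k, hn]; simp only [u]; ring
    have huC : red2 u ∈ codeOf M := by
      rw [hC, show red2 u = (n : ZMod 2) • (1 : GolayPt → ZMod 2) + red2 z by
        funext k; simp [red2, u]]
      exact add_mem (golayCode.smul_mem _ Leech.one_mem) hzC
    obtain ⟨u', hu', hm⟩ := mem_codeOf.1 huC
    have hd : ∀ k, (2 : ℤ) ∣ u k - u' k := fun k => intCast_two.1 (congrFun hu' k)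
    choose w hw using hd
    have hw2 : (2 : ℤ) ∣ ∑ k, w k := by
      have h1 := hsum u' hm
      have h2 : ∑ k, u k = ∑ k, u' k + 2 * ∑ k, w k := by
        rw [Finset.mul_sum, ← Finset.sum_add_distrib]
        exact Finset.sum_congr rfl fun k _ => by have := hw k; omega
      have h3 : ∑ k, x k = 2 * ∑ k, u k := by simp only [hu, Finset.mul_sum]
      omega
    convert M.add_mem hm ((h.four_mem_iff w).2 hw2) using 1
    funext k
    have := hw k; have := hu k
    simp only [Pi.add_apply]; omega
  ext x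
  constructor
  · intro hx
    by_cases h0 : (2 : ℤ) ∣ x none
    · exact hevenL x hx fun k => by have := h.par x hx k none; omega
    · have := hevenL (x - v0) (M.sub_mem hx hv0) fun k => by
        have := h.par x hx k none; have := hodd k; simp only [Pi.sub_apply]; omega
      simpa using leechLattice.add_mem this hv0L
  · intro hx
    obtain ⟨m, z, hz, -, -⟩ := mem_lattice_iff.1 hx
    by_cases h0 : (2 : ℤ) ∣ m
    · exact hevenM x hx fun k => by have := hz k; omega
    · have := hevenM (x - v0) (leechLattice.sub_mem hx hv0L) fun k => by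
        have := hz k; have := hodd k; simp only [Pi.sub_apply]; omega
      simpa using M.add_mem this hv0

/-- main statement about coordinates -/
theorem LikeLeech.exists_mono (h : LikeLeech M) :
    ∃ σ d, M.map (monoMap σ d).toAddMonoidHom = leechLattice := by
  obtain ⟨e, he⟩ := code_unique h.good.1 golay_good
  set M1 := M.map (monoMap e.symm 0).toAddMonoidHom with hM1
  have h1 : LikeLeech M1 := h.move _ _
  have hC1 : codeOf M1 = golayCode := by rw [hM1, code_monoMap]; exact he
  have hgood := h1.good.1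
  -- the parity functional
  have hex : ∀ c : codeOf M1, ∃ u : GolayPt → ℤ, red2 u = c ∧ (fun k => 2 * u k) ∈ M1 :=
    fun c => mem_codeOf.1 c.2
  choose U hU1 hU2 using hex
  have heven : ∀ u : GolayPt → ℤ, (fun k => 2 * u k) ∈ M1 → (2 : ℤ) ∣ ∑ k, u k := by
    intro u hu
    have h4 := h1.code_four _ (mem_codeOf.2 ⟨u, rfl, hu⟩)
    have h2 := two_dvd_sum_sub_sq u
    have h3 := sum_sq_sub_weight u
    omega
  have hwd : ∀ u u' : GolayPt → ℤ, red2 u = red2 u' → (fun k => 2 * u k) ∈ M1 →
      (fun k => 2 * u' k) ∈ M1 → (((∑ k, u k) / 2 : ℤ) : ZMod 2) = (((∑ k, u' k) / 2 : ℤ) : ZMod 2) := by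
    intro u u' he hu hu'
    have hd : ∀ k, (2 : ℤ) ∣ u' k - u k := fun k => intCast_two.1 (congrFun he k)
    choose w hw using hd
    have hw2 : (2 : ℤ) ∣ ∑ k, w k := (h1.four_mem_iff w).1 (by
      convert M1.sub_mem hu' hu using 1
      funext k; have := hw k; simp only [Pi.sub_apply]; omega)
    have h2 : ∑ k, u' k = ∑ k, u k + 2 * ∑ k, w k := by
      rw [Finset.mul_sum, ← Finset.sum_add_distrib]
      exact Finset.sum_congr rfl fun k _ => by have := hw k; omega
    rw [intCast_two]
    have := heven u hu; have := heven u' hu'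
    omega
  let f : codeOf M1 →+ ZMod 2 := AddMonoidHom.mk' (fun c => (((∑ k, U c k) / 2 : ℤ) : ZMod 2)) (by
    intro a b
    have hm : (fun k => 2 * (U a + U b) k) ∈ M1 := by
      convert M1.add_mem (hU2 a) (hU2 b) using 1
      funext k; simp only [Pi.add_apply]; ring
    show _ = _ + _
    rw [hwd (U (a + b)) (U a + U b) (by rw [red2_add, hU1, hU1, hU1]; rfl) (hU2 _) hm,
      ← Int.cast_add, show ∑ k, (U a + U b) k = ∑ k, U a k + ∑ k, U b k from Finset.sum_add_distrib,
      Int.add_ediv_of_dvd_left (heven _ (hU2 a))])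
  obtain ⟨g, hg⟩ := LinearMap.exists_extend (f.toZModLinearMap 2)
  obtain ⟨d, hd⟩ : ∃ d : GolayPt → ZMod 2, ∀ c ∈ codeOf M1, g c = ∑ i, c i * d i := by
    refine ⟨fun i => g (Pi.single i 1), fun c _ => ?_⟩
    conv_lhs => rw [pi_eq_sum_univ' c]
    rw [map_sum]
    exact Finset.sum_congr rfl fun i _ => by rw [map_smul, smul_eq_mul]
  have hfg : ∀ u : GolayPt → ℤ, (hu : (fun k => 2 * u k) ∈ M1) →
      (((∑ k, u k) / 2 : ℤ) : ZMod 2) = ∑ i, (u i : ZMod 2) * d i := by
    intro u hu
    have hc : red2 u ∈ codeOf M1 := mem_codeOf.2 ⟨u, rfl, hu⟩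
    rw [hwd u (U ⟨_, hc⟩) (hU1 ⟨_, hc⟩).symm hu (hU2 _)]
    have := LinearMap.congr_fun hg ⟨_, hc⟩
    exact this.symm.trans (hd _ hc)
  set M2 := M1.map (monoMap (Equiv.refl _) d).toAddMonoidHom with hM2
  have h2 : LikeLeech M2 := h1.move _ _
  refine ⟨e.symm, d, ?_⟩
  have hcomp : M.map (monoMap e.symm d).toAddMonoidHom = M2 := by
    rw [hM2, hM1, AddSubgroup.map_map]
    congr 1
  rw [hcomp]
  refine h2.eq_leech ?_ ?_
  · rw [hM2, code_monoMap, hC1]
    ext v; rw [mem_moveCode]; rfl
  · intro u hu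
    obtain ⟨v, hv, e'⟩ := hu
    have hvk : ∀ k, v k = if d k = 0 then 2 * u k else -(2 * u k) := fun k => by
      have : monoMap (Equiv.refl _) d v k = 2 * u k := congrFun e' k
      rw [monoMap_apply] at this
      simp only [Equiv.refl_apply] at this
      split_ifs at this ⊢ <;> omega
    let u1 : GolayPt → ℤ := fun k => if d k = 0 then u k else -u k
    have hm : (fun k => 2 * u1 k) ∈ M1 := by
      suffices h' : (fun k => 2 * u1 k) = v by rw [h']; exact hv
      funext k; rw [hvk k]; simp only [u1]; split_ifs <;> ring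
    have h3 := heven u1 hm
    have h4 := hfg u1 hm
    have h5 : ∑ i, (u1 i : ZMod 2) * d i = ((∑ k, if d k = 0 then 0 else u k : ℤ) : ZMod 2) := by
      rw [Int.cast_sum]
      refine Finset.sum_congr rfl fun i _ => ?_
      rcases zmod2_cases (d i) with hi | hi
      · simp [hi]
      · simp only [u1, hi, mul_one, one_ne_zero, if_false]
        rw [intCast_two]; omega
    rw [h5, intCast_two] at h4
    have h6 : ∑ k, u k = ∑ k, u1 k + 2 * ∑ k, (if d k = 0 then 0 else u k) := by
      rw [Finset.mul_sum, ← Finset.sum_add_distrib]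
      exact Finset.sum_congr rfl fun k _ => by simp only [u1]; split_ifs <;> ring
    omega

end Cfsg.Agent.Leech.Unique
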