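import Mathlib
import Cfsg.Prelude.Def_Sporadic_a
import Cfsg.Agent.Leech.Unique.LatticeCode

/-! A rootless even lattice of rank 24 with many vectors of norm eight has a frame. -/

set_option autoImplicit false

namespace Cfsg.Agent.Leech.Unique
open Cfsg Cfsg.Agent.Leech Matrix Finset

variable (B : Matrix (Fin 24) (Fin 24) ℤ)

/-- the form -/
def bip (x y : Fin 24 → ℤ) : ℤ := x ⬝ᵥ (B *ᵥ y)

theorem bip_add_left (x y z : Fin 24 → ℤ) : bip B (x + y) z = bip B x z + bip B y z :=
  add_dotProduct _ _ _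

theorem bip_add_right (x y z : Fin 24 → ℤ) : bip B x (y + z) = bip B x y + bip B x z := by
  simp [bip, Matrix.mulVec_add, dotProduct_add]

theorem bip_smul_left (a : ℤ) (x y : Fin 24 → ℤ) : bip B (a • x) y = a * bip B x y :=
  smul_dotProduct a x _

theorem bip_smul_right (a : ℤ) (x y : Fin 24 → ℤ) : bip B x (a • y) = a * bip B x y := by
  unfold bip
  rw [Matrix.mulVec_smul, dotProduct_smul, smul_eq_mul]

theorem bip_sum_left {ι : Type*} (s : Finset ι) (f : ι → Fin 24 → ℤ) (y : Fin 24 → ℤ) :
    bip B (∑ i ∈ s, f i) y = ∑ i ∈ s, bip B (f i) y := sum_dotProduct s f _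

theorem bip_neg_left (x y : Fin 24 → ℤ) : bip B (-x) y = -bip B x y := neg_dotProduct _ _

theorem bip_comm (hsymm : B.IsSymm) (x y : Fin 24 → ℤ) : bip B x y = bip B y x := by
  unfold bip
  rw [Matrix.dotProduct_mulVec, ← Matrix.mulVec_transpose, hsymm.eq, dotProduct_comm]

variable {B}

theorem norm_two_smul (z : Fin 24 → ℤ) : bip B ((2 : ℤ) • z) ((2 : ℤ) • z) = 4 * bip B z z := by
  rw [bip_smul_left, bip_smul_right]; ring

/-- classes modulo two of short vectors -/
theorem short_congr (hsymm : B.IsSymm) (h4 : ∀ z, z ≠ 0 → 4 ≤ bip B z z) {x y : Fin 24 → ℤ}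
    (hx : bip B x x ≤ 8) (hy : bip B y y ≤ 8) (hxy : ∀ i, (2 : ℤ) ∣ x i - y i) (h1 : x ≠ y)
    (h2 : x ≠ -y) : bip B x x = 8 ∧ bip B y y = 8 ∧ bip B x y = 0 := by
  have key : ∀ s : ℤ, (s = 1 ∨ s = -1) → x ≠ s • y →
      16 ≤ bip B x x + bip B y y - 2 * s * bip B x y := by
    intro s hs hne
    have hdiv : ∀ i, (2 : ℤ) ∣ x i - s * y i := fun i => by
      rcases hs with rfl | rfl <;> have := hxy i <;> omega
    choose z hz using hdiv
    have hz0 : z ≠ 0 := fun e => hne (funext fun i => by
      have := hz i; rw [e] at this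
      simp only [Pi.zero_apply, mul_zero] at this
      simp only [Pi.smul_apply, smul_eq_mul]; omega)
    have he : (2 : ℤ) • z = x + (-s) • y := funext fun i => by
      have := hz i
      simp only [Pi.smul_apply, Pi.add_apply, smul_eq_mul]; rw [← this]; ring
    have h := norm_two_smul (B := B) z
    rw [he] at h
    simp only [bip_add_left, bip_add_right, bip_smul_left, bip_smul_right,
      bip_comm B hsymm y x] at h
    have := h4 z hz0
    rcases hs with rfl | rfl <;> omega
  have k1 := key 1 (Or.inl rfl) (by simpa using h1)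
  have k2 := key (-1) (Or.inr rfl) (by simpa using h2)
  omega

theorem exists_frame (hsymm : B.IsSymm) (hpos : ∀ x, x ≠ 0 → 0 < bip B x x)
    (heven : ∀ x, (2 : ℤ) ∣ bip B x x) (h2 : ∀ x, bip B x x ≠ 2)
    (n4 : {x | bip B x x = 4}.ncard = 196560) (n6 : {x | bip B x x = 6}.ncard = 16773120)
    (n8 : {x | bip B x x = 8}.ncard = 398034000) :
    ∃ f : Fin 24 → Fin 24 → ℤ, (∀ i, bip B (f i) (f i) = 8) ∧
      (∀ i j, i ≠ j → bip B (f i) (f j) = 0) ∧ ∀ i j k, (2 : ℤ) ∣ f i k - f j k := by
  classical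
  have h4 : ∀ z, z ≠ 0 → 4 ≤ bip B z z := fun z hz => by
    have := hpos z hz; have := h2 z; have := heven z; omega
  have fin4 := Set.finite_of_ncard_ne_zero (by rw [n4]; norm_num : {x | bip B x x = 4}.ncard ≠ 0)
  have fin6 := Set.finite_of_ncard_ne_zero (by rw [n6]; norm_num : {x | bip B x x = 6}.ncard ≠ 0)
  have fin8 := Set.finite_of_ncard_ne_zero (by rw [n8]; norm_num : {x | bip B x x = 8}.ncard ≠ 0)
  set F4 := fin4.toFinset with hF4
  set F6 := fin6.toFinset with hF6
  set F8 := fin8.toFinset with hF8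
  have c4 : F4.card = 196560 := by rw [hF4, ← Set.ncard_eq_toFinset_card _ fin4, n4]
  have c6 : F6.card = 16773120 := by rw [hF6, ← Set.ncard_eq_toFinset_card _ fin6, n6]
  have c8 : F8.card = 398034000 := by rw [hF8, ← Set.ncard_eq_toFinset_card _ fin8, n8]
  have m4 : ∀ x, x ∈ F4 ↔ bip B x x = 4 := fun x => by simp [hF4]
  have m6 : ∀ x, x ∈ F6 ↔ bip B x x = 6 := fun x => by simp [hF6]
  have m8 : ∀ x, x ∈ F8 ↔ bip B x x = 8 := fun x => by simp [hF8]
  clear_value F4 F6 F8
  let cls : (Fin 24 → ℤ) → (Fin 24 → ZMod 2) := fun x i => (x i : ZMod 2)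
  have hcls : ∀ x y, cls x = cls y → ∀ i, (2 : ℤ) ∣ x i - y i := fun x y h i => by
    have := intCast_two.1 (congrFun h i).symm; exact this
  have pm : ∀ x y, cls x = cls y → bip B x x ≤ 8 → bip B y y ≤ 8 → bip B x x ≠ 8 → x = y ∨ x = -y := by
    intro x y h hx hy h8
    by_contra hh
    obtain ⟨h1, h2⟩ := not_or.1 hh
    exact h8 (short_congr hsymm h4 hx hy (hcls x y h) h1 h2).1
  have two : ∀ F : Finset (Fin 24 → ℤ), (∀ x ∈ F, bip B x x ≤ 8 ∧ bip B x x ≠ 8) →
      F.card ≤ 2 * (F.image cls).card := by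
    intro F hF
    refine Finset.card_le_mul_card_image F 2 fun c hc => ?_
    obtain ⟨x, hx, rfl⟩ := Finset.mem_image.1 hc
    refine (Finset.card_le_card (t := ({x, -x} : Finset _)) fun y hy => ?_).trans Finset.card_le_two
    obtain ⟨hyF, hy⟩ := Finset.mem_filter.1 hy
    rcases pm y x hy (hF y hyF).1 (hF x hx).1 (hF y hyF).2 with e | e <;> simp [e]
  have e4 := two F4 fun x hx => by rw [(m4 x).1 hx]; norm_num
  have e6 := two F6 fun x hx => by rw [(m6 x).1 hx]; norm_num
  have hdis : ∀ (m n : ℤ) (F G : Finset (Fin 24 → ℤ)), (∀ x ∈ F, bip B x x = m) →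
      (∀ x ∈ G, bip B x x = n) → m < 8 → n ≤ 8 → m ≠ n →
      Disjoint (F.image cls) (G.image cls) := by
    intro m n F G hF hG hm hn hne
    refine Finset.disjoint_left.2 fun c hc hc' => ?_
    obtain ⟨x, hx, rfl⟩ := Finset.mem_image.1 hc
    obtain ⟨y, hy, e⟩ := Finset.mem_image.1 hc'
    rcases pm x y e.symm (by rw [hF x hx]; omega) (by rw [hG y hy]; omega) (by rw [hF x hx]; omega)
      with h | h
    · exact hne (by rw [← hF x hx, ← hG y hy, h])
    · refine hne ?_
      rw [← hF x hx, ← hG y hy, h, bip_neg_left, bip_comm B hsymm, bip_neg_left, neg_neg]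
  have hfib : ∃ c, 46 < (F8.filter fun x => cls x = c).card := by
    by_contra hno
    push Not at hno
    have e8 : F8.card ≤ 46 * (F8.image cls).card :=
      Finset.card_le_mul_card_image F8 46 fun c _ => hno c
    have hU : ((F4.image cls ∪ F6.image cls) ∪ F8.image cls).card ≤ 2 ^ 24 := by
      refine (Finset.card_le_univ _).trans ?_
      simp
    rw [Finset.card_union_of_disjoint (Finset.disjoint_union_left.2
        ⟨hdis 4 8 F4 F8 (fun x => (m4 x).1) (fun x => (m8 x).1) (by norm_num) le_rfl (by norm_num),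
          hdis 6 8 F6 F8 (fun x => (m6 x).1) (fun x => (m8 x).1) (by norm_num) le_rfl (by norm_num)⟩),
      Finset.card_union_of_disjoint
        (hdis 4 6 F4 F6 (fun x => (m4 x).1) (fun x => (m6 x).1) (by norm_num) (by norm_num) (by norm_num))] at hU
    omega
  obtain ⟨c, hc⟩ := hfib
  set Φ := F8.filter fun x => cls x = c
  have hΦ : ∀ x ∈ Φ, bip B x x = 8 ∧ cls x = c := fun x hx => by
    obtain ⟨h1, h2⟩ := Finset.mem_filter.1 hx; exact ⟨(m8 x).1 h1, h2⟩
  set T := Φ.filter fun x => toLex x < toLex (-x)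
  have hTΦ : Φ ⊆ T ∪ T.image Neg.neg := by
    intro x hx
    have hne : x ≠ -x := fun e => by
      have h8 := (hΦ x hx).1
      have hx0 : x = 0 := funext fun i => by
        have := congrFun e i; simp only [Pi.neg_apply] at this; simp only [Pi.zero_apply]; omega
      rw [hx0] at h8; simp [bip] at h8
    rcases lt_trichotomy (toLex x) (toLex (-x)) with h | h | h
    · exact Finset.mem_union_left _ (Finset.mem_filter.2 ⟨hx, h⟩)
    · exact absurd (toLex.injective h) hne
    · refine Finset.mem_union_right _ (Finset.mem_image.2 ⟨-x, Finset.mem_filter.2 ⟨?_, by rwa [neg_neg]⟩, neg_neg x⟩)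
      refine Finset.mem_filter.2 ⟨(m8 _).2 ?_, ?_⟩
      · rw [bip_neg_left, bip_comm B hsymm, bip_neg_left, neg_neg]; exact (hΦ x hx).1
      · rw [← (hΦ x hx).2]; funext i; simp [cls]
  have hT : 24 ≤ T.card := by
    have := (Finset.card_le_card hTΦ).trans (Finset.card_union_le _ _)
    have := Finset.card_image_le (s := T) (f := Neg.neg)
    omega
  obtain ⟨T', hT', hT'c⟩ := Finset.exists_subset_card_eq hT
  let f : Fin 24 → Fin 24 → ℤ := fun i => (T'.equivFinOfCardEq hT'c).symm i
  have hfT : ∀ i, f i ∈ T := fun i => hT' ((T'.equivFinOfCardEq hT'c).symm i).2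
  have hf : ∀ i, bip B (f i) (f i) = 8 ∧ cls (f i) = c ∧ toLex (f i) < toLex (-f i) := fun i => by
    obtain ⟨h1, h2⟩ := Finset.mem_filter.1 (hfT i)
    exact ⟨(hΦ _ h1).1, (hΦ _ h1).2, h2⟩
  have hfinj : Function.Injective f := Subtype.val_injective.comp (Equiv.injective _)
  refine ⟨f, fun i => (hf i).1, fun i j hij => ?_, fun i j => hcls _ _ ((hf i).2.1.trans (hf j).2.1.symm)⟩
  refine (short_congr hsymm h4 (hf i).1.le (hf j).1.le
    (hcls _ _ ((hf i).2.1.trans (hf j).2.1.symm)) (hfinj.ne hij) fun e => ?_).2.2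
  have h1 := (hf i).2.2
  rw [e, neg_neg] at h1
  exact lt_asymm h1 (hf j).2.2

/-- coordinates with respect to a frame -/
theorem lattice_unique (hsymm : B.IsSymm) (hpos : ∀ x, x ≠ 0 → 0 < bip B x x)
    (heven : ∀ x, (2 : ℤ) ∣ bip B x x) (h2 : ∀ x, bip B x x ≠ 2)
    (n4 : {x | bip B x x = 4}.ncard = 196560) (n6 : {x | bip B x x = 6}.ncard = 16773120)
    (n8 : {x | bip B x x = 8}.ncard = 398034000) :
    ∃ φ : (Fin 24 → ℤ) ≃+ leechLattice, ∀ x, sqNorm (φ x : GolayPt → ℤ) = 8 * bip B x x := by
  classical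
  obtain ⟨f, hf8, hf0, hfpar⟩ := exists_frame hsymm hpos heven h2 n4 n6 n8
  have hperp : ∀ z, (∀ i, bip B z (f i) = 0) → z = 0 := by
    intro z hz
    by_contra hne
    let v : Option (Fin 24) → Fin 24 → ℤ := fun o => o.elim z f
    have horth : ∀ o o', o ≠ o' → bip B (v o) (v o') = 0 := by
      rintro (_ | i) (_ | j) h
      · exact absurd rfl h
      · exact hz j
      · rw [bip_comm B hsymm]; exact hz i
      · exact hf0 i j fun e => h (by rw [e])
    have hli : LinearIndependent ℤ v := by
      rw [Fintype.linearIndependent_iff]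
      intro g hg o
      have h := congrArg (fun w => bip B w (v o)) hg
      simp only [bip_sum_left, bip_smul_left] at h
      rw [Finset.sum_eq_single o (fun o' _ ho => by rw [horth o' o ho, mul_zero])
        (fun hh => absurd (Finset.mem_univ o) hh)] at h
      have hnz : bip B (v o) (v o) ≠ 0 := by
        rcases o with _ | i
        · exact (hpos z hne).ne'
        · show bip B (f i) (f i) ≠ 0; rw [hf8]; norm_num
      have h0 : bip B (0 : Fin 24 → ℤ) (v o) = 0 := by simp [bip]
      rw [h0] at h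
      exact (mul_eq_zero.1 h).resolve_right hnz
    have := hli.fintype_card_le_finrank
    simp at this
  let co : (Fin 24 → ℤ) →+ (GolayPt → ℤ) := AddMonoidHom.mk'
    (fun x p => bip B x (f (Fintype.equivFinOfCardEq card_golayPt p)))
    (fun x y => funext fun p => bip_add_left B x y _)
  have hexp : ∀ x, (8 : ℤ) • x = ∑ i, bip B x (f i) • f i := by
    intro x
    rw [← sub_eq_zero]
    refine hperp _ fun j => ?_
    rw [sub_eq_add_neg, bip_add_left, bip_neg_left, bip_smul_left, bip_sum_left,
      Finset.sum_eq_single j (fun i _ hij => by rw [bip_smul_left, hf0 i j hij, mul_zero])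
        (fun hh => absurd (Finset.mem_univ j) hh), bip_smul_left, hf8]
    ring
  have hdot : ∀ x y, dotInt (co x) (co y) = 8 * bip B x y := by
    intro x y
    have h := congrArg (fun w => bip B w y) (hexp x)
    simp only [bip_smul_left, bip_sum_left] at h
    rw [h]
    refine Fintype.sum_equiv (Fintype.equivFinOfCardEq card_golayPt) _ _ fun p => ?_
    show bip B x _ * bip B y _ = _
    rw [bip_comm B hsymm y]
  have hsq : ∀ x, sqNorm (co x) = 8 * bip B x x := fun x => by
    rw [← hdot]; exact Finset.sum_congr rfl fun p _ => sq _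
  set M := co.range with hM
  have hlike : LikeLeech M := by
    refine ⟨?_, ?_, ?_, ?_, ?_, ?_⟩
    · rintro _ ⟨x, rfl⟩ _ ⟨y, rfl⟩
      rw [hdot]; exact dvd_mul_right _ _
    · rintro _ ⟨x, rfl⟩
      rw [hsq]; have := heven x; omega
    · rintro _ ⟨x, rfl⟩ h0
      have hx : x ≠ 0 := fun e => h0 (by rw [e, map_zero])
      have := hpos x hx; have := h2 x; have := heven x
      rw [hsq]; omega
    · intro i j hij
      set E := Fintype.equivFinOfCardEq card_golayPt
      have hij' : E i ≠ E j := E.injective.ne hij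
      choose g hg using fun k => hfpar (E i) (E j) k
      have hv : ∀ p (s : GolayPt), bip B (f (E s)) (f (E p)) = if p = s then 8 else 0 := fun p s => by
        split_ifs with h
        · rw [h, hf8]
        · exact hf0 _ _ (E.injective.ne (Ne.symm h))
      have hfd : f (E i) = f (E j) + (2 : ℤ) • g := funext fun k => by
        have := hg k; simp only [Pi.add_apply, Pi.smul_apply, smul_eq_mul]; omega
      refine ⟨⟨f (E j) + g, funext fun p => ?_⟩, ⟨g, funext fun p => ?_⟩⟩
      all_goals
        show bip B _ (f (E p)) = _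
        have h1 := congrArg (fun w => bip B w (f (E p))) hfd
        simp only [bip_add_left, bip_smul_left, hv] at h1
        try simp only [bip_add_left, hv]
        split_ifs at h1 ⊢ <;> omega
    · rintro _ ⟨x, rfl⟩ i j
      set E := Fintype.equivFinOfCardEq card_golayPt
      choose g hg using fun k => hfpar (E i) (E j) k
      have hfd : f (E i) = f (E j) + (2 : ℤ) • g := funext fun k => by
        have := hg k; simp only [Pi.add_apply, Pi.smul_apply, smul_eq_mul]; omega
      show (2 : ℤ) ∣ bip B x (f (E i)) - bip B x (f (E j))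
      rw [hfd, bip_add_right, bip_smul_right]
      exact ⟨bip B x g, by ring⟩
    · have hinj : Function.Injective co := by
        refine (injective_iff_map_eq_zero co).2 fun x hx => ?_
        by_contra hne
        have := hsq x; rw [hx] at this
        have h0 : sqNorm (0 : GolayPt → ℤ) = 0 := by simp [sqNorm]
        have := hpos x hne; omega
      rw [← n4, ← Set.ncard_image_of_injective {x | bip B x x = 4} hinj]
      congr 1
      ext v
      constructor
      · rintro ⟨⟨x, rfl⟩, hx⟩
        rw [hsq] at hx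
        exact ⟨x, by show bip B x x = 4; omega, rfl⟩
      · rintro ⟨x, hx, rfl⟩
        exact ⟨⟨x, rfl⟩, by rw [hsq, show bip B x x = 4 from hx]; norm_num⟩
  have hinj : Function.Injective co := by
    refine (injective_iff_map_eq_zero co).2 fun x hx => ?_
    by_contra hne
    have := hsq x; rw [hx] at this
    have h0 : sqNorm (0 : GolayPt → ℤ) = 0 := by simp [sqNorm]
    have := hpos x hne; omega
  obtain ⟨σ, d, hmono⟩ := hlike.exists_mono
  let ψ : (Fin 24 → ℤ) →+ (GolayPt → ℤ) := (monoMap σ d).toAddMonoidHom.comp co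
  have hψ : ψ.range = leechLattice := by
    rw [← hmono, hM, AddMonoidHom.map_range]
  refine ⟨(AddMonoidHom.ofInjective (f := ψ) ((monoMap σ d).injective.comp hinj)).trans
    (AddEquiv.addSubgroupCongr hψ), fun x => ?_⟩
  show sqNorm (monoMap σ d (co x)) = _
  rw [norm_monoMap, hsq]

end Cfsg.Agent.Leech.Unique
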